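import Cfsg.Agent.K35.Loc
import Cfsg.Agent.P8.TYP
import Cfsg.Agent.P8.PjB
import Cfsg.Agent.P8.Bas1
import Cfsg.Agent.P8.Brg
import Cfsg.Agent.S0033
import Cfsg.Agent.S0144
import Cfsg.Agent.S0721
import Cfsg.Agent.Solv.MinNormal
import Cfsg.Agent.Solv.Nilpotent

/-!
# Simple groups of order `2 ^ b * 3 ^ a * 5`: types of non-solvable subgroups of characteristic 2
-/

set_option autoImplicit false

namespace Cfsg.Lib.K35

open Cfsg Subgroup Cfsg.Lib.Trans Cfsg.Lib.Gold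
open Cfsg.Lib.P8 (A5 A6 S5 O2 Om Jt Phi EA SR4 Ch E9 Pj Ty Sec SecOK Mx)
open scoped commutatorElement

universe u

namespace Typ

variable {X : Type u} [Group X] [Finite X] {a b : ℕ}

theorem nil {r : ℕ} {t : X} (hr : r.Prime) (ht : t ^ r = 1) (B : Subgroup X)
    (h1 : ∀ g ∈ B, t * g * t⁻¹ ∈ B) (h2 : ∀ g ∈ B, g * t = t * g → g = 1) :
    Group.IsNilpotent B := by
  have := Fact.mk hr
  have h3 : MonoidHom.FixedPointFree (B.normalizerMonoidHom ⟨t, mem_normalizer_fintype h1⟩) :=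
    fun g hg => Subtype.ext (h2 g g.2 (mul_inv_eq_iff_eq_mul.1 (congrArg Subtype.val hg)).symm)
  by_cases h4 : B.normalizerMonoidHom ⟨t, mem_normalizer_fintype h1⟩ = 1
  · have : Subsingleton B := ⟨fun a b => by rw [h3 a (by rw [h4]; rfl), h3 b (by rw [h4]; rfl)]⟩
    infer_instance
  · exact Cfsg.Agent.S0033.result _ h3 r hr (orderOf_eq_prime (by
      rw [← map_pow, ← map_one B.normalizerMonoidHom]; exact congrArg _ (Subtype.ext ht)) h4)

theorem five (hd : Nat.card X ∣ 2 ^ b * 3 ^ a * 5) (ns : ¬ Group.IsSolvable X) :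
    5 ∣ Nat.card X := by
  by_contra h5
  obtain ⟨m, n, hm, hn, e⟩ := (Nat.dvd_mul).1
    (Nat.Coprime.dvd_of_dvd_mul_right ((Nat.prime_five.coprime_iff_not_dvd.2 h5).symm) hd)
  obtain ⟨i, -, rfl⟩ := (Nat.dvd_prime_pow Nat.prime_two).1 hm
  obtain ⟨j, -, rfl⟩ := (Nat.dvd_prime_pow Nat.prime_three).1 hn
  exact ns (Cfsg.Agent.S0144.result 2 3 i j Nat.prime_two Nat.prime_three e.symm)

omit [Group X] [Finite X] in
theorem n25 {n : ℕ} (hd : n ∣ 2 ^ b * 3 ^ a * 5) : ¬ 5 ^ 2 ∣ n := fun h => by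
  have k := Nat.dvd_of_mul_dvd_mul_right (by decide : 0 < 5) ((pow_two 5 ▸ h).trans hd)
  rcases (Nat.Prime.dvd_mul Nat.prime_five).1 k with e | e <;>
    exact absurd (Nat.prime_five.dvd_of_dvd_pow e) (by decide)

omit [Group X] [Finite X] in
theorem pr {p : ℕ} (hp : p.Prime) (hd : p ∣ 2 ^ b * 3 ^ a * 5) : p = 2 ∨ p = 3 ∨ p = 5 := by
  rcases (Nat.Prime.dvd_mul hp).1 hd with e | e
  · rcases (Nat.Prime.dvd_mul hp).1 e with e | e
    · exact .inl ((Nat.prime_dvd_prime_iff_eq hp Nat.prime_two).1 (hp.dvd_of_dvd_pow e))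
    · exact .inr (.inl ((Nat.prime_dvd_prime_iff_eq hp Nat.prime_three).1 (hp.dvd_of_dvd_pow e)))
  · exact .inr (.inr ((Nat.prime_dvd_prime_iff_eq hp Nat.prime_five).1 e))

theorem soc (hd : Nat.card X ∣ 2 ^ b * 3 ^ a * 5) (ns : ¬ Group.IsSolvable X)
    (c5 : ∀ σ : X, orderOf σ = 5 → ∀ g, g * σ = σ * g → g ^ 5 = 1) (h2 : pCore 2 X = ⊥)
    (h3 : ∀ N : Subgroup X, N.Normal → IsPGroup 3 N → N = ⊥) :
    ∃ L : Subgroup X, L.Normal ∧ IsSimpleGroup L ∧ ¬ IsMulCommutative L ∧ Cs L = ⊥ := by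
  classical
  have := Fact.mk Nat.prime_five
  have sol : ∀ σ : X, orderOf σ = 5 → ∀ N : Subgroup X, (∀ g ∈ N, g * σ = σ * g) →
      Group.IsSolvable N := fun σ o N e => by
    have k : IsPGroup 5 N := fun c => ⟨1, Subtype.ext (by simpa using c5 σ o c (e c c.2))⟩
    have := k.isNilpotent
    infer_instance
  have hs : ∀ K : Subgroup X, K.Normal → Group.IsSolvable K → K = ⊥ := fun K _ _ => by
    by_contra k
    obtain ⟨p, N, hp, h1, -, -, he, hN⟩ := Solv.exists_isMinNormal_elementary_le K k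
    have hn := h1.normal
    have := Fact.mk hp
    obtain ⟨c, hc, c1⟩ := N.bot_or_exists_ne_one.resolve_left h1.ne_bot
    have oc : orderOf c = p := orderOf_eq_prime (he c hc) c1
    rcases pr hp ((oc ▸ orderOf_dvd_natCard c).trans hd) with rfl | rfl | rfl
    · exact h1.ne_bot (le_bot_iff.1
        (h2 ▸ le_sSup (s := {N : Subgroup X | N.Normal ∧ IsPGroup 2 N}) ⟨hn, hN⟩ : N ≤ ⊥))
    · exact h1.ne_bot (h3 N hn hN)
    · obtain ⟨n, hc'⟩ := IsPGroup.iff_card.1 hN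
      have n1 : n = 1 := by
        have d := hc' ▸ card_subgroup_dvd_card N
        rcases n with _ | _ | n
        · exact absurd (card_eq_one.1 hc') h1.ne_bot
        · rfl
        · exact absurd ((pow_dvd_pow 5 (by omega : 2 ≤ n + 1 + 1)).trans d) (n25 hd)
      have : IsCyclic N := isCyclic_of_prime_card (by rw [hc', n1, pow_one])
      have : Group.IsSolvable (MulAut N) := Group.isSolvable_of_isSolvable_injective
        (f := (IsCyclic.mulAutMulEquiv N).toMonoidHom) (IsCyclic.mulAutMulEquiv N).injective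
      have := sol c oc (MulAut.conjNormal : X →* MulAut N).ker fun g hg => mul_inv_eq_iff_eq_mul.1
        (congrArg Subtype.val (DFunLike.congr_fun (MonoidHom.mem_ker.1 hg) (⟨c, hc⟩ : N)))
      exact ns (Group.isSolvable_of_ker_le_range (MulAut.conjNormal : X →* MulAut N).ker.subtype
        (MulAut.conjNormal : X →* MulAut N) (range_subtype _).ge)
  have : Nontrivial X := by
    by_contra h
    rw [not_nontrivial_iff_subsingleton] at h
    exact ns inferInstance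
  obtain ⟨L, hL⟩ := Solv.exists_isMinNormal X
  have hn := hL.normal
  have nL : ¬ Group.IsSolvable L := fun k => hL.ne_bot (hs L hn k)
  have dL := (card_subgroup_dvd_card L).trans hd
  have d5 := five dL nL
  refine ⟨L, hn, ?_, fun k => nL (Group.isSolvable_of_comm k.is_comm.comm), ?_⟩
  · obtain ⟨T, _, m, hT, hm, ⟨e⟩⟩ := Cfsg.Agent.S0721.result L hL.ne_bot hL.min
    have : Finite (Fin m → T) := Finite.of_equiv _ e.toEquiv
    have : Finite T :=
      Finite.of_injective (fun (t : T) (_ : Fin m) => t) fun a b k => congrFun k ⟨0, hm⟩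
    rw [Nat.card_congr e.toEquiv, Nat.card_fun, Nat.card_fin] at d5 dL
    obtain rfl | h1 : m = 1 ∨ 1 < m := by omega
    · exact (e.trans (MulEquiv.funUnique _ _)).isSimpleGroup
    · exact absurd ((pow_dvd_pow 5 h1).trans
        (pow_dvd_pow_of_dvd (Nat.prime_five.dvd_of_dvd_pow d5) m)) (n25 dL)
  · obtain ⟨σ, hσ⟩ := exists_prime_orderOf_dvd_card' 5 d5
    exact hs _ inferInstance (sol σ (by rw [Subgroup.orderOf_coe, hσ]) _
      fun g hg => (hg σ σ.2).symm)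

end Typ

theorem typ : StTyp.{u} := fun G _ _ gl H ch ne ns => by
  have := Fact.mk Nat.prime_five
  have := Fact.mk Nat.prime_two
  have := P8.pf_Bas1.{u}
  have := P8.pf_PjB.{u, u}
  have := gl.sim
  obtain ⟨X, _, _, π, pj, o2⟩ := P8.BrgH.quo H
  obtain ⟨-, cX, -, -, sX⟩ := P8.PjB.card pj
  obtain ⟨b, a, -, cG⟩ := gl.ord
  have hd : Nat.card X ∣ 2 ^ b * 3 ^ a * 5 :=
    cG ▸ (cX ▸ relIndex_dvd_card (O2 H) H).trans (card_subgroup_dvd_card H)
  have nX : ¬ Group.IsSolvable X := fun h => ns (sX h)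
  have lift : ∀ σ : X, Odd (orderOf σ) → ∃ y ∈ H, π y = σ ∧ orderOf y = orderOf σ := fun σ o => by
    obtain ⟨g, hg, rfl⟩ := pj.sur σ
    obtain ⟨y, hy, e⟩ := P8.PjBH.odd pj g hg o
    exact ⟨y, zpowers_le.2 hg hy, e⟩
  have p5 : ∀ y : G, orderOf y = 5 → ∀ g, g * y = y * g → g ^ 5 = 1 := fun y o g e => by
    obtain ⟨i, rfl⟩ := mem_zpowers_iff.1 (gl.c5 y o ▸ mem_C1.2 e)
    rw [← zpow_natCast, ← zpow_mul, mul_comm, zpow_mul, zpow_natCast, ← o, pow_orderOf_eq_one,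
      one_zpow]
  have c5 : ∀ σ : X, orderOf σ = 5 → ∀ g, g * σ = σ * g → g ^ 5 = 1 := fun σ o g e => by
    obtain ⟨y, hy, rfl, oy⟩ := lift σ (by rw [o]; decide)
    obtain ⟨c, hc, e1, rfl⟩ := P8.PjB.cen pj y hy (by rw [oy, o]; decide) g e
    rw [← P8.PjBH.pow pj hc, p5 y (oy.trans o) c e1, P8.PjBH.one pj]
  have h3 : ∀ N : Subgroup X, N.Normal → IsPGroup 3 N → N = ⊥ := fun N hN k => by
    obtain ⟨σ, hσ⟩ := exists_prime_orderOf_dvd_card' 5 (Typ.five hd nX)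
    obtain ⟨y, hy, rfl, oy⟩ := lift σ (by rw [hσ]; decide)
    obtain ⟨A, hA, le, -⟩ := P8.PjB.pre pj N
    have o3 : ∀ n ∈ N, ∃ i, orderOf n ∣ 3 ^ i := fun n hn =>
      (k ⟨n, hn⟩).imp fun i e => orderOf_dvd_of_pow_eq_one (congrArg Subtype.val e)
    have o2 : ∀ q ∈ O2 H, ∃ i, orderOf q ∣ 2 ^ i := fun q hq =>
      (pj.two ⟨q, hq⟩).imp fun i e => orderOf_dvd_of_pow_eq_one (congrArg Subtype.val e)
    have nA := Typ.nil Nat.prime_five (by rw [← hσ, ← oy, pow_orderOf_eq_one] : y ^ 5 = 1) A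
      (fun g hg => (hA _).2 ⟨mul_mem (mul_mem hy ((hA g).1 hg).1) (inv_mem hy), by
        rw [P8.PjBH.cj pj hy ((hA g).1 hg).1]; exact hN.conj_mem _ ((hA g).1 hg).2 _⟩)
      fun g hg e => by
        obtain ⟨g1, g2⟩ := (hA g).1 hg
        have e5 := p5 y (oy.trans hσ) g e
        obtain ⟨i, hi⟩ := o3 _ g2
        have e1 : π g = 1 := orderOf_eq_one_iff.1 (Nat.eq_one_of_dvd_coprimes
          (Nat.Coprime.pow_left i (by decide : Nat.Coprime 3 5)) hi (orderOf_dvd_of_pow_eq_one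
            (by rw [← P8.PjBH.pow pj g1, e5, P8.PjBH.one pj])))
        obtain ⟨j, hj⟩ := o2 g ((pj.ker g g1).1 e1)
        exact orderOf_eq_one_iff.1 (Nat.eq_one_of_dvd_coprimes
          (Nat.Coprime.pow_left j (by decide : Nat.Coprime 2 5)) hj (orderOf_dvd_of_pow_eq_one e5))
    refine eq_bot_iff.2 fun n hn => ?_
    obtain ⟨i, hi⟩ := o3 n hn
    obtain ⟨c, hc, rfl, oc⟩ := lift n (Odd.of_dvd_nat (Odd.pow (by decide)) hi)
    refine (pj.ker c hc).2 (ch ⟨hc, mem_Cs.2 fun q hq => ?_⟩)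
    obtain ⟨j, hj⟩ := o2 q hq
    exact (Solv.commute_of_mem_of_coprime_of_isNilpotent nA (le hq) ((hA c).2 ⟨hc, hn⟩)
      (Nat.Coprime.coprime_dvd_left hj (Nat.Coprime.coprime_dvd_right (oc ▸ hi)
        (Nat.Coprime.pow j i (by decide))))).eq
  obtain ⟨L, _, sL, nc, cL⟩ := Typ.soc hd nX c5 o2 h3
  have nt : H ≠ ⊤ := by
    rintro rfl
    have : (O2 (⊤ : Subgroup G)).Normal := normalizer_eq_top_iff.1 (top_le_iff.1 (P8.PjBH.nor pj))
    have k := pj.two.to_le ((this.eq_bot_or_eq_top.resolve_left ne).ge)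
    have := k.isNilpotent
    exact ns inferInstance
  obtain ⟨A, hA, -, -, -, π', pj', -⟩ := P8.PjB.pre pj L
  obtain ⟨f, -, fs, -⟩ := P8.PjBH.hom pj'
  have e := QuotientGroup.quotientKerEquivOfSurjective f fs
  have ty : Ty H (O2 H) π := ⟨pj, rfl, ch, ne⟩
  rcases gl.sc A f.ker (fun k => nt (top_le_iff.1 fun g _ => ((hA g).1 (k ▸ mem_top g)).1))
    e.isSimpleGroup (fun k => nc ⟨⟨fun c d => e.symm.injective (by
      rw [map_mul, map_mul]; exact k.is_comm.comm _ _)⟩⟩) with ⟨⟨k⟩⟩ | ⟨⟨k⟩⟩ | ⟨F, _, _, cF, ⟨k⟩⟩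
  · rcases P8.TYPH.a5 L (e.symm.trans k) cL with k' | ⟨⟨k'⟩⟩
    · exact .inl ⟨_, (P8.PjB.equiv (topEquiv.symm.trans
        ((MulEquiv.subgroupCongr k').symm.trans (e.symm.trans k)))).2 ty⟩
    · exact .inr (.inl ⟨_, (P8.PjB.equiv k').2 ty⟩)
  · exact .inr (.inr ⟨X, _, ‹_›, π, L, ty, ‹_›, cL, .inl ⟨e.symm.trans k⟩⟩)
  · exact .inr (.inr ⟨X, _, ‹_›, π, L, ty, ‹_›, cL, .inr ⟨F, _, _, cF, ⟨e.symm.trans k⟩⟩⟩)

end Cfsg.Lib.K35
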