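import Cfsg.Agent.K35.B
import Cfsg.Agent.K35.Typ
import Cfsg.Agent.P8.A5F
import Cfsg.Agent.P8.M7K
import Cfsg.Agent.P8.E73
import Cfsg.Agent.P8.PjB
import Cfsg.Agent.P8.Bas1
import Cfsg.Agent.QET.KclA

/-! A maximal 2-local subgroup containing a Sylow 2-subgroup has type `A₅`. -/

set_option autoImplicit false

namespace Cfsg.Lib.K35

open Cfsg Subgroup Cfsg.Lib.Trans Cfsg.Lib.Gold
open Cfsg.Lib.P8 (A5 A6 S5 O2 Om Jt Phi EA SR4 Ch E9 Pj Ty Sec SecOK Mx)
open scoped commutatorElement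

universe u

namespace A0

theorem fac (b m : ℕ) (hm : ¬ 2 ∣ m) : (2 ^ b * m).factorization 2 = b := by
  rw [Nat.factorization_mul (by positivity) (by rintro rfl; simp at hm)]
  simp [Nat.prime_two.factorization_pow, Nat.factorization_eq_zero_of_not_dvd hm]

theorem e9_of {X : Type*} [Group X] [Finite X] (h : ¬ PRankLE 3 2 X) : ∃ a b : X, E9 a b := by
  have : Fact (Nat.Prime 3) := ⟨Nat.prime_three⟩
  simp only [PRankLE, not_forall, not_le] at h
  obtain ⟨A, hA, h3, hc⟩ := h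
  have k : ∀ a : X, a ^ 3 = 1 → ∃ b ∈ A, b ∉ zpowers a := fun a ha => by
    by_contra hn
    push Not at hn
    have := Trans.card_le_of_le (show A ≤ zpowers a from hn)
    have := Nat.le_of_dvd (by decide) (orderOf_dvd_of_pow_eq_one ha)
    rw [Nat.card_zpowers] at *
    omega
  obtain ⟨a, ha, a1⟩ := k 1 (one_pow _)
  obtain ⟨b, hb, b1⟩ := k a (h3 a ha)
  exact ⟨a, b, orderOf_eq_prime (h3 a ha) (fun e => a1 (by rw [e]; exact one_mem _)),
    orderOf_eq_prime (h3 b hb) (fun e => b1 (by rw [e]; exact one_mem _)), setLike_mul_comm (s := A) ha hb, b1⟩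

theorem e9_L {L : Type*} [Group L] (h : Nonempty (L ≃* A6) ∨ U42 L) : ∃ a b : L, E9 a b := by
  have k : ∀ {Y : Type} [Group Y], (L ≃* Y) → (∃ a b : Y, E9 a b) → ∃ a b : L, E9 a b :=
    fun e ⟨a, b, h⟩ => ⟨_, _, (P8.M7H.e9_map (f := e.symm.toMonoidHom) e.symm.injective).2 h⟩
  rcases h with ⟨⟨e⟩⟩ | ⟨F, _, _, hF, ⟨e⟩⟩
  · exact k e P8.M7H.e9_A6
  · have := P8.E73H.charP hF
    exact k e (e9_of (QET.KclA.su (n := 0) hF))

variable {G : Type u} [Group G] [Finite G]

theorem mem9 (h : PRankLE 3 2 G) {a b r : G} (e : E9 a b) (o : orderOf r = 3) (ha : r * a = a * r)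
    (hb : r * b = b * r) : r ∈ closure ({a, b} : Set G) := by
  have : Fact (Nat.Prime 3) := ⟨Nat.prime_three⟩
  by_contra hn
  have cm : ∀ x ∈ ({a, b, r} : Set G), ∀ y ∈ ({a, b, r} : Set G), x * y = y * x := by
    rintro x (rfl | rfl | rfl) y (rfl | rfl | rfl) <;> simp only [e.2.2.1, ha, hb]
  have c : IsMulCommutative (closure ({a, b, r} : Set G)) := isMulCommutative_closure cm
  have p3 : ∀ x ∈ closure ({a, b, r} : Set G), x ^ 3 = 1 := fun x hx => by
    induction hx using closure_induction with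
    | mem x hx =>
      rcases hx with rfl | rfl | rfl
      exacts [e.1 ▸ pow_orderOf_eq_one x, e.2.1 ▸ pow_orderOf_eq_one x, o ▸ pow_orderOf_eq_one x]
    | one => exact one_pow _
    | mul x y hx hy h1 h2 =>
      rw [(show Commute x y from setLike_mul_comm (s := closure ({a, b, r} : Set G)) hx hy).mul_pow,
        h1, h2, mul_one]
    | inv x _ h1 => rw [inv_pow, h1, inv_one]
  have l1 : closure ({a, b} : Set G) ≤ closure {a, b, r} :=
    closure_mono (by intro x hx; rcases hx with rfl | rfl <;> simp)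
  have c1 := card_lt_of_lt (lt_of_le_of_ne l1 fun k => hn (k ▸ subset_closure (by simp)))
  have c2 := card_lt_of_lt (lt_of_le_of_ne (zpowers_le.2 (subset_closure (by simp)) :
    zpowers a ≤ closure ({a, b} : Set G)) fun k => e.2.2.2 (k ▸ subset_closure (by simp)))
  have c3 := h _ c p3
  have pg : IsPGroup 3 (closure ({a, b} : Set G)) := fun x =>
    ⟨1, Subtype.ext (by simpa using p3 x (l1 x.2))⟩
  obtain ⟨n, hn⟩ := pg.exists_card_eq
  rw [Nat.card_zpowers, e.1, hn] at c2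
  rw [hn] at c1
  have : 2 ≤ n := by
    by_contra k
    have : n = 0 ∨ n = 1 := by omega
    rcases this with rfl | rfl <;> simp at c2
  have := Nat.pow_le_pow_right (by decide : 0 < 3) this
  omega

theorem mv : ∀ p : Fin 5, ∃ g : A5, g.1 p = 4 := by decide +kernel

end A0

open A0

theorem a0 (hTyp : StTyp.{u}) (hA3 : StA3.{u}) (hD10 : StD10.{u}) : StA0.{u} := by
  intro G _ _ gl M S mx ns le hS
  have := Fact.mk Nat.prime_five
  have := Fact.mk Nat.prime_three
  have := Fact.mk Nat.prime_two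
  have := P8.pf_Bas1.{u}
  have := P8.pf_PjB.{u, u}
  have := P8.pf_PjB.{u, 0}
  have := gl.sim
  obtain ⟨b, a, hb, hc⟩ := gl.ord
  have h5 : 5 ∣ Nat.card M := Typ.five (hc ▸ card_subgroup_dvd_card M) ns
  have nM : M ≤ Ns (O2 M) := Local.le_normalizer_pCoreOf M
  have two : IsPGroup 2 (O2 M) := Local.isPGroup_pCoreOf M
  have hM : M ≠ ⊤ := by
    rintro rfl
    have : (O2 (⊤ : Subgroup G)).Normal := normalizer_eq_top_iff.1 (top_le_iff.1 nM)
    exact ns (B.sol2 ((this.eq_bot_or_eq_top.resolve_left mx.ne) ▸ two))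
  have a3 := hA3 G gl M S hM le hS h5
  have hSM : IsSylowIn 2 S M := hS.mono le le_top
  refine ⟨a3, ?_⟩
  rcases hTyp G gl M mx.ch mx.ne ns with ⟨π, ty⟩ | ⟨π, ty⟩ | ⟨X, _, _, π, L, ty, -, -, hL⟩
  · obtain ⟨l, S', hS'⟩ := P8.PjB.syl ty.toPj S hSM
    obtain ⟨p, e⟩ := P8.A5FH.syl S'
    obtain ⟨g, hg⟩ := mv p
    rw [e] at hS'
    have ty' := (P8.PjB.equiv (MulAut.conj g)).2 ty
    obtain ⟨y, hy, ey⟩ := ty'.sur x0
    have o : orderOf x0 = 3 := orderOf_eq_prime (by decide +kernel) (by decide +kernel)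
    obtain ⟨x, hx, ex, ox⟩ := P8.PjB.odd ty'.toPj y hy (by rw [ey, o]; decide)
    refine ⟨_, x, ty', fun h => ?_, zpowers_le.2 hy hx, by rw [ox, ey, o], ex.trans ey,
      B.fp5 gl M two⟩
    have k : MulAut.conj g (π h) * MulAut.conj g (π h) = 1 ∧ (MulAut.conj g (π h)).1 4 = 4 ↔
        π h ∈ P8.A5FH.V p := by
      rw [← map_mul, MulEquiv.map_eq_one_iff, MulAut.conj_apply, coe_mul, coe_mul,
        Equiv.Perm.mul_apply, Equiv.Perm.mul_apply, coe_inv, ← hg, Equiv.Perm.inv_def,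
        Equiv.symm_apply_apply, g.1.injective.eq_iff, and_comm]
      rfl
    rw [k, hS']
    exact ⟨fun m => ⟨le m, h, m, rfl⟩, fun ⟨m, t, ht, r⟩ => by
      simpa using mul_mem ht (l ((P8.PjBH.eq_iff ty.toPj (le ht) m).1 r))⟩
  · exfalso
    obtain ⟨l, S', hS'⟩ := P8.PjB.syl ty.toPj S hSM
    obtain ⟨B', hB, c⟩ := P8.PjB.im ty.toPj S le
    obtain ⟨y, hy, oy⟩ := P8.Bas1H.exists_ord Nat.prime_five h5
    obtain ⟨⟨k, hk⟩, -⟩ := hD10 G M ⊥ (O2 M) y two bot_le ty.le (le_normalizer_of_normal) nM hy oy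
      (B.fp5 gl M two y hy oy)
    have e := card_mul_relIndex l
    rw [← c, show B' = S' from ext fun y => (hB y).trans (hS' y).symm, S'.card_eq_multiplicity,
      show Nat.card S5 = 2 ^ 3 * 15 by
        rw [Nat.card_eq_fintype_card, Fintype.card_perm, Fintype.card_fin]; rfl, fac 3 15 (by decide), hS.card_eq, card_top, hc,
      mul_assoc, fac b _ (Odd.not_two_dvd_nat (Odd.mul (Odd.pow (by decide)) (by decide))),
      ← relIndex_bot_left, hk, show 16 = 2 ^ 4 from rfl, ← pow_mul, ← pow_add] at e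
    have := Nat.pow_right_injective (le_refl 2) e
    obtain ⟨j, rfl⟩ := hb
    omega
  · exfalso
    obtain ⟨a0, b0, e0⟩ := e9_L hL
    have e1 := (P8.M7H.e9_map (f := L.subtype) Subtype.val_injective).2 e0
    generalize L.subtype a0 = a1, L.subtype b0 = b1 at e1
    obtain ⟨a2, h2, rfl⟩ := ty.sur a1
    obtain ⟨a, ha, ea, oa⟩ := P8.PjB.odd ty.toPj a2 h2 (by rw [e1.1]; decide)
    have aM : a ∈ M := zpowers_le.2 h2 ha
    rw [e1.1] at oa
    obtain ⟨b2, h3, cb, rfl⟩ := P8.PjB.cen ty.toPj a aM (by rw [oa]; decide) b1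
      (by rw [ea, e1.2.2.1])
    obtain ⟨b, hb, eb, ob⟩ := P8.PjB.odd ty.toPj b2 h3 (by rw [e1.2.1]; decide)
    have bM : b ∈ M := zpowers_le.2 h3 hb
    have e9 : E9 a b := ⟨oa, ob.trans e1.2.1,
      (mem_C1.1 (zpowers_le.2 (mem_C1.2 cb) hb)).symm, fun k => e1.2.2.2 (by
        obtain ⟨i, rfl⟩ := mem_powers_iff_mem_zpowers.2 k
        rw [← eb, ← ea]
        dsimp only
        rw [P8.PjBH.pow ty.toPj aM]
        exact pow_mem (mem_zpowers _) _)⟩
    have p3 : IsPGroup 3 ↥(zpowers a ⊔ zpowers b) := by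
      have k : ∀ c : G, orderOf c = 3 → IsPGroup 3 (zpowers c) := fun c hc =>
        IsPGroup.of_card (n := 1) (by rw [Nat.card_zpowers, hc, pow_one])
      refine (k a e9.1).to_sup_of_normal_right' (k b e9.2.1) (zpowers_le.2 (Cs_le_Ns ?_))
      rw [Cs_zpowers]
      exact mem_C1.2 e9.2.2.1
    obtain ⟨R, hR, l⟩ := exists_isSylowIn_ge p3 le_top
    have aR : a ∈ R := l (mem_sup_left (mem_zpowers a))
    have bR : b ∈ R := l (mem_sup_right (mem_zpowers b))
    have rk := gl.n3 R hR (fun Y => a3.no2 R Y hR) (O2 M) a b two mx.ne (nM aM) (nM bM) e9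
    obtain ⟨r, -, hr, o⟩ := exists_orderOf_eq_mem_centralizer hR.isPGroup hR.isPGroup le_normalizer
      fun e => e9.2.2.2 (by rw [show b = 1 from mem_bot.1 (e ▸ bR)]; exact one_mem _)
    have m := mem9 rk e9 o (mem_centralizer_iff.1 hr a aR).symm (mem_centralizer_iff.1 hr b bR).symm
    refine a3.nc r ((closure_le M).2 ?_ m) o R hR fun s hs => mem_C1.2 (mem_centralizer_iff.1 hr s hs)
    rintro _ (rfl | rfl)
    exacts [aM, bM]

end Cfsg.Lib.K35
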