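import Cfsg.Agent.K35.Loc
import Cfsg.Agent.P8.Bas1
import Cfsg.Agent.P8.BasJ
import Cfsg.Agent.P8.PjB

/-!
# A maximal non-solvable 2-local subgroup contains a Sylow 2-subgroup
-/

set_option autoImplicit false

namespace Cfsg.Lib.K35

open Cfsg Subgroup Cfsg.Lib.Trans Cfsg.Lib.Gold
open Cfsg.Lib.P8 (A5 A6 S5 O2 Om Jt Phi EA SR4 Ch E9 Pj Ty Sec SecOK Mx)
open scoped commutatorElement

universe u

namespace B

variable {G : Type u} [Group G] [Finite G]

theorem fp5 (hG : Gl G) (M : Subgroup G) {T : Subgroup G} (hT : IsPGroup 2 T) : Fp5 M T := by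
  intro y _ hy
  rw [hG.c5 y hy]
  have h5 : IsPGroup 5 (zpowers y) := IsPGroup.of_card (n := 1) (by rw [Nat.card_zpowers, hy]; rfl)
  haveI : Fact (Nat.Prime 5) := ⟨by norm_num⟩
  exact (IsPGroup.disjoint_of_ne 2 5 (by norm_num) _ _ hT h5).eq_bot

theorem sol {M N : Subgroup G} (h : M ≤ N) (hN : Group.IsSolvable N) : Group.IsSolvable M :=
  solvable_of_solvable_injective (f := inclusion h) (inclusion_injective h)

theorem sol2 {M : Subgroup G} (h : IsPGroup 2 M) : Group.IsSolvable M :=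
  haveI := h.isNilpotent
  inferInstance

theorem card6 : Nat.card A6 = 360 := by
  rw [Nat.card_eq_fintype_card, card_alternatingGroup]; rfl

end B

theorem stb (hTyp : StTyp.{u}) (hB5 : StB5.{u}) (hBU : StBU.{u}) (hT6 : StT6.{u}) (hPU : StPU.{u})
    (hB6c : StB6c.{u}) (hB6d : StB6d.{u}) (hB6e : StB6e.{u}) (hKE : StKE.{u}) : StB.{u} := by
  intro G _ _ hG M S₀ hM ns hS hNC
  haveI := P8.pf_Bas1.{u}
  have J := P8.pf_BasJ.{u}
  have P := P8.pf_PjB.{u, u}
  have hT := hTyp G hG M hM.ch hM.ne ns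
  obtain ⟨o1, o2, o3, -, o5⟩ := J.o2 M
  have hMT : M ≤ Ns (O2 M) := le_normalizer.trans o3
  rcases id hT with h | h | ⟨X, _, _, π, L, hTy, hL, hC, h6 | hU⟩
  · exact hB5 G hG M S₀ hM (Or.inl h) hS
  · exact hB5 G hG M S₀ hM (Or.inr h) hS
  · rcases hT6 X L hL hC h6 with ⟨f, fi, fa⟩ | hco
    · have p6 : P6 M (O2 M) fun g => f (π g) :=
        { le := o1
          two := o2
          mul := fun a ha b hb => by rw [hTy.mul a ha b hb, map_mul]
          ker := fun a ha => by rw [map_eq_one_iff f fi, hTy.ker a ha]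
          alt := fun σ hσ => by
            obtain ⟨x, rfl⟩ := fa (Equiv.Perm.mem_alternatingGroup.2 hσ)
            obtain ⟨m, hm, rfl⟩ := hTy.sur x
            exact ⟨m, hm, rfl⟩
          ch := hM.ch
          ne := hM.ne
          fp := B.fp5 hG M o2 }
      have hJ : ¬ Jt S₀ ≤ O2 M := fun h => by
        have e := J.eq (o5 S₀ hS) h
        have hne : S₀ ≠ ⊥ := fun e => hM.ne (le_bot_iff.1 (e ▸ o5 S₀ hS))
        have := hNC (Jt S₀) (hS.2.1.to_le (J.leT S₀).1) (J.ne hS.2.1 hne).1 (J.leT S₀).2.1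
        exact ns (B.sol (hMT.trans (e ▸ (J.leT (O2 M)).2.1)) this)
      obtain ⟨h1, h2⟩ := hB6d G M _ S₀ _ p6 (hB6c G M _ _ p6) hS hJ
      obtain ⟨π', e, h3, h4⟩ := hB6e G M _ _ p6 h1 h2
      exact hKE G hG M _ S₀ π' e
        ⟨h3, h4, h1, h2, hM.mx.2 _ ⟨_, o2, hM.ne, rfl⟩ hMT, hG.c2⟩ hS
    · exfalso
      obtain ⟨hTS, S, hSm⟩ := P.syl hTy.toPj S₀ hS
      have hc := hco S (isSylowIn_top S)
      have hU : Um S₀ M := by
        refine ⟨S₀, lt_of_le_of_ne hS.1 fun e => ns (e ▸ B.sol2 hS.2.1), fun K h1 h2 k hk => ?_⟩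
        obtain ⟨Y, hY, -⟩ := P.im hTy.toPj K h2.le
        have h3 : (S : Subgroup X) ≤ Y := fun y hy => by
          obtain ⟨t, ht, rfl⟩ := (hSm y).1 hy
          exact (hY _).2 ⟨t, h1 ht, rfl⟩
        have q := (P.one hTy.toPj).2.2.2.2
        rcases h3.eq_or_lt with e | e
        · obtain ⟨t, ht, h4⟩ := (hSm (π k)).1 (e ▸ (hY _).2 ⟨k, hk, rfl⟩)
          simpa using mul_mem ht (hTS ((q t (hS.1 ht) k (h2.le hk)).1 h4))
        · refine absurd (fun m hm => ?_) h2.not_ge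
          obtain ⟨a, ha, h4⟩ := (hY (π m)).1 (hc.2 Y e ▸ mem_top _)
          simpa using mul_mem ha (h1 (hTS ((q a (h2.le ha) m hm).1 h4)))
      refine (hPU G hG M S₀ hT hS hNC hU).2 ?_
      obtain ⟨φ⟩ := h6
      have h9 : 9 ∣ Nat.card L := by rw [Nat.card_congr φ.toEquiv, B.card6]; norm_num
      refine (h9.trans (card_subgroup_dvd_card L)).trans ?_
      rw [← (P.card hTy.toPj).2.1]
      exact relIndex_dvd_card _ _
  · exact (hBU G hG M S₀ X π L hTy hL hC hU hS hNC).elim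

end Cfsg.Lib.K35
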