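import Cfsg.Agent.K35.Loc
import Cfsg.Agent.P8.A5S
import Cfsg.Agent.P8.Bas2
import Cfsg.Agent.P8.BasJ
import Cfsg.Agent.P8.E73
import Cfsg.Agent.P8.PjB

/-! Simple groups of order `2 ^ b * 3 ^ a * 5`: types A5 and S5. -/

set_option autoImplicit false
set_option linter.unusedSectionVars false
set_option linter.unusedVariables false

namespace Cfsg.Lib.K35

open Cfsg Subgroup Cfsg.Lib.Trans Cfsg.Lib.Gold
open Cfsg.Lib.P8 (A5 A6 S5 O2 Om Jt Phi EA SR4 Ch E9 Pj Ty Sec SecOK Mx)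
open scoped commutatorElement

universe u

namespace B5
open Cfsg.Lib.P8.A5SH
open Cfsg.Lib.P8 (Bas1 Bas2 BasJ E73 PjB)

variable {G : Type u} [Group G] [Finite G] {H Q T : Subgroup G}

theorem core (hG : Gl G) (hM : Mx H Q) (φ : H →* S5)
    (hk : ∀ a : H, φ a = 1 ↔ (a : G) ∈ Q) (hs : ∀ s ∈ alternatingGroup (Fin 5), ∃ a, φ a = s)
    (hS : IsSylowIn 2 T H) : SR4 G ∨ (Ns T ≤ H ∧ IsSylowIn 2 T ⊤) := by
  haveI := P8.pf_Bas2.{u}
  haveI := P8.pf_BasJ.{u}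
  haveI := P8.pf_E73.{u}
  have hA : ∀ k : oddGenerated H, φ.comp (inclusion odd_le) k ∈ alternatingGroup (Fin 5) := by
    rintro ⟨k, hk'⟩
    induction hk' using closure_induction with
    | mem x hx =>
      rw [Equiv.Perm.mem_alternatingGroup]
      have h1 := congrArg ((Equiv.Perm.sign.comp φ).comp (inclusion odd_le))
        (show (⟨x, subset_closure hx⟩ : oddGenerated H) ^ orderOf x = 1 from
          Subtype.ext (pow_orderOf_eq_one x))
      rw [map_pow, map_one] at h1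
      rcases Int.units_eq_one_or (((Equiv.Perm.sign.comp φ).comp (inclusion odd_le))
        ⟨x, subset_closure hx⟩) with h2 | h2
      · exact h2
      · rw [h2, hx.2.neg_one_pow] at h1
        exact absurd h1 (by decide)
    | one => exact (map_one (φ.comp (inclusion odd_le))) ▸ one_mem _
    | mul a b h1 h2 ha hb =>
      exact (map_mul (φ.comp (inclusion odd_le)) ⟨a, h1⟩ ⟨b, h2⟩) ▸ mul_mem ha hb
    | inv a h1 ha => exact (map_inv (φ.comp (inclusion odd_le)) ⟨a, h1⟩) ▸ inv_mem ha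
  let ψ : oddGenerated H →* A5 := (φ.comp (inclusion odd_le)).codRestrict _ hA
  have hψ : ∀ k : oddGenerated H, (ψ k : S5) = φ ⟨k, odd_le k.2⟩ := fun k => rfl
  obtain ⟨σ, hσ, oσ⟩ : ∃ σ : H, orderOf (φ σ) = 5 ∧ orderOf (σ : G) = 5 := by
    obtain ⟨σ, hσ⟩ := hs _ five.2
    have h1 := orderOf_map_dvd φ σ
    rw [hσ, five.1] at h1
    obtain ⟨k, hk'⟩ := h1
    have h3 := orderOf_pos σ
    have h4 : orderOf (σ ^ k) = 5 := by
      rw [orderOf_pow' _ (by rintro rfl; omega), hk', Nat.gcd_mul_left_left, Nat.mul_div_cancel _ (by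
        rcases k with _ | k <;> omega)]
    have h5 : orderOf ((σ ^ k : H) : G) = 5 := by rw [Subgroup.orderOf_coe]; exact h4
    refine ⟨σ ^ k, ?_, h5⟩
    haveI : Fact (Nat.Prime 5) := ⟨Nat.prime_five⟩
    refine orderOf_eq_prime (by
      have h7 := pow_orderOf_eq_one (σ ^ k)
      rw [h4] at h7
      rw [← map_pow, h7, map_one]) fun e => ?_
    obtain ⟨n, hn⟩ := (hM.eq ▸ (BasJ.o2 H).2.1 : IsPGroup 2 Q) ⟨_, (hk _).1 e⟩
    have h6 := orderOf_dvd_of_pow_eq_one (show ((σ ^ k : H) : G) ^ 2 ^ n = 1 from congrArg Subtype.val hn)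
    rw [h5] at h6
    exact absurd (Nat.prime_five.dvd_of_dvd_pow h6) (by norm_num)
  have σK : (σ : G) ∈ oddGenerated H := subset_closure ⟨σ.2, by rw [oσ]; decide⟩
  have n1 : ψ ⟨σ, σK⟩ ≠ 1 := fun e => by
    rw [show φ σ = 1 from congrArg Subtype.val e, orderOf_one] at hσ
    omega
  have sur : Function.Surjective ψ := by
    have h1 : ψ.range.Normal := ⟨by
      rintro _ ⟨k, rfl⟩ a
      obtain ⟨h, hh⟩ := hs a a.2
      refine ⟨⟨h * k * (h : G)⁻¹, odd_conj h.2 k.2⟩, Subtype.ext ?_⟩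
      rw [hψ, coe_mul, coe_mul, coe_inv, hψ, ← hh, ← map_mul, ← map_inv, ← map_mul]
      rfl⟩
    exact MonoidHom.range_eq_top.1 (h1.eq_bot_or_eq_top.resolve_left fun e =>
      n1 (mem_bot.1 (e ▸ ⟨_, rfl⟩)))
  have kψ : ∀ k : oddGenerated H, k ∈ ψ.ker ↔ (k : G) ∈ Q := fun k => by
    rw [MonoidHom.mem_ker, Subtype.ext_iff, hψ]
    exact hk _
  obtain ⟨q1, q2, q3, -⟩ := BasJ.o2 H
  rw [← hM.eq] at q1 q2 q3
  have pc : pCore 2 (oddGenerated H) = ψ.ker := by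
    refine le_antisymm ?_ (Solv.le_pCore inferInstance ?_)
    · rcases ((inferInstance : (pCore 2 (oddGenerated H)).Normal).map ψ sur).eq_bot_or_eq_top with h1 | h1
      · exact (Subgroup.map_eq_bot_iff _).1 h1
      · have h2 := (Solv.pCore_isPGroup 2 (oddGenerated H)).map ψ
        rw [h1] at h2
        obtain ⟨n, hn⟩ := h2 ⟨⟨_, five.2⟩, mem_top _⟩
        have h3 : finRotate 5 ^ 2 ^ n = 1 := congrArg (fun x => x.1.1) hn
        have h4 := orderOf_dvd_of_pow_eq_one h3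
        rw [five.1] at h4
        exact absurd (Nat.prime_five.dvd_of_dvd_pow h4) (by norm_num)
    · rintro ⟨k, hk'⟩
      obtain ⟨n, hn⟩ := q2 ⟨k, (kψ k).1 hk'⟩
      have h1 : (k : G) ^ 2 ^ n = 1 := congrArg Subtype.val hn
      exact ⟨n, Subtype.ext (Subtype.ext h1)⟩
  have o2 : ∀ g, g ∈ O2 (oddGenerated H) ↔ g ∈ oddGenerated H ∧ g ∈ Q := fun g => by
    rw [O2, pCoreOf, pc]
    exact ⟨by rintro ⟨k, h1, rfl⟩; exact ⟨k.2, (kψ k).1 h1⟩, fun h => ⟨⟨g, h.1⟩, (kψ _).2 h.2, rfl⟩⟩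
  have ne : O2 (oddGenerated H) ≠ ⊥ := fun e => by
    obtain ⟨⟨q, hq⟩, h1⟩ := ne_bot_iff_exists_ne_one.1 hM.ne
    have h2 : q * σ * q⁻¹ * (σ : G)⁻¹ ∈ O2 (oddGenerated H) := (o2 _).2
      ⟨mul_mem (odd_conj (q1 hq) σK) (inv_mem σK), by
        rw [show q * σ * q⁻¹ * (σ : G)⁻¹ = q * (σ * q⁻¹ * (σ : G)⁻¹) by group]
        exact mul_mem hq ((mem_normalizer_iff.1 (q3 (le_normalizer σ.2)) _).1 (inv_mem hq))⟩
    rw [e, mem_bot, mul_inv_eq_one, mul_inv_eq_iff_eq_mul] at h2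
    have h3 : orderOf q ∣ orderOf (σ : G) :=
      orderOf_dvd_of_mem_zpowers (hG.c5 _ oσ ▸ mem_C1.2 h2)
    obtain ⟨n, hn⟩ := q2 ⟨q, hq⟩
    have h4 := orderOf_dvd_of_pow_eq_one (show q ^ 2 ^ n = 1 from congrArg Subtype.val hn)
    rw [oσ] at h3
    exact h1 (Subtype.ext (orderOf_eq_one_iff.1 (Nat.eq_one_of_dvd_coprimes
      (Nat.Coprime.pow_right n (by norm_num : Nat.Coprime 5 2)) h3 h4)))
  have HK : H ≤ Ns (oddGenerated H) := fun h hh => mem_normalizer_fintype fun k hk' => odd_conj hh hk'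
  obtain ⟨-, k2, k3, -⟩ := BasJ.o2 (oddGenerated H)
  have NK : Ns (oddGenerated H) = H := le_antisymm (k3.trans (Bas2.nor hM.mx k2 ne (HK.trans k3)).le) HK
  have main := Cfsg.Agent.S3090.result hG.c2 H hS.toSylow
    (Or.inr ⟨2, by norm_num, E73.sl24.{u}.map fun e =>
      ((QuotientGroup.quotientMulEquivOfEq pc).trans (QuotientGroup.quotientKerEquivOfSurjective ψ sur)).trans e⟩)
    (fun S _ h1 h2 h3 => le_antisymm (fun s hs' => ?_) h1) ?_
  · rw [hS.map_toSylow] at main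
    refine main.symm.imp id fun h => ⟨h.trans NK.le, isSylowIn_of_maximal le_top hS.isPGroup fun R hR h1 _ => ?_⟩
    by_contra hn
    exact (lt_inf_normalizer hR (lt_of_le_not_ge h1 hn)).ne' (hS.eq_of_le (hR.to_inf_left)
      (le_inf h1 le_normalizer) (inf_le_right.trans (h.trans NK.le)))
  · have sH : s ∈ H := NK.le (h2 hs')
    have h4 : ∀ a ∈ alternatingGroup (Fin 5), φ ⟨s, sH⟩ * a = a * φ ⟨s, sH⟩ := fun a ha => by
      obtain ⟨k, hk'⟩ := sur ⟨a, ha⟩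
      have h5 : φ ⟨k, odd_le k.2⟩ = a := congrArg Subtype.val hk'
      have h6 := (hk (⟨s, sH⟩ * ⟨k, odd_le k.2⟩ * ⟨s, sH⟩⁻¹ * ⟨k, odd_le k.2⟩⁻¹)).2
        ((o2 _).1 (h3 s hs' k k.2)).2
      rw [map_mul, map_mul, map_mul, map_inv, map_inv, h5, mul_inv_eq_one, mul_inv_eq_iff_eq_mul] at h6
      exact h6
    exact hM.eq.le ((hk ⟨s, sH⟩).1 (cent _ (h4 _ (by rw [Equiv.Perm.mem_alternatingGroup]; decide))
      (h4 _ (by rw [Equiv.Perm.mem_alternatingGroup]; decide))))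
  · change _ = {Ns (oddGenerated H)}
    rw [NK]
    exact Set.ext fun M => ⟨fun h => hM.mx.2 M h.1.1 h.2, by rintro rfl; exact ⟨hM.mx, le_rfl⟩⟩

end B5

open Cfsg.Lib.P8 (Bas1 Bas2 BasJ E73 PjB) in
theorem b5 : StB5.{u} := by
  intro G _ _ hG H T hM hT hS
  haveI := P8.pf_Bas1.{u}
  haveI := P8.pf_PjB.{u, 0}
  rcases hT with ⟨π, hT⟩ | ⟨π, hT⟩
  · obtain ⟨f, -, h2, h3⟩ := PjB.hom hT.toPj
    refine ((B5.core hG hM ((alternatingGroup (Fin 5)).subtype.comp f) (fun a => ?_) (fun s hs => ?_)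
      hS).resolve_left hG.n4).2
    · rw [← mem_subgroupOf, ← h3, MonoidHom.mem_ker, Subtype.ext_iff]
      rfl
    · obtain ⟨a, ha⟩ := h2 ⟨s, hs⟩
      exact ⟨a, congrArg Subtype.val ha⟩
  · obtain ⟨f, -, h2, h3⟩ := PjB.hom hT.toPj
    exact ((B5.core hG hM f (fun a => by rw [← mem_subgroupOf, ← h3, MonoidHom.mem_ker])
      (fun s _ => h2 s) hS).resolve_left hG.n4).2

end Cfsg.Lib.K35
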