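import Cfsg.Agent.K35.Loc
import Cfsg.Agent.P8.Brg
import Cfsg.Agent.P8.PjB

/-!
# The 2-core is abelian in the types `A₆` and `S₆`
-/

set_option autoImplicit false

namespace Cfsg.Lib.K35

open Cfsg Subgroup Cfsg.Lib.Trans Cfsg.Lib.Gold
open Cfsg.Lib.P8 (A5 A6 S5 O2 Om Jt Phi EA SR4 Ch E9 Pj Ty Sec SecOK Mx)
open scoped commutatorElement

universe u

namespace B6c

variable {G : Type u} [Group G] {M T : Subgroup G} {π : G → S6}

/-- The even part of `M`. -/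
theorem ex_pj (h : P6 M T π) : ∃ (L : Subgroup G) (π' : G → A6), L ≤ M ∧ Pj L T π' ∧
    (∀ a, a ∈ L ↔ a ∈ M ∧ Equiv.Perm.sign (π a) = 1) ∧ ∀ a ∈ L, (π' a : S6) = π a := by
  classical
  have h1 : π 1 = 1 := (h.ker 1 (one_mem _)).2 (one_mem _)
  let L : Subgroup G :=
    { carrier := {a | a ∈ M ∧ Equiv.Perm.sign (π a) = 1}
      one_mem' := ⟨one_mem _, by rw [h1, map_one]⟩
      mul_mem' := fun {a b} ha hb =>
        ⟨mul_mem ha.1 hb.1, by rw [h.mul a ha.1 b hb.1, map_mul, ha.2, hb.2, mul_one]⟩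
      inv_mem' := fun {a} ha => ⟨inv_mem ha.1, by
        have := congrArg Equiv.Perm.sign (h.mul _ (inv_mem ha.1) _ ha.1)
        rwa [inv_mul_cancel, h1, map_one, map_mul, ha.2, mul_one, eq_comm] at this⟩ }
  have p : ∀ a ∈ L, ((if l : π a ∈ alternatingGroup (Fin 6) then (⟨π a, l⟩ : A6) else 1 : A6) :
      S6) = π a := fun a ha => by rw [dif_pos (Equiv.Perm.mem_alternatingGroup.2 ha.2)]
  refine ⟨L, _, fun a ha => ha.1, ⟨fun a ha => ⟨h.le ha, by rw [(h.ker a (h.le ha)).2 ha, map_one]⟩,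
    h.two, fun a ha b hb => Subtype.ext ?_, fun y => ?_, fun a ha => ?_⟩, fun _ => Iff.rfl, p⟩
  · rw [coe_mul, p a ha, p b hb, p _ (mul_mem ha hb), h.mul _ ha.1 _ hb.1]
  · obtain ⟨m, hm, e⟩ := h.alt y (Equiv.Perm.mem_alternatingGroup.1 y.2)
    have : m ∈ L := ⟨hm, e ▸ Equiv.Perm.mem_alternatingGroup.1 y.2⟩
    exact ⟨m, this, Subtype.ext ((p m this).trans e)⟩
  · rw [Subtype.ext_iff, p a ha]; exact h.ker a ha.1

end B6c

open P8.BrgH in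
theorem b6c (hBil : StBil.{u}) (hM6b : StM6b.{u}) : StB6c.{u} := by
  intro G _ _ M T π h
  obtain ⟨L, π', hLM, hP, -, -⟩ := B6c.ex_pj h
  have nT : L ≤ Ns T := P8.PjBH.nor hP
  have n1 : L ≤ Ns ⁅T, T⁆ := Solv.le_normalizer_commutator nT nT
  have l1 : ⁅T, T⁆ ≤ T := commutator_le_self T
  have p1 : IsPGroup 2 ↥⁅T, T⁆ := h.two.to_le l1
  suffices e : ⁅T, T⁆ = ⊥ from
    ⟨⟨fun a b => Subtype.ext (mem_centralizer_iff.1
      (commutator_eq_bot_iff_le_centralizer.1 e b.2) a a.2)⟩⟩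
  by_contra hne
  have lt := Solv.PG.commutator_lt h.two p1 (hP.le.trans n1) hne
  obtain ⟨D, hD⟩ : ∃ D, D = Phi ⁅T, T⁆ ⊔ ⁅⁅T, T⁆, T⁆ := ⟨_, rfl⟩
  have d1 : D ≤ ⁅T, T⁆ := hD ▸ sup_le (map_subtype_le _) lt.le
  have d2 : L ≤ Ns D := hD ▸ Solv.le_normalizer_sup
    (n1.trans (Solv.normalizer_le_normalizer_frattini _)) (Solv.le_normalizer_commutator n1 nT)
  have d3 : ⁅⁅T, T⁆, T⁆ ≤ D := hD ▸ le_sup_right
  have d4 : ∀ a ∈ ⁅T, T⁆, a * a ∈ D := fun a ha =>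
    hD ▸ mem_sup_left ⟨_, Solv.pow_mem_frattini p1 ⟨a, ha⟩, pow_two a⟩
  have d5 : T ≤ Ns D := hP.le.trans d2
  have sV : SecOK L T D ⁅T, T⁆ := ⟨d1, l1, d2, n1, d3, d4⟩
  have sW : SecOK L T (Zq T D d5) T := by
    refine ⟨fun a ha => ha.1, le_rfl, fun g hg => ?_, nT,
      fun a ha => ⟨l1 ha, fun q hq => d3 (commutator_mem_commutator ha hq)⟩,
      fun a ha => ⟨mul_mem ha ha, fun q hq => ?_⟩⟩
    · refine mem_normalizer_of_cj_le (cj_le_iff.2 fun a ha =>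
        ⟨mem_normalizer_conj (nT hg) ha.1, fun q hq => ?_⟩)
      rw [show ⁅g * a * g⁻¹, q⁆ = g * ⁅a, g⁻¹ * q * g⁆ * g⁻¹ by
        simp only [commutatorElement_def]; group]
      exact mem_normalizer_conj (d2 hg) (ha.2 _ (mem_normalizer_conj' (nT hg) hq))
    · have c := commutator_mem_commutator ha hq
      rw [show ⁅a * a, q⁆ = ⁅⁅a, q⁆, a⁆⁻¹ * (⁅a, q⁆ * ⁅a, q⁆) by
        simp only [commutatorElement_def, mul_inv_rev, inv_inv, mul_assoc, inv_mul_cancel_left,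
          mul_inv_cancel_left]]
      exact mul_mem (inv_mem (d3 (commutator_mem_commutator c ha))) (d4 _ c)
  have c1 : ⁅Zq T D d5, T⁆ ≤ D := commutator_le.2 fun a ha b hb => ha.2 b hb
  obtain ⟨A, B, C, _, _, _, _, _, _, _, _, _, p₁, p₂, p₃, β, hB⟩ := hBil G A6 L T π' hP
    (fun y hy => h.fp y (hLM hy)) _ _ _ _ _ _ sW sW sV le_rfl c1 (by rw [commutator_comm]; exact c1)
  have h0 := hM6b A B C β hB.m1 hB.m2 hB.m3 hB.eqv
  have d6 : ⁅T, T⁆ ≤ D := commutator_le.2 fun a ha b hb =>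
    (hB.s3.zero _ (commutator_mem_commutator ha hb)).1 (by rw [← hB.com a ha b hb, h0]; rfl)
  exact lt.ne (Solv.Coprime.eq_of_frattini_sup_eq lt.le (hD.symm.trans (le_antisymm d1 d6)))

end Cfsg.Lib.K35
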