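import Cfsg.Agent.K35.B6e
import Cfsg.Agent.K35.B6da
import Cfsg.Agent.P8.BasJ

/-! The 2-core is the natural module in the types `A₆` and `S₆`. -/

set_option autoImplicit false

namespace Cfsg.Lib.K35

open Cfsg Subgroup Cfsg.Lib.Trans Cfsg.Lib.Gold Equiv Equiv.Perm
open Cfsg.Lib.P8 (A5 A6 S5 O2 Om Jt Phi EA SR4 Ch E9 Pj Ty Sec SecOK Mx)
open scoped commutatorElement

universe u

namespace B6d

open B6e

variable {G : Type u} [Group G] [Finite G] {M T V : Subgroup G} {π : G → S6} {b : G}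

theorem five (h : P6 M T π) (hb : b ∈ M) (h2 : π b * π b = 1) (h1 : π b ≠ 1)
    (h3 : sign (π b) = 1) : ∃ m ∈ M, ∃ y ∈ zpowers (b * (m * b * m⁻¹)), orderOf y = 5 := by
  obtain ⟨i, j, k, ij, ik, e1, e2⟩ := f5 _ h2 h1 h3
  obtain ⟨m, hm, e⟩ := h.alt (swap i j * swap i k) (by simp [ij, ik])
  have mM := mul_mem hb (mul_mem (mul_mem hm hb) (inv_mem hm))
  rw [← e, ← cjg h hm hb, ← h.mul _ hb _ (mul_mem (mul_mem hm hb) (inv_mem hm))] at e1 e2
  have : Fact (Nat.Prime 5) := ⟨Nat.prime_five⟩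
  have d := orderOf_map_dvd (hom h) ⟨_, mM⟩
  rw [show orderOf (hom h ⟨_, mM⟩) = 5 from orderOf_eq_prime e1 e2, ← orderOf_coe] at d
  exact ⟨m, hm, _, pow_mem (mem_zpowers _) _, orderOf_pow_orderOf_div (orderOf_pos _).ne' d⟩

theorem bound (hD10 : StD10.{u}) (h : P6 M T π) (hV : V ≤ T) (nV : M ≤ Ns V) (hb : b ∈ M)
    (h2 : π b * π b = 1) (h1 : π b ≠ 1) (h3 : sign (π b) = 1) {D : Subgroup G} (hD : D ≤ V)
    (hc : D ≤ C1 b) : (∃ k, Nat.card V = 16 ^ k) ∧ Nat.card V ≤ D.relIndex V ^ 2 := by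
  obtain ⟨m, hm, y, hy, o⟩ := five h hb h2 h1 h3
  have yM : y ∈ M := zpowers_le.2 (mul_mem hb (mul_mem (mul_mem hm hb) (inv_mem hm))) hy
  obtain ⟨k1, -, k2⟩ := hD10 G M ⊥ V y (h.two.to_le hV) bot_le (hV.trans h.le)
    (fun g _ => mem_Ns_iff.2 (cj_bot g)) nV yM o
    (eq_bot_iff.2 ((inf_le_inf_right _ hV).trans (h.fp y yM o).le))
  rw [relIndex_bot_left] at k1 k2
  have m0 : ∀ i : Fin 2, ![1, m] i * b * (![1, m] i)⁻¹ ∈
      Subgroup.closure (Set.range fun i : Fin 2 => ![1, m] i * b * (![1, m] i)⁻¹) :=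
    fun i => Subgroup.subset_closure ⟨i, rfl⟩
  refine ⟨k1, k2 2 b ![1, m] hb (fun i => by fin_cases i; exacts [one_mem _, hm])
    (zpowers_le.2 (mul_mem (by simpa using m0 0) (m0 1)) hy) D bot_le hD
    fun d hd => commutatorElement_eq_one_iff_mul_comm.2 (mem_C1.1 (hc hd))⟩

theorem c16 (hD10 : StD10.{u}) (h : P6 M T π) (hV : V ≤ T) (nV : M ≤ Ns V) (ne : V ≠ ⊥)
    {A : Subgroup G} (hA : A ≤ M) (eA : EA A) (n : ¬ A ≤ T) (off : A.relIndex V ≤ T.relIndex A) :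
    Nat.card V = 16 := by
  obtain ⟨B, hB, cB⟩ := im h hA
  have sq : ∀ a ∈ A, π a * π a = 1 := fun a ha => by
    rw [← h.mul _ (hA ha) _ (hA ha), ← pow_two, eA.2 a ha, one h]
  have cm : ∀ a ∈ A, ∀ b ∈ A, a * b = b * a :=
    comm_of_sq fun a ha => (pow_two a).symm.trans (eA.2 a ha)
  have cD : ∀ a ∈ A, A ⊓ V ≤ C1 a := fun a ha d hd => mem_C1.2 (cm d hd.1 a ha)
  suffices (∃ k, Nat.card V = 16 ^ k) ∧ Nat.card V < 16 ^ 2 by
    obtain ⟨⟨k, e⟩, lt⟩ := this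
    rw [e] at lt ⊢
    have := (Nat.pow_lt_pow_iff_right (by decide)).1 lt
    interval_cases k
    · exact absurd (card_eq_one.1 e) ne
    · rfl
  rw [← cB] at off
  by_cases k : ∃ a ∈ A, π a ≠ 1 ∧ sign (π a) = 1
  · obtain ⟨a, ha, h1, h3⟩ := k
    obtain ⟨k1, k2⟩ := bound hD10 h hV nV (hA ha) (sq a ha) h1 h3 inf_le_right (cD a ha)
    have : Nat.card B ≤ 12 := by
      refine le_trans ?_ (f12 _ (sq a ha) h1 h3)
      rw [← Set.ncard_coe_finset]
      refine Set.ncard_le_ncard (s := (B : Set S6)) fun y hy => ?_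
      obtain ⟨c, hc, rfl⟩ := (hB y).1 hy
      simpa using ⟨sq c hc, by
        rw [← h.mul _ (hA hc) _ (hA ha), cm c hc a ha, h.mul _ (hA ha) _ (hA hc)]⟩
    rw [inf_relIndex_right] at k2
    exact ⟨k1, k2.trans_lt ((Nat.pow_le_pow_left (off.trans this) 2).trans_lt (by decide))⟩
  push Not at k
  obtain ⟨a, ha, aT⟩ := SetLike.not_le_iff_exists.1 n
  have od : ∀ c ∈ A, π c ≠ 1 → sign (π c) = -1 := fun c hc h1 =>
    (Int.units_eq_one_or _).resolve_left (k c hc h1)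
  have h1 := od a ha (mt (h.ker a (hA ha)).1 aT)
  have : Nat.card B ≤ 2 := by
    refine le_trans (Set.ncard_le_ncard (s := (B : Set S6)) (t := {1, π a}) fun y hy => ?_)
      ((Set.ncard_insert_le _ _).trans (by simp))
    obtain ⟨c, hc, rfl⟩ := (hB y).1 hy
    refine or_iff_not_imp_left.2 fun h2 => by_contra fun h3 => k _ (mul_mem hc ha) ?_ ?_ <;>
      rw [h.mul _ (hA hc) _ (hA ha)]
    · exact fun e => h3 (mul_right_cancel (e.trans (sq a ha).symm))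
    · rw [map_mul, h1, od c hc h2]; decide
  obtain ⟨i, j, k, l, ij, kl, e1, e2⟩ := f2 _ (sq a ha) h1
  obtain ⟨m, hm, e⟩ := h.alt (swap i j * swap k l) (by simp [ij, kl])
  have am := mul_mem (mul_mem hm (hA ha)) (inv_mem hm)
  rw [← e, ← cjg h hm (hA ha), ← h.mul _ (hA ha) _ am] at e1 e2
  obtain ⟨k1, k2⟩ := bound hD10 h hV nV (mul_mem (hA ha) am) ((pow_two _).symm.trans e1) e2
    (by rw [h.mul _ (hA ha) _ am, cjg h hm (hA ha)]; simp [h1, e, ij, kl])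
    (D := A ⊓ cj m A ⊓ V) inf_le_right fun d hd => mem_C1.2 ((show Commute d a from
      cm d hd.1.1 a ha).mul_right (show Commute d (m * a * m⁻¹) by
        have := congrArg (m * · * m⁻¹) (cm _ (mem_cj.1 hd.1.2) a ha)
        simpa [Commute, SemiconjBy, mul_assoc] using this))
  have i2 : (cj m A).relIndex V = A.relIndex V := by
    rw [← relIndex_cj m A V, cj_eq_of_mem_normalizer (nV hm)]
  rw [inf_relIndex_right] at k2
  have := (relIndex_inf_le (H := A) (K := cj m A) (L := V)).trans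
    (Nat.mul_le_mul (off.trans this) (i2.le.trans (off.trans this)))
  exact ⟨k1, k2.trans_lt ((Nat.pow_le_pow_left this 2).trans_lt (by decide))⟩

theorem norm (h : P6 M T π) (hT : IsMulCommutative T) {e : Fin 6 → Fin 6 → G} (c : Cd M (Om T) π e)
    {x x' t : G} (hx : x ∈ M) (hx' : x' ∈ M) (h1 : π x' = π x * π x) (h2 : π x * π x * π x = 1)
    (h3 : ∀ i, π x i ≠ i ∧ π x (π x i) ≠ i) (ht : t ∈ T) :
    t * (x * t * x⁻¹) * (x' * t * x'⁻¹) = 1 := by
  have cm : ∀ a ∈ T, ∀ b ∈ T, a * b = b * a := fun a ha b hb =>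
    congrArg Subtype.val (hT.is_comm.comm (⟨a, ha⟩ : T) ⟨b, hb⟩)
  have same : ∀ g ∈ M, ∀ k ∈ M, π g = π k → g * t * g⁻¹ = k * t * k⁻¹ := fun g hg k hk E => by
    have := cm _ ((h.ker _ (mul_mem (inv_mem hk) hg)).1 (by
      rw [h.mul _ (inv_mem hk) _ hg, inv h hk, E, inv_mul_cancel])) t ht
    rw [show g * t * g⁻¹ = k * (k⁻¹ * g * t) * g⁻¹ by group, this]
    group
  have n : ∀ g ∈ M, g * t * g⁻¹ ∈ T := fun g hg => mem_normalizer_conj (nor h hg) ht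
  have wT := mul_mem (mul_mem ht (n x hx)) (n x' hx')
  have fx : x * (t * (x * t * x⁻¹) * (x' * t * x'⁻¹)) * x⁻¹ =
      t * (x * t * x⁻¹) * (x' * t * x'⁻¹) := by
    rw [← conj_mul, ← conj_mul, show x * (x * t * x⁻¹) * x⁻¹ = x * x * t * (x * x)⁻¹ by group,
      show x * (x' * t * x'⁻¹) * x⁻¹ = x * x' * t * (x * x')⁻¹ by group,
      same _ (mul_mem hx hx) _ hx' (by rw [h.mul _ hx _ hx, h1]),
      same _ (mul_mem hx hx') _ (one_mem _) (by rw [h.mul _ hx _ hx', h1, ← mul_assoc, h2, one h]),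
      one_mul, inv_one, mul_one, cm _ (mul_mem (n x hx) (n x' hx')) t ht, mul_assoc t]
  generalize t * (x * t * x⁻¹) * (x' * t * x'⁻¹) = w at wT fx
  by_contra w1
  obtain ⟨k, hk⟩ := h.two ⟨w, wT⟩
  obtain ⟨k, k1, k2⟩ := P8.BrgH.exists_pow (U := ⊥) k w (congrArg Subtype.val hk) w1
  obtain ⟨i, j, E⟩ := (c.mem _).1 ((P8.pf_BasJ.leT T).2.2.2.2.2.2 _ (pow_mem wT k)
    (fun a ha => mem_C1.2 (cm a ha _ (pow_mem wT k))) k2)
  have := c.eqv x hx i j
  rw [← E, ← conj_pow, fx, E] at this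
  rcases c.inj _ _ _ _ (fun q : i = j => k1 (mem_bot.2 (E.trans (by rw [q, c.dia])))) this with q | q
  · exact (h3 i).1 q.1.symm
  · exact (h3 j).2 (by rw [← q.1, ← q.2])

end B6d

open B6d B6e in
theorem b6d (hD10 : StD10.{u}) : StB6d.{u} := by
  intro G _ _ M T S₀ π h hT hS hJ
  have : Fact (Nat.Prime 2) := ⟨Nat.prime_two⟩
  obtain ⟨A, hA, eA, n, mx⟩ := P8.pf_BasJ.ex hJ
  obtain ⟨-, -, l1, l2, l3, l4, l5⟩ := P8.pf_BasJ.leT T
  have nV := (nor h).trans l2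
  have c := c16 hD10 h l1 nV (P8.pf_BasJ.ne h.two h.ne).2 (hA.trans hS.le) eA n
    (P8.pf_BasJ.off hA (l1.trans (hS.le_of_normal h.two h.le (nor h))) eA l3
      (inf_le_right.trans l4) mx l1)
  obtain ⟨π, e, h, cd⟩ := crd h l1 nV l4 l3 c
  have cm : ∀ a ∈ T, ∀ b ∈ T, a * b = b * a := fun a ha b hb =>
    congrArg Subtype.val (hT.is_comm.comm (⟨a, ha⟩ : T) ⟨b, hb⟩)
  obtain ⟨x, hx, e1⟩ := h.alt (swap 0 4 * swap 0 2 * (swap 1 5 * swap 1 3)) (by decide)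
  obtain ⟨s, hs, e2⟩ := h.alt (swap 0 1 * swap 2 3) (by decide)
  have xx := mul_mem hx hx
  have key : ∀ t ∈ T, s * (t * t) * s⁻¹ = t * t := fun t ht => by
    have st := mem_normalizer_conj (nor h hs) ht
    have r1 := congrArg (s * · * s⁻¹) (norm h hT cd hx xx (h.mul _ hx _ hx) (by rw [e1]; decide)
      (by rw [e1]; decide) ht)
    have r2 := norm h hT cd hx xx (h.mul _ hx _ hx) (by rw [e1]; decide) (by rw [e1]; decide) st
    have r3 := norm h hT cd (mul_mem hx hs) (mul_mem hs xx)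
      (by rw [h.mul _ hs _ xx, h.mul _ hx _ hx, h.mul _ hx _ hs, e1, e2]; decide)
      (by rw [h.mul _ hx _ hs, e1, e2]; decide) (by rw [h.mul _ hx _ hs, e1, e2]; decide) ht
    have r4 := norm h hT cd (mul_mem hs hx) (mul_mem xx hs)
      (by rw [h.mul _ xx _ hs, h.mul _ hx _ hx, h.mul _ hs _ hx, e1, e2]; decide)
      (by rw [h.mul _ hs _ hx, e1, e2]; decide) (by rw [h.mul _ hs _ hx, e1, e2]; decide) ht
    have a1 : s * t * s⁻¹ * (s * x * t * (s * x)⁻¹) = t * (x * s * t * (x * s)⁻¹) :=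
      mul_right_cancel (b := s * (x * x) * t * (s * (x * x))⁻¹) (by
        rw [mul_one, mul_inv_cancel] at r1
        rw [r3, ← r1]; group)
    have a2 : s * t * s⁻¹ * (x * s * t * (x * s)⁻¹) = t * (s * x * t * (s * x)⁻¹) :=
      mul_right_cancel (b := x * x * s * t * (x * x * s)⁻¹) (by rw [r4, ← r2]; group)
    rw [← conj_mul]
    have a3 := cm _ st t ht
    generalize s * t * s⁻¹ = v at a1 a2 a3
    generalize x * s * t * (x * s)⁻¹ = b at a1 a2
    rw [← inv_mul_eq_iff_eq_mul.2 a1.symm, ← mul_assoc t, ← mul_assoc, mul_left_inj,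
      mul_assoc] at a2
    calc v * v = v * (t * (v⁻¹ * t)) := by rw [← a2]
      _ = t * t := by rw [← mul_assoc, a3]; group
  have sq : ∀ t ∈ T, t * t = 1 := fun t ht => by
    obtain ⟨m, hm, y, hy, o⟩ := five h hs (by rw [e2]; decide) (by rw [e2]; decide)
      (by rw [e2]; decide)
    refine mem_bot.1 ((h.fp y (zpowers_le.2 (mul_mem hs (mul_mem (mul_mem hm hs) (inv_mem hm))) hy)
      o).le ⟨mul_mem ht ht, mem_C1.2 (mem_C1.1 (zpowers_le.2 (mul_mem (mem_C1.2 ?_)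
        (mem_C1.2 ?_)) hy)).symm⟩)
    · exact mul_inv_eq_iff_eq_mul.1 (key t ht)
    · have := congrArg (m * · * m⁻¹) (key _ (mem_normalizer_conj' (nor h hm) ht))
      rw [← mul_inv_eq_iff_eq_mul]
      simpa [mul_assoc] using this
  refine ⟨⟨hT, fun t ht => (pow_two t).trans (sq t ht)⟩, ?_⟩
  rwa [le_antisymm l1 fun t ht => l5 t ht (fun a ha => mem_C1.2 (cm a ha t ht)) (sq t ht)] at c

end Cfsg.Lib.K35
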