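import Cfsg.Agent.K35.Bil
import Cfsg.Agent.P8.M3a
import Cfsg.Agent.P8.M3b
import Cfsg.Agent.P8.MdA

/-! Coordinates on the natural module of `A₆` and `S₆`. -/

set_option autoImplicit false

namespace Cfsg.Lib.K35

open Cfsg Subgroup Cfsg.Lib.Trans Cfsg.Lib.Gold Equiv Equiv.Perm
open Cfsg.Lib.P8 (A5 A6 S5 O2 Om Jt Phi EA SR4 Ch E9 Pj Ty Sec SecOK Mx)
open scoped commutatorElement

universe u

namespace B6e

variable {G : Type u} [Group G] {M T V : Subgroup G} {π : G → S6} {a b : G}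

theorem one (h : P6 M T π) : π 1 = 1 := (h.ker 1 M.one_mem).2 T.one_mem

theorem inv (h : P6 M T π) (ha : a ∈ M) : π a⁻¹ = (π a)⁻¹ :=
  eq_inv_of_mul_eq_one_left (by rw [← h.mul _ (inv_mem ha) _ ha, inv_mul_cancel, one h])

theorem cjg (h : P6 M T π) (ha : a ∈ M) (hb : b ∈ M) : π (a * b * a⁻¹) = π a * π b * (π a)⁻¹ := by
  rw [h.mul _ (mul_mem ha hb) _ (inv_mem ha), h.mul _ ha _ hb, inv h ha]

/-- The projection as a homomorphism. -/
def hom (h : P6 M T π) : M →* S6 := MonoidHom.mk' (fun a => π a) fun a b => h.mul _ a.2 _ b.2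

theorem hom_eq_1' : type_of% @hom.eq_1 := @hom.eq_1

theorem ker_hom (h : P6 M T π) : (hom h).ker = T.subgroupOf M := Subgroup.ext fun a => h.ker _ a.2

theorem nor (h : P6 M T π) : M ≤ Ns T := by
  have : (T.subgroupOf M).Normal := ker_hom h ▸ inferInstance
  exact le_normalizer_of_normal_subgroupOf h.le

theorem im (h : P6 M T π) {A : Subgroup G} (hA : A ≤ M) :
    ∃ B : Subgroup S6, (∀ y, y ∈ B ↔ ∃ a ∈ A, π a = y) ∧ Nat.card B = T.relIndex A :=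
  ⟨(A.subgroupOf M).map (hom h), fun _ => ⟨fun ⟨a, l, m⟩ => ⟨a, l, m⟩,
    fun ⟨a, l, m⟩ => ⟨⟨a, hA l⟩, l, m⟩⟩, by rw [← relIndex_ker, ker_hom, relIndex_subgroupOf hA]⟩

theorem tw (h : P6 M T π) (α : S6 ≃* S6) (hα : ∀ y, sign (α y) = sign y) :
    P6 M T fun g => α (π g) :=
  ⟨h.le, h.two, fun a ha b hb => by rw [h.mul a ha b hb, map_mul], fun a ha => by
    rw [map_eq_one_iff α α.injective, h.ker a ha], fun σ hσ => by
    obtain ⟨m, hm, e⟩ := h.alt (α.symm σ) (by rw [← hα, α.apply_symm_apply, hσ])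
    exact ⟨m, hm, by rw [e, α.apply_symm_apply]⟩, h.ch, h.ne, h.fp⟩

theorem ord6 : ∀ g : S6, sign g = 1 → g ^ 3 = 1 ∨ g ^ 4 = 1 ∨ g ^ 5 = 1 := by decide +kernel

theorem md {A : Type u} [AddCommGroup A] [DistribMulAction A6 A] (h : M5 A6 A) : P8.Md A6 A := by
  have o : ∀ g : A6, orderOf g ∣ 3 ∨ orderOf g ∣ 4 ∨ orderOf g ∣ 5 := fun g => by
    simp only [orderOf_dvd_iff_pow_eq_one, Subtype.ext_iff]
    exact ord6 g g.2
  refine ⟨h.two, fun g hg => h.fp g (hg.resolve_right fun e => ?_), fun s x ox c ⟨n, hn⟩ m _ => ?_,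
    fun s hs => ?_⟩
  · have := o g
    rw [e] at this
    omega
  · have := o (s * x)
    rw [(show Commute s x from c).orderOf_mul_eq_mul_orderOf_of_coprime
      (by rw [ox, hn]; exact Nat.Coprime.pow_left n (by decide)), ox] at this
    rw [orderOf_eq_one_iff.1 (show orderOf s = 1 by
      rcases this with k | k | k
      · exact Nat.eq_one_of_dvd_one (Nat.dvd_of_mul_dvd_mul_right (by decide) k)
      all_goals exact absurd (Dvd.dvd.trans (Dvd.intro_left _ rfl) k) (by decide)), one_smul]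
  · have := o s
    rw [hs] at this
    omega

variable [Finite G]

theorem sec (h : P6 M T π) (hV : V ≤ T) (nV : M ≤ Ns V) (cV : T ≤ Cs V) (eV : EA V) :
    ∃ (A : Type u) (_ : AddCommGroup A) (_ : Finite A) (_ : DistribMulAction A6 A) (p : G → A),
      P8.Md A6 A ∧ (∀ a ∈ V, ∀ b ∈ V, p (a * b) = p a + p b) ∧
      (∀ a ∈ V, ∀ b ∈ V, p a = p b → a = b) ∧ p 1 = 0 ∧ (∀ m, ∃ a ∈ V, p a = m) ∧
      ∀ g ∈ M, ∀ σ : A6, π g = σ → ∀ a ∈ V, p (g * a * g⁻¹) = σ • p a := by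
  classical
  let L : Subgroup G := ((alternatingGroup (Fin 6)).comap (hom h)).map M.subtype
  have hL : ∀ {g}, g ∈ L ↔ g ∈ M ∧ sign (π g) = 1 := fun {g} =>
    ⟨fun ⟨x, h1, h2⟩ => h2 ▸ ⟨x.2, h1⟩, fun k => ⟨⟨g, k.1⟩, k.2, rfl⟩⟩
  let ρ : G → A6 := fun g => if k : sign (π g) = 1 then ⟨π g, k⟩ else 1
  have hρ : ∀ {g}, g ∈ L → (ρ g : S6) = π g := fun k => by simp only [ρ, dif_pos (hL.1 k).2]
  have hP : Pj L T ρ := ⟨fun t ht => hL.2 ⟨h.le ht, by rw [(h.ker t (h.le ht)).2 ht, map_one]⟩,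
    h.two, fun a ha b hb => Subtype.ext (by
      rw [Subgroup.coe_mul, hρ ha, hρ hb, hρ (mul_mem ha hb), h.mul a (hL.1 ha).1 b (hL.1 hb).1]),
    fun x => by
      obtain ⟨m, hm, e⟩ := h.alt x x.2
      have := hL.2 ⟨hm, e ▸ x.2⟩
      exact ⟨m, this, Subtype.ext ((hρ this).trans e)⟩,
    fun a ha => by rw [← h.ker a (hL.1 ha).1, Subtype.ext_iff, hρ ha, Subgroup.coe_one]⟩
  obtain ⟨A, _, _, _, p, hS, m5⟩ := Bil.sec hP (fun y hy => h.fp y (hL.1 hy).1)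
    (U₁ := ⊥) (U₂ := V) ⟨bot_le, hV, fun g _ => mem_Ns_iff.2 (cj_bot g),
      fun g hg => nV (hL.1 hg).1, (commutator_eq_bot_iff_le_centralizer.2 (le_Cs_comm.1 cV)).le,
      fun a ha => by rw [← pow_two]; exact eV.2 a ha⟩
  refine ⟨A, _, ‹_›, _, p, md m5, hS.add, fun a ha b hb e => inv_mul_eq_one.1
    ((P8.BrgH.p_eq hS.add hS.zero ha hb).1 e), P8.BrgH.p_one hS.add, hS.sur, fun g hg σ e a ha => ?_⟩
  have := hL.2 ⟨hg, e ▸ σ.2⟩
  rw [hS.eqv g this a ha, show ρ g = σ from Subtype.ext ((hρ this).trans e)]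

theorem fixv (h : P6 M T π) (hV : V ≤ T) (nV : M ≤ Ns V) (cV : T ≤ Cs V) (eV : EA V) (ne : V ≠ ⊥) :
    ∃ π' : G → S6, P6 M T π' ∧ ∃ z ∈ V, z ≠ 1 ∧ ∀ g ∈ M, sign (π' g) = 1 → (π' g 4).val / 2 = 2 →
      (π' g 5).val / 2 = 2 → g * z * g⁻¹ = z := by
  obtain ⟨A, _, _, _, p, md, -, inj, p1, sur, eqv⟩ := sec h hV nV cV eV
  have := P8.pf_MdA.{u, 0}
  obtain ⟨⟨v, hv⟩, v1⟩ := ne_bot_iff_exists_ne_one.1 ne
  obtain ⟨m, m0, k⟩ := P8.pf_M3a.out md ⟨p v, 0, fun e => v1 (Subtype.ext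
    (inj v hv 1 (one_mem _) (e.trans p1.symm)))⟩
  obtain ⟨z, hz, rfl⟩ := sur m
  have f : ∀ g ∈ M, ∀ k : sign (π g) = 1, (⟨π g, k⟩ : A6) • p z = p z → g * z * g⁻¹ = z :=
    fun g hg k e => inj _ (mem_normalizer_conj (nV hg) hz) _ hz ((eqv g hg _ rfl z hz).trans e)
  have z1 : z ≠ 1 := fun e => m0 (e ▸ p1)
  rcases k with k | k
  · exact ⟨π, h, z, hz, z1, fun g hg h1 h2 h3 => f g hg h1 (k _ h2 h3)⟩
  obtain ⟨β, b1, b2, b3, b4⟩ := AltC.exists_outer6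
  let α := (MulEquiv.ofBijective β b1).symm
  have hα : ∀ y, β (α y) = y := (MulEquiv.ofBijective β b1).apply_symm_apply
  have sα : ∀ y, sign (α y) = sign y := fun y => by rw [← b2, hα]
  refine ⟨_, tw h α sα, z, hz, z1, fun g hg h1 h2 h3 => f g hg (sα _ ▸ h1) (k _ (P8.M3bH.n2 (π g) ?_))⟩
  have k : ∀ v ∈ [swap 0 1 * swap 2 3, swap 0 2 * swap 1 3], π g * β v * (π g)⁻¹ = swap 0 1 * swap 2 3 ∨
      π g * β v * (π g)⁻¹ = swap 0 1 * swap 4 5 ∨
      π g * β v * (π g)⁻¹ = swap 0 1 * swap 2 3 * (swap 0 1 * swap 4 5) := fun v hv => by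
    rw [← hα (π g), ← map_inv, ← map_mul, ← map_mul]
    rcases P8.M3bH.n1 _ h2 h3 v hv with e | e | e <;> rw [e]
    · exact .inl b3
    · exact .inr (.inl b4)
    · exact .inr (.inr (by rw [map_mul, b3, b4]))
  intro v hv
  rcases List.mem_pair.1 hv with rfl | rfl
  · have := k _ List.mem_cons_self
    rwa [b3] at this
  · have := k _ (List.mem_cons_of_mem _ List.mem_cons_self)
    rwa [b4] at this

theorem mv : ∀ a b k l : Fin 6, k ≠ a → k ≠ b → ∃ c d, k ≠ c ∧ k ≠ d ∧ (swap k c * swap k d) a = a ∧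
    (swap k c * swap k d) b = b ∧ (swap k c * swap k d) k ≠ k ∧ (swap k c * swap k d) k ≠ l := by
  decide +kernel

theorem crd (h : P6 M T π) (hV : V ≤ T) (nV : M ≤ Ns V) (cV : T ≤ Cs V) (eV : EA V)
    (c16 : Nat.card V = 16) : ∃ (π' : G → S6) (e : Fin 6 → Fin 6 → G), P6 M T π' ∧ Cd M V π' e := by
  obtain ⟨π, h, z, hz, z1, k⟩ := fixv h hV nV cV eV (by rintro rfl; simp at c16)
  obtain ⟨A, _, _, _, p, md, add, inj, p1, sur, eqv⟩ := sec h hV nV cV eV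
  have := P8.pf_MdA.{u, 0}
  obtain ⟨c, c45, c0, c1, c2, c3⟩ := P8.pf_M3b.out md (p z) fun σ h1 h2 => by
    obtain ⟨g, hg, e⟩ := h.alt σ σ.2
    rw [← eqv g hg σ e z hz, k g hg (e ▸ σ.2) (e ▸ h1) (e ▸ h2)]
  choose r r1 r2 using sur
  obtain ⟨e, he⟩ : ∃ e : Fin 6 → Fin 6 → G, ∀ i j, e i j = r (c i j) := ⟨_, fun _ _ => rfl⟩
  have eV' : ∀ i j, e i j ∈ V := fun i j => he i j ▸ r1 _
  have pe : ∀ i j, p (e i j) = c i j := fun i j => he i j ▸ r2 _
  have tri : ∀ i j k, e i j * e j k = e i k := fun i j k =>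
    inj _ (mul_mem (eV' _ _) (eV' _ _)) _ (eV' _ _) (by rw [add _ (eV' _ _) _ (eV' _ _), pe, pe, pe, c1])
  have dia : ∀ i, e i i = 1 := fun i => inj _ (eV' _ _) _ (one_mem _) (by rw [pe, c0, p1])
  have sq : ∀ i j, e i j * e i j = 1 := fun i j => by rw [← pow_two]; exact eV.2 _ (eV' i j)
  have sym : ∀ i j, e i j = e j i := fun i j => mul_left_cancel ((sq i j).trans
    ((tri i j i).trans (dia i)).symm)
  have rel : e 0 1 * e 2 3 * e 4 5 = 1 := inj _ (mul_mem (mul_mem (eV' _ _) (eV' _ _)) (eV' _ _)) _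
    (one_mem _) (by
      rw [add _ (mul_mem (eV' _ _) (eV' _ _)) _ (eV' _ _), add _ (eV' _ _) _ (eV' _ _), pe, pe, pe,
        c2, p1])
  have ev : ∀ g ∈ M, sign (π g) = 1 → ∀ i j, g * e i j * g⁻¹ = e (π g i) (π g j) := fun g hg k i j =>
    inj _ (mem_normalizer_conj (nV hg) (eV' _ _)) _ (eV' _ _) (by
      rw [eqv g hg ⟨_, k⟩ rfl _ (eV' _ _), pe, pe, c3])
  have ne : ∀ i j, i ≠ j → e i j ≠ 1 := fun i j ij k => by
    obtain ⟨σ, rfl, rfl⟩ := P8.M3bH.tr2 ij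
    obtain ⟨g, hg, e1⟩ := h.alt σ σ.2
    rw [← e1, ← ev g hg (e1 ▸ σ.2), conj_eq_one_iff] at k
    exact z1 (inj _ hz _ (one_mem _) (by rw [← c45, ← pe, k]))
  have ij : ∀ i j k l, i ≠ j → e i j = e k l → (i = k ∧ j = l) ∨ (i = l ∧ j = k) := by
    have s : ∀ i j l, e i j = e i l → j = l := fun i j l k => by_contra fun n => ne j l n (by
      rw [← tri j i l, ← k, tri, dia])
    intro i j k l n E
    by_cases h1 : i = k
    · exact .inl ⟨h1, s i j l (h1 ▸ E)⟩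
    by_cases h2 : i = l
    · exact .inr ⟨h2, s i j k (h2 ▸ E.trans (sym k l))⟩
    by_cases h3 : j = k
    · exact absurd (s j i l (h3 ▸ (sym j i).trans E)) h2
    by_cases h4 : j = l
    · exact absurd (s j i k (h4 ▸ (sym j i).trans (E.trans (sym k l)))) h1
    obtain ⟨y, y0, y1, y2, y3⟩ := AltC.exists_map4 (p := (0 : Fin 6)) (q := 1) (r := 2) (u := 3)
      (by decide) ⟨n, h1, h2, h3, h4, fun k => ne i j n (E.trans (k ▸ dia _))⟩
    obtain ⟨y, s1, rfl, rfl, rfl, rfl⟩ : ∃ y : S6, sign y = 1 ∧ y 0 = i ∧ y 1 = j ∧ y 2 = k ∧ y 3 = l := by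
      rcases Int.units_eq_one_or (sign y) with k | k
      · exact ⟨y, k, y0, y1, y2, y3⟩
      · exact ⟨y * swap 4 5, by simp [k], y0, y1, y2, y3⟩
    obtain ⟨g, hg, rfl⟩ := h.alt y s1
    have := congrArg (g * · * g⁻¹) rel
    simp only [← conj_mul, ev g hg s1, mul_one, mul_inv_cancel] at this
    rw [E, sq, one_mul] at this
    exact absurd this (ne _ _ ((π g).injective.ne (by decide)))
  have mem : ∀ v ∈ V, ∃ i j, v = e i j := fun v hv => by
    let φ : Option {q : Fin 6 × Fin 6 // q.1 < q.2} → V := fun q =>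
      q.elim 1 fun q => ⟨e q.1.1 q.1.2, eV' _ _⟩
    have : Function.Injective φ := by
      rintro (_ | ⟨⟨i, j⟩, q⟩) (_ | ⟨⟨k, l⟩, q'⟩) E
      · rfl
      · exact absurd (congrArg Subtype.val E).symm (ne _ _ q'.ne)
      · exact absurd (congrArg Subtype.val E) (ne _ _ q.ne)
      · rcases ij _ _ _ _ q.ne (congrArg Subtype.val E) with ⟨rfl, rfl⟩ | ⟨rfl, rfl⟩
        · rfl
        · exact absurd q' q.not_gt
    obtain ⟨_ | q, E⟩ := (this.bijective_of_nat_card_le (by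
      rw [c16, Nat.card_eq_fintype_card]; decide)).2 ⟨v, hv⟩
    · exact ⟨0, 0, (congrArg Subtype.val E).symm.trans (dia 0).symm⟩
    · exact ⟨_, _, (congrArg Subtype.val E).symm⟩
  refine ⟨π, e, h, tri, dia, sym, rel, fun g hg i j => ?_,
    fun v => ⟨mem v, fun ⟨i, j, k⟩ => k ▸ eV' i j⟩, ij⟩
  by_cases n : i = j
  · rw [n, dia, dia, mul_one, mul_inv_cancel]
  obtain ⟨k, l, E⟩ := mem _ (mem_normalizer_conj (nV hg) (eV' i j))
  have kl : k ≠ l := fun q => ne i j n (conj_eq_one_iff.1 (E.trans (q ▸ dia _)))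
  have st : ∀ k l, k ≠ l → g * e i j * g⁻¹ = e k l → k = π g i ∨ k = π g j := fun k l kl E => by
    by_contra! q
    obtain ⟨c, d, q1, q2, q3, q4, q5, q6⟩ := mv _ _ k l q.1 q.2
    have s1 : sign (swap k c * swap k d) = 1 := by simp [q1, q2]
    generalize swap k c * swap k d = σ at *
    obtain ⟨m, hm, e1⟩ := h.alt _ s1
    have mg := mul_mem (mul_mem (inv_mem hg) hm) (inv_mem (inv_mem hg))
    have := ev _ mg (by rw [cjg h (inv_mem hg) hm, e1]; simp [s1]) i j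
    rw [cjg h (inv_mem hg) hm, inv h hg, inv_inv, inv_inv, e1, mul_apply, mul_apply, mul_apply,
      mul_apply, q3, q4, Perm.coe_inv, symm_apply_apply, symm_apply_apply] at this
    have e2 : e k l = e (π m k) (π m l) := by
      rw [← ev m hm (e1 ▸ s1), ← E]
      conv_lhs => rw [← this]
      group
    rw [e1] at e2
    rcases ij _ _ _ _ kl e2 with q | q
    exacts [q5 q.1.symm, q6 q.2.symm]
  rw [E]
  rcases st k l kl E with rfl | rfl <;> rcases st l _ kl.symm (E.trans (sym _ _)) with rfl | rfl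
  exacts [absurd rfl kl, rfl, sym _ _, absurd rfl kl]

end B6e

theorem b6e (_hOut : StOut) : StB6e.{u} := fun _ _ _ _ _ _ h eV c =>
  B6e.crd h le_rfl (B6e.nor h) (le_Cs_of_sq (fun a ha => (pow_two a).symm.trans (eV.2 a ha)) le_rfl) eV c

end Cfsg.Lib.K35
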