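import Cfsg.Agent.K35.Loc
import Cfsg.Agent.P8.BasJ
import Cfsg.Agent.P8.PjB
import Cfsg.Agent.P8.Bas1
import Cfsg.Agent.Solv.Hall
import Cfsg.Agent.Solv.CardModEq

/-! Simple groups of order `2 ^ b * 3 ^ a * 5`: type U4(2) is excluded. -/

set_option autoImplicit false
set_option linter.unusedSectionVars false
set_option linter.unusedVariables false

namespace Cfsg.Lib.K35

open Cfsg Subgroup Cfsg.Lib.Trans Cfsg.Lib.Gold
open Cfsg.Lib.P8 (A5 A6 S5 O2 Om Jt Phi EA SR4 Ch E9 Pj Ty Sec SecOK Mx)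
open scoped commutatorElement

universe u

namespace BU

theorem f15 {Y : Type*} [Group Y] [Finite Y] (hs : Group.IsSolvable Y) {k : ℕ}
    (hc : Nat.card Y = 2 ^ k * 15) : ∃ x y : Y, orderOf x = 3 ∧ orderOf y = 5 ∧ x * y = y * x := by
  haveI : Fact (Nat.Prime 3) := ⟨Nat.prime_three⟩
  haveI : Fact (Nat.Prime 5) := ⟨Nat.prime_five⟩
  obtain ⟨K, h1, h2⟩ := Solv.exists_isPiHall {3, 5} Y
  have e := K.card_mul_index
  have c1 : Nat.card K ∣ 15 := by
    have : (Nat.card K).Coprime (2 ^ k) := by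
      apply Nat.Coprime.pow_right
      rw [Nat.coprime_comm, Nat.prime_two.coprime_iff_not_dvd]
      intro h
      have := h1 2 Nat.prime_two h
      simp at this
    exact this.dvd_of_dvd_mul_left (hc ▸ e ▸ dvd_mul_right _ _)
  have c2 : 15 ∣ Nat.card K := by
    have : (15 : ℕ).Coprime K.index :=
      Nat.Coprime.mul_left (m := 3) (n := 5)
        (Nat.prime_three.coprime_iff_not_dvd.2 (h2 3 Nat.prime_three (by simp)))
        (Nat.prime_five.coprime_iff_not_dvd.2 (h2 5 Nat.prime_five (by simp)))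
    exact this.dvd_of_dvd_mul_right (e ▸ hc ▸ dvd_mul_left _ _)
  have c : Nat.card K = 15 := Nat.dvd_antisymm c1 c2
  obtain ⟨x, hx⟩ := exists_prime_orderOf_dvd_card' (G := K) 3 (by rw [c]; norm_num)
  obtain ⟨y, hy⟩ := exists_prime_orderOf_dvd_card' (G := K) 5 (by rw [c]; norm_num)
  have cy : Nat.card (zpowers y) = 5 := by rw [Nat.card_zpowers, hy]
  have hn : (zpowers y).Normal := by
    apply Subgroup.normal_of_index_eq_minFac_card
    have := (zpowers y).card_mul_index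
    rw [cy, c] at this
    rw [c, show Nat.minFac 15 = 3 by norm_num]
    omega
  have hm := Solv.card_modEq_card_inf_centralizer (q := 3) (Q := zpowers x) (L := zpowers y)
    (IsPGroup.of_card (n := 1) (by rw [Nat.card_zpowers, hx, pow_one]))
    (by rw [normalizer_eq_top]; exact le_top)
  have hd := card_dvd_of_le (inf_le_left : zpowers y ⊓ centralizer (zpowers x : Set K) ≤ zpowers y)
  rw [cy] at hd hm
  rcases (Nat.dvd_prime Nat.prime_five).1 hd with h | h
  · rw [h] at hm; exact absurd hm (by decide)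
  · have := Subgroup.eq_of_le_of_card_ge
      (inf_le_left : zpowers y ⊓ centralizer (zpowers x : Set K) ≤ zpowers y) (by rw [h, cy])
    have hy' : y ∈ zpowers y ⊓ centralizer (zpowers x : Set K) := by rw [this]; exact mem_zpowers y
    refine ⟨x, y, by rw [Subgroup.orderOf_coe, hx], by rw [Subgroup.orderOf_coe, hy], ?_⟩
    exact congrArg Subtype.val (hy'.2 x (mem_zpowers x))

theorem cA (n : ℕ) : 2 * Nat.card (alternatingGroup (Fin (n + 2))) = (n + 2).factorial := by
  rw [two_mul_nat_card_alternatingGroup, Nat.card_perm, Nat.card_eq_fintype_card, Fintype.card_fin]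

end BU

open BU in
open Cfsg.Lib.P8 (Bas1 BasJ PjB) in
theorem bu (hU27 : StU27.{u}) (hTyp : StTyp.{u}) (hUm : StUm.{u}) (hPU : StPU.{u}) : StBU.{u} := by
  intro G _ _ hG M S₀ X _ _ π L hT hL hC hU hS hNC
  haveI : Fact (Nat.Prime 2) := ⟨Nat.prime_two⟩
  haveI := P8.pf_Bas1.{u}
  haveI := P8.pf_BasJ.{u}
  haveI := P8.pf_PjB.{u, u}
  haveI := P8.pf_PjB.{u, 0}
  obtain ⟨-, S, hSm⟩ := PjB.syl hT.toPj S₀ hS
  obtain ⟨d1, d2, Y, hSY, hY⟩ := hU27 X L S hL hC hU S.isPGroup'
  obtain ⟨H, hH, hTH, hi, -, -⟩ := PjB.pre hT.toPj Y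
  have hHM : H ≤ M := fun a ha => ((hH a).1 ha).1
  have hSH : S₀ ≤ H := fun s hs => (hH s).2 ⟨hS.le hs, hSY ((hSm _).2 ⟨s, hs, rfl⟩)⟩
  have hS' : IsSylowIn 2 S₀ H := hS.mono hSH hHM
  obtain ⟨q1, q2, q3, -⟩ := BasJ.o2 M
  obtain ⟨r1, r2, r3, r4, -⟩ := BasJ.o2 H
  have nT : M ≤ Ns (O2 M) := le_normalizer.trans q3
  have hTO : O2 M ≤ O2 H := r4 _ hTH q2 (hHM.trans nT)
  have hch : Ch H := fun a ha => hTO (hT.ch ⟨hHM ha.1, centralizer_le (SetLike.coe_subset_coe.2 hTO) ha.2⟩)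
  have hne : O2 H ≠ ⊥ := fun e => hT.ne (le_bot_iff.1 (e ▸ hTO))
  have cY : Nat.card Y = 960 ∨ Nat.card Y = 1920 := by
    have e := Y.card_mul_index
    rw [hY] at e
    obtain ⟨k, hk⟩ := d2
    rw [hk, show 51840 = 25920 * 2 by norm_num] at d1
    rcases (Nat.dvd_prime Nat.prime_two).1 (Nat.dvd_of_mul_dvd_mul_left (by norm_num) d1) with h | h <;>
      subst h <;> omega
  obtain ⟨n, hn⟩ := q2.exists_card_eq
  have cH : Nat.card (O2 M) * Nat.card Y = Nat.card H := by rw [← hi, card_mul_relIndex hTH]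
  obtain ⟨k, hk⟩ : ∃ k, Nat.card H = 2 ^ k * 15 := by
    rw [← cH, hn]
    rcases cY with h | h <;> rw [h]
    · exact ⟨n + 6, by ring⟩
    · exact ⟨n + 7, by ring⟩
  have hns : ¬ Group.IsSolvable H := fun hs => by
    obtain ⟨x, y, hx, hy, e⟩ := f15 hs hk
    have h1 : (x : G) ∈ C1 (y : G) := mem_C1.2 (congrArg Subtype.val e)
    rw [hG.c5 _ (by rw [Subgroup.orderOf_coe, hy])] at h1
    have h2 := orderOf_dvd_of_mem_zpowers h1
    rw [Subgroup.orderOf_coe, Subgroup.orderOf_coe, hx, hy] at h2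
    exact absurd h2 (by norm_num)
  have n9 : ¬ 9 ∣ Nat.card H := fun h => by
    rw [hk] at h
    have := (Nat.Coprime.pow_right k (by norm_num : Nat.Coprime 9 2)).dvd_of_dvd_mul_left h
    exact absurd this (by norm_num)
  have hty := hTyp G hG H hch hne hns
  have h5 : (∃ π : G → A5, Ty H (O2 H) π) ∨ ∃ π : G → S5, Ty H (O2 H) π := by
    rcases hty with h | h | ⟨X', _, _, π', L', hT', hL', hC', hU'⟩
    · exact Or.inl h
    · exact Or.inr h
    exfalso
    apply n9
    have e := (PjB.card hT'.toPj).2.1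
    refine dvd_trans ?_ (e ▸ relIndex_dvd_card (O2 H) H)
    rcases hU' with ⟨⟨f⟩⟩ | hU'
    · refine dvd_trans ?_ (card_subgroup_dvd_card L')
      have := cA 4
      rw [Nat.card_congr f.toEquiv]
      have h6 : Nat.card A6 = 360 := by
        change 2 * Nat.card A6 = 720 at this
        omega
      rw [h6]; norm_num
    · exact dvd_trans (by norm_num) (hU27 X' L' ⊥ hL' hC' hU' IsPGroup.of_bot).2.1
  have c16 := (hPU G hG H S₀ hty hS' hNC (hUm G H S₀ h5 hS')).1
  have cle : Nat.card H ≤ 1920 := by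
    rw [← card_mul_relIndex r1, c16]
    rcases h5 with ⟨π', h⟩ | ⟨π', h⟩
    · rw [(PjB.card h.toPj).2.1]
      have := cA 3
      change 2 * Nat.card A5 = 120 at this
      omega
    · rw [(PjB.card h.toPj).2.1, Nat.card_perm, Nat.card_eq_fintype_card, Fintype.card_fin]
      decide
  have c2 : Nat.card (O2 M) = 2 := by
    have h1 : 1 < Nat.card (O2 M) := (one_lt_card_iff_ne_bot _).2 hT.ne
    rcases cY with h | h <;> rw [h] at cH <;> omega
  obtain ⟨t, -, ht⟩ := (Nat.card_eq_two_iff' (1 : O2 M)).1 c2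
  have hle : H ≤ O2 M := fun m hm => hT.ch ⟨hHM hm, fun s hs => by
    by_cases e : s = 1
    · rw [e, one_mul, mul_one]
    have h1 : m * s * m⁻¹ ∈ O2 M := (mem_normalizer_iff.1 (nT (hHM hm)) s).1 hs
    have h2 := (ht ⟨_, h1⟩ (fun e' => e (by
      have : m * s * m⁻¹ = 1 := congrArg Subtype.val e'
      simpa using this))).trans (ht ⟨s, hs⟩ (fun e' => e (congrArg Subtype.val e'))).symm
    have h3 : m * s * m⁻¹ = s := congrArg Subtype.val h2
    rw [mul_inv_eq_iff_eq_mul] at h3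
    exact h3.symm⟩
  have := Trans.card_le_of_le hle
  rcases cY with h | h <;> rw [h] at cH <;> omega

end Cfsg.Lib.K35
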