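import Cfsg.Agent.K35.FQ8a
import Cfsg.Agent.Bender.F2Dim
import Cfsg.Agent.Solv.PSolvable

/-!
# Sylow 2-subgroups of solvable `{2,3}`-subgroups of `GL₅(2)`
-/

namespace Cfsg.Lib.K35

open Cfsg Subgroup Cfsg.Lib.Trans Cfsg.Lib.Gold
open Cfsg.Lib.P8 (A5 A6 S5 O2 Om Jt Phi EA SR4 Ch E9 Pj Ty Sec SecOK Mx)
open scoped commutatorElement

universe u v

namespace Bd

open FQ8

variable {X : Type v} [Group X] [Finite X] {M : Type u} [AddCommGroup M] [DistribMulAction X M]
  [Finite M] {F S : Subgroup X}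

omit [Finite X] in
theorem not27 (two : ∀ m : M, m + m = 0) (hf : P8.Fth X M) (hM : Nat.card M ≤ 32) :
    ¬ 27 ∣ Nat.card X := by
  letI : Module (ZMod 2) M := AddCommGroup.zmodModule (fun m => by rw [two_nsmul, two])
  haveI : Module.Finite (ZMod 2) M := Module.Finite.of_finite
  let ρ : Representation (ZMod 2) X M :=
    { toFun := fun g => (DistribSMul.toAddMonoidHom M g).toZModLinearMap 2
      map_one' := by ext m; simp
      map_mul' := fun g h => by ext m; simp [mul_smul] }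
  have inj : Function.Injective ρ :=
    (injective_iff_map_eq_one ρ).2 fun g hg => hf g fun m => LinearMap.congr_fun hg m
  have d := Bender.F2.card_dvd ρ inj
  have c : Nat.card M = 2 ^ Module.finrank (ZMod 2) M := by
    rw [Module.natCard_eq_pow_finrank (K := ZMod 2), Nat.card_zmod]
  have l : Module.finrank (ZMod 2) M ≤ 5 := by
    by_contra k
    have := Nat.pow_le_pow_right (show 0 < 2 by norm_num)
      (show 6 ≤ Module.finrank (ZMod 2) M by omega)
    omega
  generalize Module.finrank (ZMod 2) M = n at d l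
  intro k
  have := k.trans d
  interval_cases n <;> revert this <;> decide

omit [Finite X] in
theorem stab (h : N9 F) (hS : S ≤ Ns F) (h2 : IsPGroup 2 S)
    (c : ∀ s ∈ S, (∀ f ∈ F, s * f = f * s) → s = 1) {e : X} (he : e ∈ F) (h1 : e ≠ 1) :
    Nat.card ((C1 e).subgroupOf S) ≤ 2 := by
  classical
  obtain ⟨f, hf, hfe⟩ := h.exists_out he
  have zc : ∀ {s a : X}, s ∈ C1 e → a ∈ zpowers e → s * a = a * s := fun {s a} hs ha => by
    obtain ⟨k, rfl⟩ := mem_zpowers_iff.1 ha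
    exact ((show Commute s e from mem_centralizer_singleton_iff.1 hs).zpow_right k).eq
  have k1 : ∀ s ∈ S, s ∈ C1 e → ∀ a ∈ zpowers e, s * f * s⁻¹ = a * f → s = 1 := by
    intro s hs hc a ha k
    have a3 : a * a * a = 1 := by
      rw [← pow_three', h.cube a (zpowers_le.2 he ha)]
    have sa := zc hc ha
    have st : ∀ x, s * x = x * s → s * (x * f) * s⁻¹ = x * a * f := fun x hx => by
      calc s * (x * f) * s⁻¹ = (s * x) * s⁻¹ * (s * f * s⁻¹) := by group
        _ = x * a * f := by rw [hx, k]; group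
    have f3 : s ^ 3 * f = f * s ^ 3 := by
      calc s ^ 3 * f = s * (s * (s * f * s⁻¹) * s⁻¹) * s⁻¹ * s ^ 3 := by rw [pow_three']; group
        _ = f * s ^ 3 := by
          rw [k, st a sa, st (a * a) (zc hc (mul_mem ha ha)), a3, one_mul]
    have s3 : s ^ 3 = 1 := c _ (pow_mem hs 3) fun g hg => by
      obtain ⟨b, hb, k⟩ := h.span he h1 hf hfe hg
      have cb : Commute (s ^ 3) b := zc (pow_mem hc 3) hb
      have cf : Commute (s ^ 3) f := f3
      rcases k with rfl | rfl | rfl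
      exacts [cb, cb.mul_right cf, cb.mul_right (cf.mul_right cf)]
    obtain ⟨n, hn⟩ := h2 ⟨s, hs⟩
    exact (pow_eq_one_iff_of_coprime (show Nat.Coprime 3 (2 ^ n) from
      Nat.Coprime.pow_right _ (by norm_num))).1 ⟨s3, congrArg Subtype.val hn⟩
  have k2 : ∀ s ∈ S, s ∈ C1 e → s ≠ 1 → ∃ a ∈ zpowers e, s * f * s⁻¹ = a * (f * f) := by
    intro s hs hc s1
    obtain ⟨a, ha, k | k | k⟩ := h.span he h1 hf hfe (mem_normalizer_conj (hS hs) hf)
    · refine absurd ?_ hfe
      rwa [show f = s⁻¹ * (s * f * s⁻¹) * s by group, k, mul_assoc, ← zc hc ha, inv_mul_cancel_left]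
    · exact absurd (k1 s hs hc a ha k) s1
    · exact ⟨a, ha, k⟩
  have k3 : ∀ s ∈ S, s ∈ C1 e → s ≠ 1 → ∀ t ∈ S, t ∈ C1 e → t ≠ 1 → s * t = 1 := by
    intro s hs hc s1 t ht hd t1
    obtain ⟨a, ha, ka⟩ := k2 s hs hc s1
    obtain ⟨b, hb, kb⟩ := k2 t ht hd t1
    refine k1 _ (mul_mem hs ht) (mul_mem hc hd) (b * a * a) (mul_mem (mul_mem hb ha) ha) ?_
    have f3 : f * f * f = 1 := by rw [← pow_three', h.cube f hf]
    calc s * t * f * (s * t)⁻¹ = s * (t * f * t⁻¹) * s⁻¹ := by group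
      _ = (s * b) * s⁻¹ * (s * f * s⁻¹) * (s * f * s⁻¹) := by rw [kb]; group
      _ = b * a * (f * f * a) * f * f := by rw [zc hc hb, ka]; group
      _ = b * a * a * (f * f * f) * f := by
        rw [h.comm _ (mul_mem hf hf) a (zpowers_le.2 he ha)]; group
      _ = b * a * a * f := by rw [f3, mul_one]
  refine (Nat.card_le_card_of_injective (fun s : (C1 e).subgroupOf S => decide (((s : S) : X) = 1))
    fun s t k => ?_).trans (by simp)
  simp only [decide_eq_decide] at k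
  refine Subtype.ext (Subtype.ext ?_)
  by_cases s1 : ((s : S) : X) = 1
  · rw [s1, k.1 s1]
  · exact mul_left_cancel ((k3 _ s.1.2 s.2 s1 _ s.1.2 s.2 s1).trans
      (k3 _ s.1.2 s.2 s1 _ t.1.2 t.2 fun k' => s1 (k.2 k')).symm)

theorem main (two : ∀ m : M, m + m = 0) (hf : P8.Fth X M) (hM : Nat.card M ≤ 32)
    (h3 : IsPGroup 3 F) (hS : S ≤ Ns F) (h2 : IsPGroup 2 S) (c : Cs F ≤ F) : Nat.card S ≤ 8 := by
  haveI : Fact (Nat.Prime 3) := ⟨by norm_num⟩
  have c' : ∀ s ∈ S, (∀ f ∈ F, s * f = f * s) → s = 1 := fun s hs k => by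
    obtain ⟨n, hn⟩ := h2 ⟨s, hs⟩
    obtain ⟨m, hm⟩ := h3 ⟨s, c (mem_centralizer_iff.2 fun f hf => (k f hf).symm)⟩
    exact (pow_eq_one_iff_of_coprime (show Nat.Coprime (3 ^ m) (2 ^ n) from
      Nat.Coprime.pow _ _ (by norm_num))).1 ⟨congrArg Subtype.val hm, congrArg Subtype.val hn⟩
  obtain ⟨n, hn⟩ := IsPGroup.iff_card.1 h2
  obtain ⟨m, hm⟩ := IsPGroup.iff_card.1 h3
  have m2 : m ≤ 2 := by
    by_contra k
    exact not27 two hf hM (((pow_dvd_pow 3 (show 3 ≤ m by omega)).trans hm.symm.dvd).trans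
      F.card_subgroup_dvd_card)
  by_contra k
  have n4 : 16 ≤ Nat.card S := by
    rw [hn] at k ⊢
    by_contra k'
    have : n ≤ 3 := by
      by_contra k''
      exact k' (Nat.pow_le_pow_right (show 0 < 2 by norm_num) (show 4 ≤ n by omega))
    exact k (Nat.pow_le_pow_right (show 0 < 2 by norm_num) this)
  by_cases cy : IsCyclic F
  · obtain ⟨e, he⟩ := cy.exists_generator
    have := Nat.card_le_card_of_injective
      (fun s : S => (⟨s * e * (s : X)⁻¹, mem_normalizer_conj (hS s.2) e.2⟩ : F)) fun s t k => by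
        have k : (s : X) * e * (s : X)⁻¹ = t * e * (t : X)⁻¹ := congrArg Subtype.val k
        refine Subtype.ext (eq_of_inv_mul_eq_one (c' _ (mul_mem (inv_mem s.2) t.2) fun f hf => ?_))
        obtain ⟨j, hj⟩ := mem_zpowers_iff.1 (he ⟨f, hf⟩)
        rw [show f = (e : X) ^ j from (congrArg Subtype.val hj).symm]
        refine (Commute.zpow_right (show Commute _ _ from ?_) j).eq
        calc (s : X)⁻¹ * t * e = (s : X)⁻¹ * (t * e * (t : X)⁻¹) * t := by group
          _ = e * ((s : X)⁻¹ * t) := by rw [← k]; group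
    have := Nat.pow_le_pow_right (show 0 < 3 by norm_num) m2
    omega
  have m2 : m = 2 := by
    by_contra k
    refine cy ?_
    have : m = 0 ∨ m = 1 := by omega
    rcases this with rfl | rfl
    · haveI := (Nat.card_eq_one_iff_unique.1 hm).1
      exact isCyclic_of_subsingleton
    · exact isCyclic_of_prime_card (p := 3) hm
  subst m2
  have n9 : N9 F := ⟨hm, fun e he => by
      have := Monoid.pow_exponent_eq_one (⟨e, he⟩ : F)
      rw [(not_isCyclic_iff_exponent_eq_prime (by norm_num) hm).1 cy] at this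
      exact congrArg Subtype.val this,
    fun e he f hf => congrArg Subtype.val
      ((IsPGroup.commGroupOfCardEqPrimeSq hm).mul_comm ⟨e, he⟩ ⟨f, hf⟩)⟩
  obtain ⟨e, he, e1⟩ := n9.exists_ne
  obtain ⟨f, hf', fe⟩ := n9.exists_out he
  obtain ⟨l1, l2⟩ := n9.lines he e1 hf' fe
  have := card_ge two n9 _ l1 l2 (fun i => all_FS two n9 (by
      by_contra k
      push Not at k
      exact e1 (hf e (k e he))) (fun e he e1 f hf f1 => by
      obtain ⟨s, hs, k⟩ := n9.trans hS he e1 (by have := stab n9 hS h2 c' he e1; omega) hf f1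
      exact ⟨s, hS hs, k⟩) (l1 i) fun k => by
      obtain ⟨j, hj⟩ := exists_ne i
      exact l2 i j hj.symm (k ▸ one_mem _)) ⊤ fun _ => le_top
  rw [AddSubgroup.card_top] at this
  omega

end Bd

open FQ8 P8.BrgH in
theorem bd : StBd.{u} := by
  intro G _ _ N S hCh hs hp h32 hS
  haveI := P8.pf_Bas1.{u}
  haveI := P8.pf_Bas2.{u}
  haveI := P8.pf_BasJ.{u}
  haveI := P8.pf_PjB.{u, u}
  haveI : Fact (Nat.Prime 3) := ⟨by norm_num⟩
  obtain ⟨Y, _, _, π, hP, h0⟩ := quo N
  have ok := (P8.pf_Brg.{u, u}).phi hP.two (P8.PjBH.nor hP)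
  obtain ⟨M, _, _, p, ha, hz, hm⟩ := exists_p (hP.le.trans ok.n1) ok.sq
  obtain ⟨_, sc⟩ := exists_act hP ok ha hz hm
  have two : ∀ m : M, m + m = 0 := fun m => by
    obtain ⟨u, hu, rfl⟩ := hm m
    rw [← ha u hu u hu, hz _ (mul_mem hu hu)]
    exact ok.sq u hu
  obtain ⟨D, cD, mD⟩ := exists_D ha hz le_rfl
  have hM : Nat.card M ≤ 32 := by
    rwa [← cD, (AddSubgroup.eq_top_iff' D).2 fun m => by
      obtain ⟨u, hu, rfl⟩ := hm m
      exact mD u hu, AddSubgroup.card_top] at h32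
  obtain ⟨-, c1, -, c2, -⟩ := P8.PjB.card.{u, u} hP
  haveI := c2 hs
  obtain ⟨-, T, mT⟩ := P8.PjB.syl.{u, u} hP S hS
  obtain ⟨S', mS, cS⟩ := P8.PjBH.im hP S hS.1
  have e : S' = T := Subgroup.ext fun y => (mS y).trans (mT y).symm
  rw [← cS, e]
  refine Bd.main two (fth hP rfl hCh sc) hM (Solv.pCore_isPGroup 3 Y)
    (fun s _ => by rw [Ns, normalizer_eq_top]; trivial) T.2
    ((IsPSolvable.of_isSolvable 3 Y).centralizer_pCore_le
      (Solv.pPrimeCore_eq_bot_iff.2 fun L hL hc => le_bot_iff.1 (h0 ▸ Solv.le_pCore hL ?_)))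
  refine IsPGroup.of_card (Nat.eq_prime_pow_of_unique_prime_dvd Nat.card_pos.ne' fun {q} hq hd => ?_)
  rcases hp q hq (((hd.trans L.card_subgroup_dvd_card).trans c1.symm.dvd).trans
    (relIndex_dvd_card _ _)) with rfl | rfl
  · rfl
  · exact absurd (hc.symm.eq_one_of_dvd hd) (by norm_num)

end Cfsg.Lib.K35
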