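import Cfsg.Agent.K35.Loc
import Cfsg.Agent.P8.Brg
import Cfsg.Agent.P8.Bas2
import Cfsg.Agent.P8.PjB

/-! Commutator maps on sections. -/

set_option autoImplicit false

namespace Cfsg.Lib.K35

open Cfsg Subgroup Cfsg.Lib.Trans Cfsg.Lib.Gold
open Cfsg.Lib.P8 (A5 A6 S5 O2 Om Jt Phi EA SR4 Ch E9 Pj Ty Sec SecOK Mx)
open scoped commutatorElement

universe u

namespace Bil

open P8.BrgH

variable {G : Type u} [Group G] [Finite G] {X : Type} [Group X] {M T : Subgroup G} {π : G → X}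

theorem sec (hP : Pj M T π) (h5 : Fp5 M T) {U₁ U₂ : Subgroup G} (h : SecOK M T U₁ U₂) :
    ∃ (A : Type u) (_ : AddCommGroup A) (_ : Finite A) (_ : DistribMulAction X A) (p : G → A),
      Sec M U₁ U₂ π p ∧ M5 X A := by
  have := P8.pf_Bas1.{u}
  have := P8.pf_Bas2.{u}
  have := P8.pf_PjB.{u, 0}
  obtain ⟨A, _, _, p, a, z, s⟩ := exists_p (h.leQ.trans (hP.le.trans h.n1)) h.sq
  obtain ⟨_, hS⟩ := exists_act hP h a z s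
  refine ⟨A, _, ‹_›, _, p, hS, fun m => ?_, fun g hg m e => ?_⟩
  · obtain ⟨a, ha, rfl⟩ := hS.sur m
    rw [← hS.add _ ha _ ha, hS.zero _ (mul_mem ha ha)]
    exact h.sq a ha
  · obtain ⟨x₀, hx₀, rfl⟩ := hP.sur g
    obtain ⟨x, hx, e1, e2⟩ := P8.PjBH.odd hP x₀ hx₀ (by rw [hg]; decide)
    replace hx := zpowers_le.2 hx₀ hx
    rw [hg] at e2
    rw [← e1] at e
    obtain ⟨b, hb, e3, rfl⟩ := fixed hP h hS hx (by rw [e2]; decide) e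
    rw [mem_bot.1 ((h5 x hx e2).le ⟨h.leQ hb, mem_C1.2 e3⟩), p_one hS.add]

omit [Finite G] in
theorem triv {C : Type u} [AddCommGroup C] [DistribMulAction X C] {V₁ V₂ : Subgroup G} {p : G → C}
    (hP : Pj M T π) (hS : Sec M V₁ V₂ π p) {t c : G} (ht : t ∈ T) (hc : c ∈ V₂) :
    p (t * c * t⁻¹) = p c := by
  rw [hS.eqv _ (hP.le ht) _ hc, (hP.ker _ (hP.le ht)).2 ht, one_smul]

end Bil

open Bil P8.BrgH in
theorem bil : StBil.{u} := by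
  intro G _ _ X _ M T π hP h5 W₁ W₂ T₁ T₂ V₁ V₂ hW hT hV c22 c12 c21
  obtain ⟨A, _, _, _, p₁, s1, m1⟩ := sec hP h5 hW
  obtain ⟨B, _, _, _, p₂, s2, m2⟩ := sec hP h5 hT
  obtain ⟨C, _, _, _, p₃, s3, m3⟩ := sec hP h5 hV
  have cm : ∀ {w t}, w ∈ W₂ → t ∈ T₂ → ⁅w, t⁆ ∈ V₂ := fun hw ht =>
    c22 (commutator_mem_commutator hw ht)
  have nV : ∀ {t c}, t ∈ T → c ∈ V₂ → t * c * t⁻¹ ∈ V₂ := fun ht hc =>
    mem_normalizer_conj (hV.n2 (hP.le ht)) hc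
  have aL : ∀ w ∈ W₂, ∀ w' ∈ W₂, ∀ t ∈ T₂, p₃ ⁅w * w', t⁆ = p₃ ⁅w, t⁆ + p₃ ⁅w', t⁆ := by
    intro w hw w' hw' t ht
    rw [show ⁅w * w', t⁆ = w * ⁅w', t⁆ * w⁻¹ * ⁅w, t⁆ by simp [commutatorElement_def, mul_assoc],
      s3.add _ (nV (hW.leQ hw) (cm hw' ht)) _ (cm hw ht), triv hP s3 (hW.leQ hw) (cm hw' ht),
      add_comm]
  have aR : ∀ w ∈ W₂, ∀ t ∈ T₂, ∀ t' ∈ T₂, p₃ ⁅w, t * t'⁆ = p₃ ⁅w, t⁆ + p₃ ⁅w, t'⁆ := by
    intro w hw t ht t' ht'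
    rw [show ⁅w, t * t'⁆ = ⁅w, t⁆ * (t * ⁅w, t'⁆ * t⁻¹) by simp [commutatorElement_def, mul_assoc],
      s3.add _ (cm hw ht) _ (nV (hT.leQ ht) (cm hw ht')), triv hP s3 (hT.leQ ht) (cm hw ht')]
  have wd : ∀ w ∈ W₂, ∀ w' ∈ W₂, ∀ t ∈ T₂, ∀ t' ∈ T₂, p₁ w = p₁ w' → p₂ t = p₂ t' →
      p₃ ⁅w, t⁆ = p₃ ⁅w', t'⁆ := by
    intro w hw w' hw' t ht t' ht' e1 e2
    have f1 := (p_eq s1.add s1.zero hw hw').1 e1
    have f2 := (p_eq s2.add s2.zero ht ht').1 e2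
    have g1 := aL w hw _ (hW.le f1) t' ht'
    have g2 := aR w hw t ht _ (hT.le f2)
    rw [mul_inv_cancel_left] at g1 g2
    rw [g1, g2, (s3.zero _ (cm (hW.le f1) ht')).2 (c12 (commutator_mem_commutator f1 ht')),
      (s3.zero _ (cm hw (hT.le f2))).2 (c21 (commutator_mem_commutator hw f2)), add_zero, add_zero]
  choose r1 r1m r1e using s1.sur
  choose r2 r2m r2e using s2.sur
  let β : A →+ B →+ C := AddMonoidHom.mk' (fun a => AddMonoidHom.mk' (fun b => p₃ ⁅r1 a, r2 b⁆)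
    fun b b' => by
      rw [← aR _ (r1m a) _ (r2m b) _ (r2m b')]
      exact wd _ (r1m _) _ (r1m _) _ (r2m _) _ (mul_mem (r2m _) (r2m _)) rfl
        (by rw [s2.add _ (r2m _) _ (r2m _), r2e, r2e, r2e]))
    fun a a' => AddMonoidHom.ext fun b => by
      change p₃ ⁅r1 (a + a'), r2 b⁆ = p₃ ⁅r1 a, r2 b⁆ + p₃ ⁅r1 a', r2 b⁆
      rw [← aL _ (r1m a) _ (r1m a') _ (r2m b)]
      exact wd _ (r1m _) _ (mul_mem (r1m _) (r1m _)) _ (r2m _) _ (r2m _)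
        (by rw [s1.add _ (r1m _) _ (r1m _), r1e, r1e, r1e]) rfl
  have com : ∀ w ∈ W₂, ∀ t ∈ T₂, β (p₁ w) (p₂ t) = p₃ ⁅w, t⁆ := fun w hw t ht =>
    wd _ (r1m _) _ hw _ (r2m _) _ ht (r1e _) (r2e _)
  refine ⟨A, B, C, _, _, _, ‹_›, ‹_›, ‹_›, _, _, _, p₁, p₂, p₃, β, s1, s2, s3, m1, m2, m3,
    fun g a b => ?_, com⟩
  obtain ⟨h, hh, rfl⟩ := hP.sur g
  obtain ⟨w, hw, rfl⟩ := s1.sur a
  obtain ⟨t, ht, rfl⟩ := s2.sur b
  rw [← s1.eqv h hh w hw, ← s2.eqv h hh t ht, com _ (mem_normalizer_conj (hW.n2 hh) hw) _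
    (mem_normalizer_conj (hT.n2 hh) ht), com w hw t ht, ← s3.eqv h hh _ (cm hw ht)]
  congr 1
  simp [commutatorElement_def, mul_assoc]

end Cfsg.Lib.K35
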