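import Cfsg.Agent.K35.Loc
import Cfsg.Agent.Char.Burnside
import Cfsg.Agent.Solv.PConstrainedLocal
import Cfsg.Agent.Gold.Cm

/-! Simple groups of order `2 ^ b * 3 ^ a * 5`: local subgroups are constrained. -/

set_option autoImplicit false

namespace Cfsg.Lib.K35

open Cfsg Subgroup Cfsg.Lib.Trans Cfsg.Lib.Gold
open Cfsg.Lib.P8 (A5 A6 S5 O2 Om Jt Phi EA SR4 Ch E9 Pj Ty Sec SecOK Mx)
open scoped commutatorElement

universe u

namespace C3

variable {G : Type u} [Group G] [Finite G]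

theorem solv (h : ∀ p : ℕ, p.Prime → p ∣ Nat.card G → p = 2 ∨ p = 3 ∨ p = 5)
    (c5 : ∀ y : G, orderOf y = 5 → C1 y = zpowers y) {x : G} (hx : x ≠ 1) (h5 : orderOf x ≠ 5)
    {H : Subgroup G} (hH : H ≤ C1 x) : Group.IsSolvable H := by
  refine Char.isSolvable_of_card_dvd (a := (Nat.card H).factorization 2)
    (b := (Nat.card H).factorization 3) Nat.prime_two Nat.prime_three H ?_
  rw [← Nat.factorization_prime_le_iff_dvd Nat.card_pos.ne' (by positivity)]
  intro p hp
  by_cases hd : p ∣ Nat.card H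
  · rw [Nat.factorization_mul (by positivity) (by positivity), Nat.prime_two.factorization_pow,
      Nat.prime_three.factorization_pow]
    rcases h p hp (hd.trans (card_subgroup_dvd_card H)) with rfl | rfl | rfl
    · simp
    · simp
    have := Fact.mk hp
    obtain ⟨y, hy⟩ := exists_prime_orderOf_dvd_card' 5 hd
    rw [← orderOf_coe] at hy
    have k := orderOf_dvd_natCard _ ((c5 _ hy).le (mem_C1.2 (mem_C1.1 (hH y.2)).symm))
    rw [Nat.card_zpowers, hy, Nat.dvd_prime hp, orderOf_eq_one_iff] at k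
    exact (k.elim hx h5).elim
  · simp [Nat.factorization_eq_zero_of_not_dvd hd]

theorem con (h : ∀ p : ℕ, p.Prime → p ∣ Nat.card G → p = 2 ∨ p = 3 ∨ p = 5)
    (c5 : ∀ y : G, orderOf y = 5 → C1 y = zpowers y) {p : ℕ} [hp : Fact p.Prime] (h5 : p ≠ 5)
    (X : Subgroup G) (hX : IsPGroup p X) (ne : X ≠ ⊥) : IsPConstrained p (normalizer (X : Set G)) := by
  obtain ⟨⟨x, hx⟩, x1⟩ := ne_bot_iff_exists_ne_one.1 ne
  have := solv h c5 (x := x) (fun e => x1 (Subtype.ext e)) (fun e => by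
    obtain ⟨k, hk⟩ := IsPGroup.iff_orderOf.1 hX ⟨x, hx⟩
    rw [orderOf_mk, e] at hk
    exact h5 ((Nat.prime_dvd_prime_iff_eq (by norm_num) hp.out).1
      ((by norm_num : Nat.Prime 5).dvd_of_dvd_pow hk.dvd)).symm) (Cs_le_C1 hx)
  exact Solv.isPConstrained_normalizer_of_centralizer hX (Solv.isPConstrained_of_isSolvable p _)

end C3

theorem c3 : StC3.{u} := fun _ _ _ _ h c5 =>
  have : Fact (Nat.Prime 3) := ⟨Nat.prime_three⟩
  C3.con h c5 (by norm_num)

end Cfsg.Lib.K35
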