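import Cfsg.Agent.K35.Loc
import Cfsg.Agent.P8.Bas2
import Cfsg.Agent.L72.Kit
import Cfsg.Agent.Solv.FrattiniP

/-! Fixed-point-free elements of order 5 on 2-sections. -/

set_option autoImplicit false

namespace Cfsg.Lib.K35

open Cfsg Subgroup Cfsg.Lib.Trans Cfsg.Lib.Gold
open Cfsg.Lib.P8 (A5 A6 S5 O2 Om Jt Phi EA SR4 Ch E9 Pj Ty Sec SecOK Mx)
open scoped commutatorElement

universe u

namespace D10

variable {G : Type u} [Group G] [Finite G]

theorem card16 {U : Subgroup G} {y : G} (hU : IsPGroup 2 U) (hy : y ∈ Ns U) (o : orderOf y = 5)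
    (h : U ⊓ C1 y = ⊥) : ∃ k, Nat.card U = 16 ^ k := by
  have : Fact (Nat.Prime 5) := ⟨Nat.prime_five⟩
  have h1 := L72.Kit.modEq (p := 5) (o ▸ pow_orderOf_eq_one y) hy
  obtain ⟨n, hn⟩ := hU.exists_card_eq
  rw [h, card_bot, hn, ← Nat.div_add_mod n 4, pow_add, pow_mul] at h1
  have h2 : (2 ^ 4) ^ (n / 4) ≡ 1 [MOD 5] := by
    simpa using (show 2 ^ 4 ≡ 1 [MOD 5] by decide).pow (n / 4)
  have h3 := ((h2.mul_right (2 ^ (n % 4))).symm.trans h1)
  have h4 : n % 4 < 4 := Nat.mod_lt _ (by decide)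
  refine ⟨n / 4, ?_⟩
  have h5 : n % 4 = 0 := by
    generalize n % 4 = r at *
    interval_cases r <;> first | rfl | exact absurd h3 (by decide)
  rw [hn, show (16 : ℕ) = 2 ^ 4 from rfl, ← pow_mul]
  congr 1
  omega

theorem idx16 {U V : Subgroup G} {y : G} (hV : IsPGroup 2 V) (le : U ≤ V) (h1 : y ∈ Ns U)
    (h2 : y ∈ Ns V) (o : orderOf y = 5) (h : V ⊓ C1 y = ⊥) : ∃ k, U.relIndex V = 16 ^ k := by
  obtain ⟨a, ha⟩ := card16 (hV.to_le le) h1 o (eq_bot_iff.2 ((inf_le_inf_right _ le).trans h.le))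
  obtain ⟨b, hb⟩ := card16 hV h2 o h
  have e := card_mul_relIndex le
  rw [ha, hb] at e
  have hab : a ≤ b := (Nat.pow_dvd_pow_iff_le_right (by decide)).1 (Dvd.intro _ e)
  refine ⟨b - a, Nat.eq_of_mul_eq_mul_left (pow_pos (by decide : 0 < 16) a) ?_⟩
  rw [e, ← pow_add]
  congr 1
  omega

/-- The elements of `M` centralising `d` modulo `U`. -/
def St (M U : Subgroup G) (h : M ≤ Ns U) (d : G) : Subgroup G where
  carrier := {g | g ∈ M ∧ ⁅d, g⁆ ∈ U}
  one_mem' := ⟨one_mem _, by simp⟩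
  mul_mem' := by
    rintro a b ⟨ha, ha'⟩ ⟨hb, hb'⟩
    refine ⟨mul_mem ha hb, ?_⟩
    have := mul_mem ha' (mem_normalizer_conj (h ha) hb')
    simpa [commutatorElement_def, mul_assoc] using this
  inv_mem' := by
    rintro a ⟨ha, ha'⟩
    refine ⟨inv_mem ha, ?_⟩
    have := mem_normalizer_conj' (h ha) (inv_mem ha')
    simpa [commutatorElement_def, mul_assoc] using this

end D10

open D10 in
theorem d10 : StD10.{u} := by
  intro G _ _ M U₁ U₂ y h2 le hM n1 n2 hy o fp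
  refine ⟨idx16 h2 le (n1 hy) (n2 hy) o fp, fun h16 => ?_, fun n a m ha hm hc D l1 l2 hD => ?_⟩
  · have lY : ⁅U₂, U₂⁆ ⊔ U₁ ≤ U₂ := sup_le (commutator_le.2 fun a ha b hb => by
      rw [commutatorElement_def]
      exact mul_mem (mul_mem (mul_mem ha hb) (inv_mem ha)) (inv_mem hb)) le
    have nY : y ∈ Ns (⁅U₂, U₂⁆ ⊔ U₁) := by
      rw [← cj_eq_self_iff, cj_sup, cj_commutator, cj_eq_of_mem_normalizer (n1 hy),
        cj_eq_of_mem_normalizer (n2 hy)]
    obtain ⟨k, hk⟩ := idx16 (h2.to_le lY) le_sup_right (n1 hy) nY o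
      (eq_bot_iff.2 ((inf_le_inf_right _ lY).trans fp.le))
    obtain ⟨l, hl⟩ := idx16 h2 lY nY (n2 hy) o fp
    have e := relIndex_mul_relIndex U₁ _ U₂ le_sup_right lY
    rw [hk, hl, h16, ← pow_add] at e
    have e1 : k + l = 1 := Nat.pow_right_injective (by decide : 2 ≤ 16) (e.trans (pow_one 16).symm)
    rcases Nat.eq_zero_or_pos l with rfl | h0
    · exfalso
      rw [pow_zero, relIndex_eq_one] at hl
      have : Fact (Nat.Prime 2) := ⟨Nat.prime_two⟩
      have e2 : U₁ = U₂ := Solv.Coprime.eq_of_frattini_sup_eq le (le_antisymm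
        (sup_le (map_subtype_le _) le) (hl.trans (sup_le_sup_right ?_ _)))
      · rw [e2, relIndex_self] at h16
        exact absurd h16 (by decide)
      · exact Solv.commutator_le_map_frattini h2
    · obtain rfl : k = 0 := by omega
      rw [pow_zero, relIndex_eq_one] at hk
      exact le_sup_left.trans hk
  · have h1 : (⨅ i, cj (m i) D) ⊓ U₂ ≤ U₁ := fun d hd => by
      have h3 : closure (Set.range fun i => m i * a * (m i)⁻¹) ≤ St M U₁ n1 d := by
        rw [closure_le]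
        rintro _ ⟨i, rfl⟩
        refine ⟨mul_mem (mul_mem (hm i) ha) (inv_mem (hm i)), ?_⟩
        have := mem_normalizer_conj (n1 (hm i)) (hD _ (mem_cj.1 (mem_iInf.1 hd.1 i)))
        simpa [commutatorElement_def, mul_assoc] using this
      obtain ⟨b, hb, e1, e2⟩ := P8.Bas2H.lift h2 le (hM.trans n1) (n1 hy) (by rw [o]; decide) hd.2
        (h3 hc).2
      rw [mem_bot.1 (fp.le ⟨hb, L72.Kit.mem_C1.2 e1⟩), mul_one] at e2
      exact inv_mem_iff.1 e2
    refine (relIndex_le_of_le_left h1 (FiniteIndex.index_ne_zero)).trans ?_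
    rw [inf_relIndex_right]
    refine (relIndex_iInf_le _).trans (le_of_eq ?_)
    have : ∀ i, (cj (m i) D).relIndex U₂ = D.relIndex U₂ := fun i => by
      rw [← relIndex_cj (m i) D U₂, cj_eq_of_mem_normalizer (n2 (hm i))]
    simp [this]

end Cfsg.Lib.K35
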