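import Cfsg.Agent.K35.C3
import Cfsg.Agent.K35.LK
import Cfsg.Agent.S1001
import Cfsg.Agent.S0910
import Cfsg.Agent.S0915
import Cfsg.Agent.S4717
import Cfsg.Agent.AB.Two3
import Cfsg.Agent.PrimeOne.DegP
import Cfsg.Agent.Block.PrimeSylow
import Cfsg.Agent.Block.Osima

/-! Simple groups of order `2 ^ b * 3 ^ a * 5`: the exponent `b` is even. -/

set_option autoImplicit false

namespace Cfsg.Lib.K35

open Cfsg Subgroup Cfsg.Lib.Trans Cfsg.Lib.Gold
open Cfsg.Lib.P8 (A5 A6 S5 O2 Om Jt Phi EA SR4 Ch E9 Pj Ty Sec SecOK Mx)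
open scoped commutatorElement

universe u

open Cfsg.Lib.PrimeOne Cfsg.Lib.Block.Princ in
theorem even : StEven.{u} := by
  intro G _ _ _ b a a0 e c2 r5
  classical
  have : Fact (Nat.Prime 5) := ⟨Nat.prime_five⟩
  have : Fact (Nat.Prime 2) := ⟨Nat.prime_two⟩
  have ho : Ord G 3 := ⟨b, a - 1, by
    obtain ⟨a, rfl⟩ := Nat.exists_eq_succ_of_ne_zero a0.ne'
    rw [e, Nat.succ_sub_one, pow_succ]; ring⟩
  have na := LK.ncomm ho
  have c5 : ∀ y : G, orderOf y = 5 → C1 y = zpowers y :=
    Agent.S1001.result 5 a b (by norm_num) (by rw [e]; ring)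
  have pr : ∀ p : ℕ, p.Prime → p ∣ Nat.card G → p = 2 ∨ p = 3 ∨ p = 5 := fun p hp hd => by
    have k : ¬ 7 ≤ p := fun h7 => LK.nd ho hp h7 hd
    have := hp.two_le
    have : p ≠ 4 := by rintro rfl; norm_num at hp
    have : p ≠ 6 := by rintro rfl; norm_num at hp
    omega
  obtain ⟨P⟩ : Nonempty (Sylow 5 G) := inferInstance
  have hP := Block.PS.card_sylow_eq (e ▸ Dvd.intro_left _ rfl) (fun k => by
    rw [e, sq, Nat.mul_dvd_mul_iff_right (by norm_num)] at k
    exact absurd k ((Nat.Prime.coprime_iff_not_dvd (by norm_num)).1 (Nat.Coprime.mul_right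
      (Nat.Coprime.pow_right _ (by norm_num)) (Nat.Coprime.pow_right _ (by norm_num))))) P
  obtain ⟨I, hI⟩ := exists_isPModular Nat.prime_five
  obtain ⟨t, X, Y, δ, ε, h⟩ := exists_B0 hI P hP
  obtain ⟨y, hy, y1⟩ := exists_ne_one hP
  rw [← centralizer_singleton_eq hP hy y1, show centralizer {y} = zpowers y from
    c5 y (orderOf_of_mem hP hy y1), zpowers_eq hP hy y1] at h
  have e1 := h.card_eq
  rw [factorization_eq_one hP] at e1
  have r := r5 P
  generalize (P : Subgroup G).relIndex (normalizer ((P : Subgroup G) : Set G)) = n at h e1 r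
  have e2 : n = 1 ∨ n = 4 := by
    have : n ∣ 4 := ⟨t, by omega⟩
    have := Nat.le_of_dvd (by norm_num) this
    interval_cases n <;> omega
  obtain ⟨θ, hθ⟩ := h.Y_nonempty
  obtain ⟨α, α1, α3, α5⟩ : ∃ α : IrrCharacter G, α ≠ triv G ∧ ¬ 3 ∣ deg α ∧
      (deg α % 5 = 1 ∨ deg α % 5 = 4) := by
    by_contra k
    push Not at k
    have k1 : 3 ∣ deg θ := by
      by_contra k1
      have := k θ (h.ne_triv hθ) k1
      have k2 := h.deg_Y_modEq' hθ
      rcases h.sign with rfl | rfl <;> rcases e2 with rfl | rfl <;> simp [Int.ModEq] at k2 <;> omega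
    have k2 : ∀ χ ∈ X.erase (triv G), (3 : ℤ) ∣ δ χ * deg χ := fun χ hχ => by
      obtain ⟨h1, h2⟩ := Finset.mem_erase.1 hχ
      refine (Int.natCast_dvd_natCast.2 (not_not.1 fun h3 => ?_)).mul_left _
      have := k χ h1 h3
      have k2 := h.deg_X_modEq' h2
      rcases h.sign_X χ h2 with e | e <;> simp [e, Int.ModEq] at k2 <;> omega
    have k5 := h.deg_rel hθ
    rw [← Finset.add_sum_erase _ _ h.triv_mem, h.δ_triv, deg_triv] at k5
    have k6 := (dvd_add_left (Finset.dvd_sum k2)).1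
      (k5 ▸ (Int.natCast_dvd_natCast.2 k1).mul_left ε)
    norm_num at k6
  have h8 := deg_dvd_card α
  rw [e] at h8
  obtain ⟨k, kb, hk⟩ := (Nat.dvd_prime_pow Nat.prime_two).1
    (((Nat.prime_three.coprime_iff_not_dvd.2 α3).symm.pow_right a).dvd_of_dvd_mul_right
      ((Nat.prime_five.coprime_iff_not_dvd.2 (by omega)).symm.dvd_of_dvd_mul_right h8))
  obtain ⟨M, hM⟩ := exists_isPModular Nat.prime_two
  have d0 := (Agent.S4717.result (G := G) 2 M hM 1).2 one_pos (fun z hz B ⟨χ, hB⟩ ne => by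
    have z1 : z ≠ 1 := by rintro rfl; simp at hz
    have := C3.solv pr c5 z1 (by omega) le_rfl
    have k := Agent.S0915.result 2 M hM (IsPSolvable.of_isSolvable 2 (C1 z))
      (Solv.pPrimeCore_eq_bot_of_centralizer_le (Local.charP_iff.1
        (Gomi.charP_C1 c2 (by rw [← sq, ← hz, pow_orderOf_eq_one]) z1)))
    exact (ne (hB.trans (Set.ext fun ψ => iff_of_true (k χ ψ) (k (triv _) ψ)))).elim)
    _ ⟨α, rfl⟩ fun q => α1 (eq_triv_iff.2 (Agent.S0910.result 2 M hM (by
      by_contra k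
      push Not at k
      exact na ⟨⟨k⟩⟩) α (q ▸ Block.mem_blockOf_self hM α) k (by rw [← deg_cast, hk]; simp)))
  have f1 : (Nat.card G).factorization 2 = b := by
    rw [e, Nat.factorization_mul (by positivity) (by positivity),
      Nat.factorization_mul (by positivity) (by positivity), Nat.prime_two.factorization_pow,
      Nat.prime_three.factorization_pow, Nat.prime_five.factorization]
    simp
  have f2 := Nat.sInf_le (s := (fun χ : IrrCharacter G => (charDegree (χ : G → ℂ)).factorization 2) ''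
    blockOf M (α : G → ℂ)) ⟨α, Block.mem_blockOf_self hM α, rfl⟩
  rw [blockDefect, f1] at d0
  have f3 : (charDegree (α : G → ℂ)).factorization 2 = k := by
    rw [show charDegree (α : G → ℂ) = 2 ^ k from hk, Nat.prime_two.factorization_pow]; simp
  simp only [f3] at f2
  obtain rfl : k = b := by omega
  by_contra o
  obtain ⟨j, rfl⟩ := Nat.not_even_iff_odd.1 o
  rw [hk, pow_succ, pow_mul] at α5
  have : (2 ^ 2) ^ j % 5 = 1 ∨ (2 ^ 2) ^ j % 5 = 4 := by
    clear * -
    induction j with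
    | zero => simp
    | succ j ih => rw [pow_succ]; omega
  omega

end Cfsg.Lib.K35
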