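import Cfsg.Agent.K35.FAr
import Cfsg.Agent.Block.ZhA7

/-!
# Simple groups of order `2 ^ a * 3 * 5 * q ^ b`: the groups `PSL₃(r)` do not occur
-/

set_option autoImplicit false

namespace Cfsg.Lib.K35

open Cfsg Subgroup

universe u

namespace FL3

theorem arith {a b q r : ℕ} (hq : q.Prime) (hr : 2 ≤ r)
    (h : Nat.gcd 3 (r - 1) * (2 ^ a * 3 * 5 * q ^ b) = r ^ 3 * (r ^ 2 - 1) * (r ^ 3 - 1)) :
    False := by
  obtain ⟨s, rfl⟩ : ∃ s, r = s + 1 := ⟨r - 1, by omega⟩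
  have e1 : (s + 1) ^ 2 - 1 = s * (s + 2) := Nat.sub_eq_of_eq_add (by ring)
  have e2 : (s + 1) ^ 3 - 1 = s * (s * s + 3 * s + 3) := Nat.sub_eq_of_eq_add (by ring)
  rw [e1, e2, Nat.add_sub_cancel] at h
  have h' : Nat.gcd 3 s * (2 ^ a * 3 * 5 * q ^ b) =
      (s + 1) ^ 3 * (s * s * (s + 2)) * (s * s + 3 * s + 3) := by rw [h]; ring
  have m2 : (s * s + 3 * s + 3) % 2 = 1 := by
    rcases Nat.mod_two_eq_zero_or_one s with e | e <;> simp [Nat.add_mod, Nat.mul_mod, e]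
  have m5 : ¬ 5 ∣ s * s + 3 * s + 3 := by
    rw [Nat.dvd_iff_mod_eq_zero]
    have : s % 5 < 5 := Nat.mod_lt _ (by norm_num)
    rw [Nat.add_mod, Nat.add_mod (s * s), Nat.mul_mod s s, Nat.mul_mod 3 s]
    generalize s % 5 = t at *
    interval_cases t <;> simp
  have m9 : ¬ 9 ∣ s * s + 3 * s + 3 := by
    rw [Nat.dvd_iff_mod_eq_zero]
    have : s % 9 < 9 := Nat.mod_lt _ (by norm_num)
    rw [Nat.add_mod, Nat.add_mod (s * s), Nat.mul_mod s s, Nat.mul_mod 3 s]
    generalize s % 9 = t at *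
    interval_cases t <;> simp
  obtain ⟨hq3, hre, hA⟩ := FAr.rank_three hq (Nat.gcd_dvd_left 3 s) h' hr m2 m5 m9 (by omega)
    (fun t ht hC h3 => by
      have one : ¬ t ∣ 1 := ht.not_dvd_one
      refine ⟨fun e => one ?_, fun e => ?_⟩
      · rw [show s * s + 3 * s + 3 = (s + 1) * (s + 2) + 1 by ring] at hC
        exact (Nat.dvd_add_right (e.mul_right _)).1 hC
      · rcases (Nat.Prime.dvd_mul ht).1 e with e | e
        · have e' : t ∣ s := by simpa using (Nat.Prime.dvd_mul ht).1 e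
          rw [show s * s + 3 * s + 3 = s * (s + 3) + 3 by ring] at hC
          exact h3 ((Nat.prime_dvd_prime_iff_eq ht Nat.prime_three).1
            ((Nat.dvd_add_right (e'.mul_right _)).1 hC))
        · rw [show s * s + 3 * s + 3 = (s + 1) * (s + 2) + 1 by ring] at hC
          exact one ((Nat.dvd_add_right (e.mul_left _)).1 hC))
  have hs : s % 2 = 1 := by omega
  have h45 := hA (by simp [Nat.add_mod, Nat.mul_mod, hs])
  have hle := Nat.le_of_dvd (by norm_num) h45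
  have hs4 : s < 4 := by
    by_contra h4
    have : 4 * 4 * 6 ≤ s * s * (s + 2) :=
      Nat.mul_le_mul (Nat.mul_le_mul (by omega) (by omega)) (by omega)
    omega
  have h5 : 5 ∣ 2 ^ a * 3 * 5 * q ^ b := ⟨2 ^ a * 3 * q ^ b, by ring⟩
  have h9 := FAr.not_nine (a := a) (b := b) hq hq3
  generalize 2 ^ a * 3 * 5 * q ^ b = N at *
  interval_cases s <;> simp at h' hs <;> omega

end FL3

theorem fl3 : StFL3.{u} := by
  rintro G _ _ _ q hq ⟨a, b, hc⟩ F _ _ ⟨e⟩
  have h := Block.Zh.gcd_mul_card_psl3 F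
  rw [← Nat.card_congr e.toEquiv, hc] at h
  exact FL3.arith hq Fintype.one_lt_card h

end Cfsg.Lib.K35
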