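import Cfsg.Agent.K35.FQ8a

/-!
# Free modules for the quaternion group
-/

set_option autoImplicit false
set_option linter.unusedSectionVars false

namespace Cfsg.Lib.K35

open Cfsg Subgroup Cfsg.Lib.Trans Cfsg.Lib.Gold
open Cfsg.Lib.P8 (A5 A6 S5 O2 Om Jt Phi EA SR4 Ch E9 Pj Ty Sec SecOK Mx)
open scoped commutatorElement

universe u v

namespace FQ8

variable {X : Type v} [Group X] {E S S₃ : Subgroup X} {a b : X}

theorem n9_of (h : E9 a b) : N9 (closure {a, b}) := by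
  have a3 : a ^ 3 = 1 := h.1 ▸ pow_orderOf_eq_one a
  have b3 : b ^ 3 = 1 := h.2.1 ▸ pow_orderOf_eq_one b
  have ea : IsElementaryAbelian 3 (closure ({a, b} : Set X)) := TJ.ea_closure (by
    rintro x (rfl | rfl) y (rfl | rfl)
    exacts [rfl, h.2.2.1, h.2.2.1.symm, rfl]) (by
    rintro x (rfl | rfl)
    exacts [a3, b3])
  refine ⟨?_, ea.2, fun e he f hf => congrArg Subtype.val (ea.1.is_comm.comm ⟨e, he⟩ ⟨f, hf⟩)⟩
  rw [Set.insert_eq, Subgroup.closure_union, ← zpowers_eq_closure, ← zpowers_eq_closure,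
    Solv.card_sup_of_disjoint_of_le_normalizer, Nat.card_zpowers, Nat.card_zpowers, h.1, h.2.1]
  · exact zpowers_le.2 (centralizer_le_normalizer _ (mem_centralizer_iff.2 fun c hc => by
      obtain ⟨k, rfl⟩ := mem_zpowers_iff.1 hc
      exact ((show Commute a b from h.2.2.1).zpow_left k).eq))
  · refine (eq_bot_iff_forall _).2 fun c hc => ?_
    by_contra c1
    exact h.2.2.2 (zpowers_le.2 hc.1 (zp_symm b3 hc.2 c1))

variable {M : Type u} [AddCommGroup M] [DistribMulAction X M] [Finite M] [Finite X]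
  (two : ∀ m : M, m + m = 0) (h : N9 E) (hS : S ≤ Ns E)
  (fr : ∀ s ∈ S, ∀ e ∈ E, e ≠ 1 → s * e = e * s → s = 1) (hn : ∃ e ∈ E, ∃ m : M, e • m ≠ m)
include two h hS fr hn

theorem part1 (h8 : Nat.card S = 8) (ha : a ∈ E) (a1 : a ≠ 1) (D : AddSubgroup M)
    (hD : ∀ m : M, m - a • m ∈ D) : 64 ≤ Nat.card D := by
  obtain ⟨f, hf, h2⟩ := h.exists_out ha
  obtain ⟨l1, l2⟩ := h.lines ha a1 hf h2
  refine card_ge two h (n := 3) (fun i => ![a, f, a * f, a * (f * f)] i.succ) (fun i => l1 _)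
    (fun i j hij => l2 _ _ fun k => hij (Fin.succ_injective _ k))
    (fun i => all_FS two h hn (fun e he e1 g hg g1 => ?_) (l1 _) (h.ne_one (l2 _ 0 i.succ_ne_zero)))
    D fun i m hm => ?_
  · have : (C1 e).subgroupOf S = ⊥ := (eq_bot_iff_forall _).2 fun s hs =>
      Subtype.ext (fr s s.2 e he e1 (mem_centralizer_singleton_iff.1 hs))
    obtain ⟨s, hs, k⟩ := h.trans hS he e1 (by rw [this, card_bot, h8]; norm_num) hg g1
    exact ⟨s, hS hs, k⟩
  · have := hm.2 a ha (l2 0 _ i.succ_ne_zero.symm)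
    rw [T_ap] at this
    rw [show m = a • m - a • a • m by linear_combination (norm := abel1) this - two (a • m)]
    exact hD _

theorem part2 (le : S₃ ≤ S) (h4 : 2 ∣ Nat.card S₃) :
    ∃ w : M, (∀ s ∈ S₃, s • w = w) ∧ ∀ t ∈ S, t ∉ S₃ → t • w ≠ w := by
  classical
  obtain ⟨⟨z, hz⟩, oz⟩ := exists_prime_orderOf_dvd_card' (G := S₃) 2 h4
  rw [orderOf_mk] at oz
  have zz : z * z = 1 := by rw [← pow_two, ← oz, pow_orderOf_eq_one]
  have z1 : z ≠ 1 := fun k => by rw [k, orderOf_one] at oz; omega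
  have inv : ∀ e ∈ E, z * e * z⁻¹ = e⁻¹ := fun e he => by
    have m1 := mem_normalizer_conj (hS (le hz)) he
    by_contra k
    refine z1 (fr z (le hz) _ (mul_mem he m1) (fun k' => k (eq_inv_of_mul_eq_one_right k')) ?_)
    rw [← mul_inv_eq_iff_eq_mul, ← conj_mul, show z * (z * e * z⁻¹) * z⁻¹ = z * z * e * (z * z)⁻¹ by
      group, zz, one_mul, inv_one, mul_one, h.comm _ m1 e he]
  obtain ⟨e, he, e1, m0, hm0, m1⟩ := exists_FS two h hn
  obtain ⟨m, hm, hz'⟩ : ∃ m ∈ FS M E e, z • m ≠ m := by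
    by_contra k
    push Not at k
    obtain ⟨f, hf, h2⟩ := h.exists_out he
    have k1 : f • m0 ∈ FS M E e := by
      have := FS_conj (le_normalizer hf) hm0
      rwa [h.comm f hf e he, mul_inv_cancel_right] at this
    have k2 := k _ k1
    rw [smul_smul, show z * f = z * f * z⁻¹ * z by group, inv f hf, mul_smul, k _ hm0,
      inv_smul_eq_iff, smul_smul] at k2
    have k3 : f • m0 = m0 := sq_mem (H := MulAction.stabilizer X m0) (h.cube f hf) k2.symm
    exact m1 (by rw [← T_fix two k3, hm0.2 f hf h2])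
  have T0 : ∀ s ∈ S, s ≠ 1 → s ≠ z → T e (s • m) = 0 := fun s hs s1 s2 => by
    refine (FS_conj (hS hs) hm).2 e he fun k => ?_
    rcases (mem_zp (h.cube e he)).1 (zp_symm (h.cube _ (mem_normalizer_conj (hS hs) he)) k e1) with
      k | k | k
    · exact e1 (conj_eq_one_iff.1 k)
    · exact s1 (fr s hs e he e1 (mul_inv_eq_iff_eq_mul.1 k))
    · refine s2 (inv_mul_eq_one.1 (fr _ (mul_mem (inv_mem (le hz)) hs) e he e1 ?_)).symm
      rw [show e * e = e⁻¹ from eq_inv_of_mul_eq_one_left (by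
        rw [← pow_two, ← pow_succ, h.cube e he]), ← inv e he] at k
      rw [show z⁻¹ * s * e = z⁻¹ * (s * e * s⁻¹) * s by group, k]
      group
  have Tz : T e (z • m) = z • m := T_fix two (by
    have := (FS_conj (hS (le hz)) hm).1
    rwa [inv e he, inv_smul_eq_iff, eq_comm] at this)
  letI := Fintype.ofFinite S₃
  refine ⟨∑ s : S₃, (s : X) • m, fun s hs => ?_, fun t ht h3 k => hz' ?_⟩
  · rw [Finset.smul_sum]
    exact Fintype.sum_equiv (Equiv.mulLeft ⟨s, hs⟩) _ _ fun x => by simp [mul_smul]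
  · have k1 := congrArg (T e) k
    rw [Finset.smul_sum, map_sum, map_sum, Finset.sum_eq_zero fun s _ => by
        rw [smul_smul]
        exact T0 _ (mul_mem ht (le s.2))
          (fun k => h3 ((mul_mem_cancel_right s.2).1 (k ▸ one_mem _)))
          (fun k => h3 ((mul_mem_cancel_right s.2).1 (k ▸ hz))),
      Finset.sum_eq_add_of_mem (1 : S₃) ⟨z, hz⟩ (Finset.mem_univ _) (Finset.mem_univ _)
        (fun k => z1 (congrArg Subtype.val k).symm) fun s _ hs =>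
          T0 _ (le s.2) (fun k => hs.1 (Subtype.ext k)) fun k => hs.2 (Subtype.ext k)] at k1
    simp only [OneMemClass.coe_one, one_smul, Tz, T_fix two hm.1] at k1
    linear_combination (norm := abel1) -k1 - two m

end FQ8

open FQ8 P8.BrgH in
theorem fq8 : StFQ8.{u} := by
  intro G _ _ S K U₁ U₂ x a b hS hQ h2 tq ok hn
  haveI := P8.pf_Bas1.{u}
  haveI := P8.pf_PjB.{u, u}
  obtain ⟨Y, _, _, π, hP, -⟩ := quo K
  have hU : U₂ ≤ K := ok.leQ.trans hP.le
  obtain ⟨M, _, _, p, ha, hz, hs⟩ := exists_p (hU.trans ok.n1) ok.sq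
  obtain ⟨_, sc⟩ := exists_act hP ok ha hz hs
  have two : ∀ m : M, m + m = 0 := fun m => by
    obtain ⟨u, hu, rfl⟩ := hs m
    rw [← ha u hu u hu, hz _ (mul_mem hu hu)]
    exact ok.sq u hu
  have n0 := n9_of tq.e9
  have hE : closure {a, b} ≤ K := (closure_le _).2 (by rintro _ (rfl | rfl); exacts [tq.aK, tq.bK])
  have hEQ : ∀ e ∈ closure ({a, b} : Set G), e ∈ O2 K → e = 1 := fun e he hq => by
    obtain ⟨k, hk⟩ := hP.two ⟨e, hq⟩
    exact (pow_eq_one_iff_of_coprime (show Nat.Coprime 3 (2 ^ k) from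
      Nat.Coprime.pow_right _ (by norm_num))).1 ⟨n0.cube e he, congrArg Subtype.val hk⟩
  obtain ⟨E, mE, cE⟩ := P8.PjBH.im hP _ hE
  have n9 : N9 E := by
    refine ⟨?_, fun e he0 => ?_, fun e he0 f hf0 => ?_⟩
    · rw [cE, relIndex, show (O2 K).subgroupOf (closure {a, b}) = ⊥ from
        (eq_bot_iff_forall _).2 fun e he => Subtype.ext (hEQ e e.2 he), index_bot, n0.card]
    · obtain ⟨e, he, rfl⟩ := (mE e).1 he0
      rw [← P8.PjBH.pow hP (hE he), n0.cube e he, P8.PjBH.one hP]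
    · obtain ⟨e, he, rfl⟩ := (mE e).1 he0
      obtain ⟨f, hf, rfl⟩ := (mE f).1 hf0
      rw [← hP.mul _ (hE he) _ (hE hf), n0.comm e he f hf, hP.mul _ (hE hf) _ (hE he)]
  obtain ⟨S', mS, cS⟩ := P8.PjBH.im hP _ hS
  have c8 : (O2 K).relIndex S = 8 := by
    obtain ⟨f, f1, f2⟩ := tq.q8
    rw [relIndex, ← f2, index_ker, MonoidHom.range_eq_top.2 f1, card_top, Nat.card_eq_fintype_card,
      QuaternionGroup.card]
  obtain ⟨A, mA, QA, -⟩ := P8.PjB.pre.{u, u} hP E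
  have hS' : S' ≤ Ns E := fun s hs0 => by
    obtain ⟨s, hs, rfl⟩ := (mS s).1 hs0
    refine mem_normalizer_fintype fun e he0 => ?_
    obtain ⟨e, he, rfl⟩ := (mE e).1 he0
    rw [← P8.PjBH.cj hP (hS hs) (hE he)]
    exact ((mA _).1 (sup_le (fun e he => (mA e).2 ⟨hE he, (mE _).2 ⟨e, he, rfl⟩⟩) QA
      (mem_normalizer_conj (tq.nor (hS hs)) (mem_sup_left he)))).2
  have fr : ∀ s ∈ S', ∀ e ∈ E, e ≠ 1 → s * e = e * s → s = 1 := fun s hs0 e he0 e1 k => by
    obtain ⟨s, hs, rfl⟩ := (mS s).1 hs0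
    obtain ⟨e, he, rfl⟩ := (mE e).1 he0
    by_contra s1
    refine e1 ?_
    have m1 : s * e * s⁻¹ ∈ K := mul_mem (mul_mem (hS hs) (hE he)) (inv_mem (hS hs))
    rw [tq.fr s hs (fun k => s1 ((hP.ker s (hS hs)).2 k)) e he ((hP.ker _ (mul_mem m1 (inv_mem (hE he)))).1 ?_),
      P8.PjBH.one hP]
    rw [hP.mul _ m1 _ (inv_mem (hE he)), P8.PjBH.cj hP (hS hs) (hE he),
      P8.PjBH.inv hP (hE he), k]
    group
  have hn' : ∃ e ∈ E, ∃ m : M, e • m ≠ m := by
    by_contra k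
    push Not at k
    exact hn (commutator_le.2 fun u hu e he => comm_mem sc ok.n2 (hE he) hu (k _ ((mE _).2 ⟨e, he, rfl⟩) _))
  have pc : ∀ u ∈ U₂, ∀ g ∈ K, p ⁅u, g⁆ = p u - π g • p u := fun u hu g hg => by
    rw [show ⁅u, g⁆ = u * (g * u⁻¹ * g⁻¹) by simp only [commutatorElement_def]; group,
      ha _ hu _ (mem_normalizer_conj (ok.n2 hg) (inv_mem hu)), sc.eqv g hg _ (inv_mem hu),
      p_inv ha hu, smul_neg, sub_eq_add_neg]
  refine ⟨?_, fun S₃ l1 l2 l3 => ?_⟩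
  · have ma : a ∈ closure ({a, b} : Set G) := subset_closure (.inl rfl)
    obtain ⟨D, cD, mD⟩ := exists_D ha hz (D := ⁅U₂, zpowers a⁆ ⊔ U₁) (sup_le (commutator_le.2
      fun u hu g hg => by
        rw [show ⁅u, g⁆ = u * (g * u⁻¹ * g⁻¹) by simp only [commutatorElement_def]; group]
        exact mul_mem hu (mem_normalizer_conj (ok.n2 (zpowers_le.2 tq.aK hg)) (inv_mem hu))) ok.le)
    rw [← cD]
    refine part1 two n9 hS' fr hn' (cS.trans c8) ((mE _).2 ⟨a, ma, rfl⟩) (fun k => ?_) D fun m => ?_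
    · have := tq.e9.1
      rw [hEQ a ma ((hP.ker a tq.aK).1 k), orderOf_one] at this
      omega
    · obtain ⟨u, hu, rfl⟩ := hs m
      rw [← pc u hu a tq.aK]
      exact mD _ (mem_sup_left (commutator_mem_commutator hu (mem_zpowers a)))
  · obtain ⟨S₃', m3, c3⟩ := P8.PjBH.im hP _ (l2.trans hS)
    have c4 := relIndex_mul_relIndex _ _ _ l1 l2
    rw [l3, c8, ← c3] at c4
    obtain ⟨w, w1, w2⟩ := part2 two n9 hS' fr hn' (S₃ := S₃') (fun s hs0 => by
      obtain ⟨s, hs, rfl⟩ := (m3 s).1 hs0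
      exact (mS _).2 ⟨s, l2 hs, rfl⟩) (by omega)
    obtain ⟨w, hw, rfl⟩ := hs w
    refine ⟨w, hw, fun s hs => comm_mem sc ok.n2 (hS (l2 hs)) hw (w1 _ ((m3 _).2 ⟨s, hs, rfl⟩)),
      fun t ht h3 k => w2 _ ((mS _).2 ⟨t, ht, rfl⟩) (fun k' => h3 ?_) ?_⟩
    · obtain ⟨s, hs, k'⟩ := (m3 _).1 k'
      exact (mul_mem_cancel_left (inv_mem hs)).1 (l1 ((P8.PjBH.eq_iff hP (hS (l2 hs)) (hS ht)).1 k'))
    · have := (hz _ (ok.le k)).2 k
      rw [pc w hw t (hS ht), sub_eq_zero] at this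
      exact this.symm

end Cfsg.Lib.K35
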