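import Cfsg.Agent.K35.Loc
import Cfsg.Agent.P8.Brg
import Cfsg.Agent.P8.PjB
import Cfsg.Agent.P8.BasJ
import Cfsg.Agent.P8.Bas1
import Cfsg.Agent.P8.Bas2

/-!
# Elementary abelian groups of order 9 acting on elementary abelian 2-groups
-/

set_option autoImplicit false
set_option linter.unusedSectionVars false

namespace Cfsg.Lib.K35.FQ8

open Cfsg Subgroup Cfsg.Lib.Trans Cfsg.Lib.Gold
open scoped commutatorElement

universe u v

variable {X : Type v} [Group X] {E S : Subgroup X} {e f g s : X}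

/-- `E` is elementary abelian of order 9. -/
structure N9 (E : Subgroup X) : Prop where
  card : Nat.card E = 9
  cube : ∀ e ∈ E, e ^ 3 = 1
  comm : ∀ e ∈ E, ∀ f ∈ E, e * f = f * e

theorem mem_zp (h3 : e ^ 3 = 1) : g ∈ zpowers e ↔ g = 1 ∨ g = e ∨ g = e * e := by
  refine ⟨fun h => ?_, ?_⟩
  · obtain ⟨k, rfl⟩ := mem_zpowers_iff.1 h
    have h3' : e ^ (3 : ℤ) = 1 := by exact_mod_cast h3
    rw [zpow_eq_zpow_emod k h3']
    have : k % 3 = 0 ∨ k % 3 = 1 ∨ k % 3 = 2 := by omega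
    rcases this with k | k | k <;> rw [k]
    · exact .inl (zpow_zero e)
    · exact .inr (.inl (zpow_one e))
    · exact .inr (.inr (zpow_two e))
  · rintro (rfl | rfl | rfl)
    · exact one_mem _
    · exact mem_zpowers _
    · exact mul_mem (mem_zpowers _) (mem_zpowers _)

theorem sq_mem {H : Subgroup X} (h3 : e ^ 3 = 1) (h : e * e ∈ H) : e ∈ H := by
  have := mul_mem h h
  rwa [show e * e * (e * e) = e ^ 3 * e by simp only [pow_succ, pow_zero, one_mul, mul_assoc], h3,
    one_mul] at this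

theorem zp_symm (h3 : e ^ 3 = 1) (h : g ∈ zpowers e) (h1 : g ≠ 1) : e ∈ zpowers g := by
  rcases (mem_zp h3).1 h with rfl | rfl | rfl
  · exact absurd rfl h1
  · exact mem_zpowers _
  · exact sq_mem h3 (mem_zpowers _)

theorem card_zp (h3 : e ^ 3 = 1) (h1 : e ≠ 1) : Nat.card (zpowers e) = 3 := by
  rw [Nat.card_zpowers]
  exact orderOf_eq_prime h3 h1

namespace N9
variable (h : N9 E)
include h

theorem fin : Finite E := Nat.finite_of_card_ne_zero (by rw [h.card]; norm_num)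

theorem exists_ne : ∃ e ∈ E, e ≠ 1 := by
  by_contra k
  push Not at k
  have := h.card
  rw [(eq_bot_iff_forall E).2 k, card_bot] at this
  omega

theorem exists_out (he : e ∈ E) : ∃ f ∈ E, f ∉ zpowers e := by
  by_contra k
  push Not at k
  have := card_dvd_of_le (show E ≤ zpowers e from k)
  rw [h.card, Nat.card_zpowers] at this
  exact absurd (this.trans (orderOf_dvd_of_pow_eq_one (h.cube e he))) (by norm_num)

theorem span (he : e ∈ E) (h1 : e ≠ 1) (hf : f ∈ E) (h2 : f ∉ zpowers e) (hg : g ∈ E) :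
    ∃ a ∈ zpowers e, g = a ∨ g = a * f ∨ g = a * (f * f) := by
  have := h.fin
  have le : zpowers e ⊔ zpowers f ≤ E := sup_le (zpowers_le.2 he) (zpowers_le.2 hf)
  have c1 := card_dvd_of_le le
  have c2 := card_dvd_of_le (le_sup_left : zpowers e ≤ zpowers e ⊔ zpowers f)
  rw [h.card] at c1
  rw [card_zp (h.cube e he) h1] at c2
  have c3 : Nat.card ↥(zpowers e ⊔ zpowers f) ≠ 3 := fun k => h2 (by
    have : Finite ↥(zpowers e ⊔ zpowers f) := Nat.finite_of_card_ne_zero (by omega)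
    rw [eq_of_le_of_card_ge (le_sup_left : zpowers e ≤ zpowers e ⊔ zpowers f)
      (by rw [k, card_zp (h.cube e he) h1])]
    exact mem_sup_right (mem_zpowers f))
  have c4 : Nat.card ↥(zpowers e ⊔ zpowers f) = 9 := by
    have := Nat.le_of_dvd (by norm_num) c1
    interval_cases Nat.card ↥(zpowers e ⊔ zpowers f) <;> omega
  rw [← eq_of_le_of_card_ge le (by rw [c4, h.card])] at hg
  have hn : zpowers f ≤ Ns (zpowers e) := zpowers_le.2 (centralizer_le_normalizer _
    (mem_centralizer_iff.2 fun a ha => h.comm a (zpowers_le.2 he ha) f hf))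
  obtain ⟨a, ha, b, hb, rfl⟩ := (coe_mul_of_right_le_normalizer_left _ _ hn).le hg
  refine ⟨a, ha, ?_⟩
  rcases (mem_zp (h.cube f hf)).1 hb with rfl | rfl | rfl
  · exact .inl (mul_one a)
  · exact .inr (.inl rfl)
  · exact .inr (.inr rfl)

theorem ne_one (h2 : f ∉ zpowers e) : f ≠ 1 := fun k => h2 (k ▸ one_mem _)

theorem out_symm (hf : f ∈ E) (h1 : e ≠ 1) (h2 : f ∉ zpowers e) : e ∉ zpowers f := fun k =>
  h2 (zp_symm (h.cube f hf) k h1)

/-- representatives of the four subgroups of order 3 -/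
theorem lines (he : e ∈ E) (h1 : e ≠ 1) (hf : f ∈ E) (h2 : f ∉ zpowers e) :
    (∀ i, ![e, f, e * f, e * (f * f)] i ∈ E) ∧
      ∀ i j, i ≠ j → ![e, f, e * f, e * (f * f)] i ∉ zpowers (![e, f, e * f, e * (f * f)] j) := by
  have m : ∀ i, ![e, f, e * f, e * (f * f)] i ∈ E := fun i => by
    fin_cases i
    exacts [he, hf, mul_mem he hf, mul_mem he (mul_mem hf hf)]
  have a1 := h.out_symm hf h1 h2
  have a2 : e * f ∉ zpowers e := fun k => h2 ((mul_mem_cancel_left (mem_zpowers e)).1 k)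
  have a3 : e * (f * f) ∉ zpowers e := fun k =>
    h2 (sq_mem (h.cube f hf) ((mul_mem_cancel_left (mem_zpowers e)).1 k))
  have a4 : e * f ∉ zpowers f := fun k => a1 ((mul_mem_cancel_right (mem_zpowers f)).1 k)
  have a5 : e * (f * f) ∉ zpowers f := fun k =>
    a1 ((mul_mem_cancel_right (mul_mem (mem_zpowers f) (mem_zpowers f))).1 k)
  have b1 := h.out_symm (m 2) (h.ne_one h2) a4
  have a6 : e * (f * f) ∉ zpowers (e * f) := fun k =>
    b1 ((mul_mem_cancel_left (mem_zpowers (e * f))).1 (by rwa [mul_assoc]))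
  refine ⟨m, fun i j hij => ?_⟩
  fin_cases i <;> fin_cases j
  exacts [absurd rfl hij, a1, h.out_symm (m 2) h1 a2, h.out_symm (m 3) h1 a3, h2, absurd rfl hij, b1,
    h.out_symm (m 3) (h.ne_one h2) a5, a2, a4, absurd rfl hij, h.out_symm (m 3) (h.ne_one a2) a6,
    a3, a5, a6, absurd rfl hij]

theorem trans [Finite S] (hS : S ≤ Ns E) (he : e ∈ E) (h1 : e ≠ 1)
    (hc : 7 * Nat.card ((C1 e).subgroupOf S) < Nat.card S) (hf : f ∈ E) (h2 : f ≠ 1) :
    ∃ s ∈ S, s * e * s⁻¹ = f := by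
  by_contra k
  push Not at k
  letI : MulAction S X := MulAction.compHom X (MulAut.conj.comp S.subtype)
  have sm : ∀ (s : S) (x : X), s • x = s * x * (s : X)⁻¹ := fun _ _ => rfl
  have e1 := MulAction.index_stabilizer S e
  have e2 := (MulAction.stabilizer S e).card_mul_index
  have e3 : MulAction.stabilizer S e = (C1 e).subgroupOf S := by
    ext s
    rw [MulAction.mem_stabilizer_iff, sm, mem_subgroupOf, mem_centralizer_singleton_iff,
      mul_inv_eq_iff_eq_mul]
  have fE : (E : Set X).Finite := h.fin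
  have e4 : MulAction.orbit S e ⊆ (E : Set X) \ {1, f} := by
    rintro _ ⟨s, rfl⟩
    refine ⟨mem_normalizer_conj (hS s.2) he, ?_⟩
    rintro (k1 | k1)
    · exact h1 (conj_eq_one_iff.1 k1)
    · exact k s s.2 k1
  have e5 := Set.ncard_le_ncard e4 (fE.subset Set.sdiff_subset)
  have e6 := Set.ncard_sdiff_add_ncard_of_subset (s := {1, f}) (t := (E : Set X))
    (by rintro _ (rfl | rfl); exacts [one_mem E, hf]) fE
  rw [Set.ncard_pair h2.symm, ← Nat.card_coe_set_eq (E : Set X)] at e6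
  have e7 : Nat.card (E : Set X) = 9 := h.card
  rw [e1, e3] at e2
  have := Nat.mul_le_mul_left (Nat.card ((C1 e).subgroupOf S)) (show (MulAction.orbit S e).ncard ≤ 7 by omega)
  omega

end N9

variable {M : Type u} [AddCommGroup M] [DistribMulAction X M] {m : M}

/-- The trace of an element of order 3. -/
def T (e : X) : M →+ M := AddMonoidHom.id M + DistribSMul.toAddMonoidHom M e +
  DistribSMul.toAddMonoidHom M (e * e)

theorem T_eq_1 : type_of% @T.eq_1 := @T.eq_1

theorem T_ap (e : X) (m : M) : T e m = m + e • m + e • e • m := by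
  simp [T, mul_smul]

theorem T_conj (s e : X) (m : M) : T (s * e * s⁻¹) (s • m) = s • T e m := by
  simp [T_ap, mul_smul]

theorem T_fix (two : ∀ m : M, m + m = 0) (h : e • m = m) : T e m = m := by
  rw [T_ap, h, h, two, zero_add]

theorem fix_T (h3 : e ^ 3 = 1) (m : M) : e • T e m = T e m := by
  have : e • e • e • m = m := by
    rw [smul_smul, smul_smul, ← pow_two, ← pow_succ, h3, one_smul]
  rw [T_ap, smul_add, smul_add, this]
  abel

theorem smul_T (c : g * e = e * g) (m : M) : g • T e m = T e (g • m) := by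
  rw [← T_conj, c, mul_inv_cancel_right]

theorem zp_fix (h : e • m = m) (hg : g ∈ zpowers e) : g • m = m :=
  (zpowers_le.2 (MulAction.mem_stabilizer_iff.2 h) : zpowers e ≤ MulAction.stabilizer X m) hg

/-- The component belonging to `⟨e⟩`. -/
def FS (M : Type u) [AddCommGroup M] [DistribMulAction X M] (E : Subgroup X) (e : X) :
    AddSubgroup M where
  carrier := {m | e • m = m ∧ ∀ f ∈ E, f ∉ zpowers e → T f m = 0}
  zero_mem' := ⟨smul_zero e, fun _ _ _ => map_zero _⟩
  add_mem' ha hb := ⟨by rw [smul_add, ha.1, hb.1], fun f hf k => by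
    rw [map_add, ha.2 f hf k, hb.2 f hf k, add_zero]⟩
  neg_mem' ha := ⟨by rw [smul_neg, ha.1], fun f hf k => by rw [map_neg, ha.2 f hf k, neg_zero]⟩

theorem FS_eq_1 : type_of% @FS.eq_1 := @FS.eq_1

theorem FS_conj (hs : s ∈ Ns E) (hm : m ∈ FS M E e) : s • m ∈ FS M E (s * e * s⁻¹) := by
  refine ⟨by rw [mul_smul, inv_smul_smul, mul_smul, hm.1], fun f hf k => ?_⟩
  rw [show f = s * (s⁻¹ * f * s) * s⁻¹ by group, T_conj,
    hm.2 _ (mem_normalizer_conj' hs hf) fun k' => k ?_, smul_zero]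
  obtain ⟨n, hn⟩ := mem_zpowers_iff.1 k'
  exact mem_zpowers_iff.2 ⟨n, by rw [conj_zpow, hn]; group⟩

variable (two : ∀ m : M, m + m = 0)
include two

theorem P_mem (h : N9 E) (he : e ∈ E) (h1 : e ≠ 1) (hf : f ∈ E) (h2 : f ∉ zpowers e) (m : M) :
    T e m + T f (T e m) ∈ FS M E e := by
  have k1 := fix_T (h.cube e he) m
  have k2 : e • T f (T e m) = T f (T e m) := by rw [smul_T (h.comm e he f hf), k1]
  have f3 : ∀ v : M, f • f • f • v = v := fun v => by
    rw [smul_smul, smul_smul, ← pow_two, ← pow_succ, h.cube f hf, one_smul]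
  refine ⟨by rw [smul_add, k1, k2], fun g hg h3 => ?_⟩
  have key : ∀ v : M, e • v = v → T g v = T f v := fun v hv => by
    have ef : ∀ v : M, e • v = v → e • f • v = f • v := fun v hv => by
      rw [smul_smul, h.comm e he f hf, mul_smul, hv]
    obtain ⟨a, ha, rfl | rfl | rfl⟩ := h.span he h1 hf h2 hg
    · exact absurd ha h3
    · simp only [T_ap, mul_smul, zp_fix (ef v hv) ha, zp_fix (ef _ (ef v hv)) ha]
    · simp only [T_ap, mul_smul, zp_fix (ef _ (ef v hv)) ha, f3, zp_fix (ef v hv) ha]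
      abel
  rw [map_add, key _ k1, key _ k2, T_fix two (fix_T (h.cube f hf) _), two]

theorem exists_FS (h : N9 E) (hn : ∃ e ∈ E, ∃ m : M, e • m ≠ m) :
    ∃ e ∈ E, e ≠ 1 ∧ ∃ m ∈ FS M E e, m ≠ 0 := by
  by_contra k
  push Not at k
  obtain ⟨g, hg, m, hm⟩ := hn
  have g1 : g ≠ 1 := fun k => hm (by rw [k, one_smul])
  obtain ⟨f, hf, h2⟩ := h.exists_out hg
  obtain ⟨l1, l2⟩ := h.lines hg g1 hf h2
  have p0 := k _ hg g1 _ (P_mem two h hg g1 hf h2 m)
  have p := fun (i : Fin 4) (hi : i ≠ 0) => k _ (l1 i) (h.ne_one (l2 i 0 hi)) _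
    (P_mem two h (l1 i) (h.ne_one (l2 i 0 hi)) hg (l2 0 i hi.symm) m)
  have p1 := p 1 (by decide)
  have p2 := p 2 (by decide)
  have p3 := p 3 (by decide)
  have c : ∀ v : M, f • g • v = g • f • v := fun v => by
    rw [smul_smul, h.comm f hf g hg, mul_smul]
  have f3 : ∀ v : M, f • f • f • v = v := fun v => by
    rw [smul_smul, smul_smul, ← pow_two, ← pow_succ, h.cube f hf, one_smul]
  have g3 : ∀ v : M, g • g • g • v = v := fun v => by
    rw [smul_smul, smul_smul, ← pow_two, ← pow_succ, h.cube g hg, one_smul]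
  have e : m = T g (T f m) := by
    change T f m + _ = 0 at p1
    change T (g * f) m + T g (T (g * f) m) = 0 at p2
    change T (g * (f * f)) m + T g (T (g * (f * f)) m) = 0 at p3
    change _ + T g (T f m) = 0 at p1
    simp only [T_ap, mul_smul, smul_add, c, f3, g3] at p0 p1 p2 p3 ⊢
    linear_combination (norm := abel1) p0 + p1 + p2 + p3 - 3 • two (m + f • m + f • f • m +
      g • m + g • f • m + g • f • f • m + g • g • m + g • g • f • m + g • g • f • f • m) - two m
  exact hm (by rw [e, fix_T (h.cube g hg)])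

theorem four_le [Finite M] (h : N9 E) (he : e ∈ E) (hm : m ∈ FS M E e) (h0 : m ≠ 0) :
    4 ≤ Nat.card (FS M E e) := by
  obtain ⟨f, hf, h2⟩ := h.exists_out he
  have h1 : f • m ∈ FS M E e := by
    have := FS_conj (le_normalizer hf) hm
    rwa [h.comm f hf e he, mul_inv_cancel_right] at this
  have n1 : f • m ≠ 0 := fun k => h0 ((smul_eq_zero_iff_eq f).1 k)
  have n2 : m ≠ f • m := fun k => h0 (by rw [← T_fix two k.symm, hm.2 f hf h2])
  have n3 : m + f • m ≠ 0 := fun k => n2 (by linear_combination (norm := abel1) k - two (f • m))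
  have inj : Function.Injective (![⟨0, zero_mem _⟩, ⟨m, hm⟩, ⟨f • m, h1⟩, ⟨m + f • m, add_mem hm h1⟩] :
      Fin 4 → FS M E e) := by
    intro i j k
    fin_cases i <;> fin_cases j <;> simp_all [eq_comm]
  simpa using Nat.card_le_card_of_injective _ inj

theorem card_ge [Finite M] (h : N9 E) {n : ℕ} (c : Fin n → X) (hc : ∀ i, c i ∈ E)
    (hd : ∀ i j, i ≠ j → c i ∉ zpowers (c j)) (h0 : ∀ i, ∃ m ∈ FS M E (c i), m ≠ 0)
    (D : AddSubgroup M) (hD : ∀ i, FS M E (c i) ≤ D) : 4 ^ n ≤ Nat.card D := by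
  have key : ∀ (m : ∀ i, FS M E (c i)) i, T (c i) (∑ j, (m j : M)) = m i := fun m i => by
    rw [map_sum, Finset.sum_eq_single i (fun j _ hj => (m j).2.2 _ (hc i) (hd i j hj.symm)) (by simp),
      T_fix two (m i).2.1]
  have inj : Function.Injective fun m : ∀ i, FS M E (c i) =>
      (⟨∑ j, (m j : M), sum_mem fun j _ => hD j (m j).2⟩ : D) := fun m m' k =>
    funext fun i => Subtype.ext (by rw [← key m i, ← key m' i, Subtype.mk.inj k])
  refine le_trans ?_ (Nat.card_le_card_of_injective _ inj)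
  rw [Nat.card_pi]
  refine le_trans (by simp) (Finset.pow_card_le_prod _ _ 4 fun i _ => ?_)
  obtain ⟨m, hm, h1⟩ := h0 i
  exact four_le two h (hc i) hm h1

theorem all_FS (h : N9 E) (hn : ∃ e ∈ E, ∃ m : M, e • m ≠ m)
    (tr : ∀ e ∈ E, e ≠ 1 → ∀ f ∈ E, f ≠ 1 → ∃ s ∈ Ns E, s * e * s⁻¹ = f) (hf : f ∈ E) (h1 : f ≠ 1) :
    ∃ m ∈ FS M E f, m ≠ 0 := by
  obtain ⟨e, he, e1, m, hm, m0⟩ := exists_FS two h hn
  obtain ⟨s, hs, rfl⟩ := tr e he e1 f hf h1
  exact ⟨s • m, FS_conj hs hm, fun k => m0 ((smul_eq_zero_iff_eq s).1 k)⟩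

omit two in
theorem exists_D {G : Type u} [Group G] [Finite G] {U₁ U₂ D : Subgroup G} {p : G → M}
    (ha : ∀ a ∈ U₂, ∀ b ∈ U₂, p (a * b) = p a + p b) (hz : ∀ a ∈ U₂, p a = 0 ↔ a ∈ U₁)
    (hD : D ≤ U₂) : ∃ D' : AddSubgroup M, Nat.card D' = U₁.relIndex D ∧ ∀ d ∈ D, p d ∈ D' := by
  let f : D →* Multiplicative M := MonoidHom.mk' (fun d => Multiplicative.ofAdd (p d))
    fun a b => by rw [← ofAdd_add, ← ha _ (hD a.2) _ (hD b.2)]; rfl
  have hk : f.ker = U₁.subgroupOf D := by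
    ext d
    rw [MonoidHom.mem_ker, mem_subgroupOf, ← hz _ (hD d.2)]
    exact Iff.rfl
  refine ⟨Subgroup.toAddSubgroup' f.range, ?_, fun d hd => ⟨⟨d, hd⟩, rfl⟩⟩
  rw [relIndex, ← hk, index_ker]
  rfl

end Cfsg.Lib.K35.FQ8
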