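import Cfsg.Agent.K35.C3
import Cfsg.Agent.K35.LK
import Cfsg.Agent.S1001
import Cfsg.Agent.Mas.Z1
import Cfsg.Agent.Mas.Z2a
import Cfsg.Agent.AB.Two3
import Cfsg.Agent.FT.BG4.Elem
import Cfsg.Agent.FT.Elem
import Cfsg.Agent.Rank2.Fusion

/-! Simple groups of order `2 ^ b * 3 ^ a * 5`: the global properties of a counterexample. -/

set_option autoImplicit false

namespace Cfsg.Lib.K35

open Cfsg Subgroup Cfsg.Lib.Trans Cfsg.Lib.Gold Cfsg.Lib.Local.MSS
open Cfsg.Lib.P8 (A5 A6 S5 O2 Om Jt Phi EA SR4 Ch E9 Pj Ty Sec SecOK Mx)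
open scoped commutatorElement

universe u

theorem gl (hLA : StLA.{u}) (hL3272 : StL3272.{u}) (hL3223 : StL3223.{u}) (hL1759 : StL1759.{u})
    (hL3114 : StL3114.{u}) (hL3248 : StL3248.{u}) (hEven : StEven.{u}) (hC3 : StC3.{u}) :
    StGl.{u} := by
  intro G _ _ _ ho hf hs hc
  have : Fact (Nat.Prime 2) := ⟨Nat.prime_two⟩
  have : Fact (Nat.Prime 3) := ⟨Nat.prime_three⟩
  have na := LK.ncomm ho
  obtain ⟨b, a, e⟩ := id ho
  have e' : Nat.card G = 2 ^ b * 3 ^ (a + 1) * 5 := by rw [e]; ring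
  have c5 : ∀ y : G, orderOf y = 5 → C1 y = zpowers y :=
    Agent.S1001.result 5 (a + 1) b (by norm_num) (by rw [e]; ring)
  have pr : ∀ p : ℕ, p.Prime → p ∣ Nat.card G → p = 2 ∨ p = 3 ∨ p = 5 := fun p hp hd => by
    have k : ¬ 7 ≤ p := fun h7 => LK.nd ho hp h7 hd
    have := hp.two_le
    have : p ≠ 4 := by rintro rfl; norm_num at hp
    have : p ≠ 6 := by rintro rfl; norm_num at hp
    omega
  have sol : ∀ t : G, orderOf t = 2 → Group.IsSolvable (centralizer ({t} : Set G)) := fun t ht =>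
    C3.solv pr c5 (x := t) (by rintro rfl; simp at ht) (by omega) le_rfl
  have la := mt (hLA G hf ho) hc
  simp only [not_or, not_forall, not_exists] at la
  obtain ⟨r2, -, ⟨N, n1, n2⟩, r5⟩ := la
  obtain ⟨S⟩ : Nonempty (Sylow 2 G) := inferInstance
  obtain ⟨A, a1, a2⟩ := (hL3272 G hf ho sol S).resolve_right hc
  have c2 : IsCharacteristicTwoType G := ⟨by
    by_contra k
    refine r2 fun E _ h2 => ?_
    rw [(eq_bot_iff_forall E).2 fun x hx => orderOf_eq_one_iff.1 (Nat.eq_one_of_dvd_coprimes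
      (Nat.coprime_two_left.2 (Nat.not_even_iff_odd.1 k)) (orderOf_dvd_of_pow_eq_one (h2 x hx))
      (orderOf_dvd_natCard x)), card_bot]
    norm_num, Mas.locChar_two na S a1 a2 (C3.con pr c5 (by norm_num))⟩
  refine ⟨‹_›, ⟨b, a + 1, hEven G b (a + 1) a.succ_pos e' c2 r5, e'⟩, c5, c2, hs,
    fun t T ot hT h1 h2 => ?_, fun z oz h1 h2 => ?_, fun R hR hX T x y hT T1 hx hy e9 => ?_,
    fun k => hc (hL3114 G hf ho c2 sol ⟨N, n1, n2⟩ k), N, n1, n2⟩
  · obtain ⟨P, rfl⟩ := hT.exists_sylow_eq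
    exact hc (hL3223 G na hf t P ot h1 h2)
  · have z2 : z * z = 1 := by rw [← sq, ← oz, pow_orderOf_eq_one]
    have zQ : zpowers z ≤ O2 (C1 z) := le_pCoreOf (zpowers_le.2 (mem_C1.2 rfl))
      ((Cs_zpowers z).ge.trans Cs_le_Ns) (Solv.PG.isPGroup_zpowers (k := 1) (by rw [pow_one, sq, z2]))
    exact hc (hL1759 G hf ho z _ oz (pCoreOf_le _) (self_le_normalizer_pCoreOf _)
      (fun g hg => Gomi.charP_C1 c2 z2 (by rintro rfl; simp at oz) ⟨Cs_le_C1 (zQ (mem_zpowers z)) hg, hg⟩)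
      (fun R hR k1 k2 => le_pCoreOf k1 k2 hR) h1 h2)
  · obtain ⟨P, rfl⟩ := hR.exists_sylow_eq
    by_contra hr
    obtain ⟨E, e1, e2, e3⟩ := FT.BG4.exists_normal_elementary_card_cube (by norm_num) P.isPGroup'
      (mt (Rank2.PRankLE.of_sylow P) hr)
    have := e2.1
    obtain ⟨B, b1, b2⟩ := FT.SCN_exists (A := E.map (P : Subgroup G).subtype) P.isPGroup'.isNilpotent
      ⟨map_subtype_le _, by
        refine le_trans ?_ (le_normalizer_map _)
        rw [normalizer_eq_top, ← MonoidHom.range_eq_map, range_subtype]⟩ inferInstance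
    obtain ⟨k1, k2⟩ := Mas.Z2.e9 e9.1 (by rw [← e9.2.1, pow_orderOf_eq_one]) e9.2.2.1.symm e9.2.2.2
    refine hc (hL3248 G hf ho c2 S A a1 a2 P B b1 (fun k => ?_) hX (hC3 G (fun k => ?_) pr c5)
      ⟨T, _, hT, T1, sup_le (zpowers_le.2 hx) (zpowers_le.2 hy), k1, k2⟩)
    · have k3 := k ((E.map (P : Subgroup G).subtype).subgroupOf B) inferInstance (by
        rintro ⟨_, h1⟩ ⟨w, hw, rfl⟩
        exact Subtype.ext (show (P : Subgroup G).subtype w ^ 3 = 1 by rw [← map_pow, e2.2 w hw, map_one]))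
      rw [Nat.card_congr (subgroupOfEquivOfLe b2).toEquiv, card_map_of_injective (subtype_injective _),
        e3] at k3
      omega
    · rw [e', show 25 = 5 * 5 from rfl, Nat.mul_dvd_mul_iff_right (by norm_num)] at k
      exact absurd k ((Nat.Prime.coprime_iff_not_dvd (by norm_num)).1
        (Nat.Coprime.mul_right (Nat.Coprime.pow_right _ (by norm_num)) (Nat.Coprime.pow_right _ (by norm_num))))

end Cfsg.Lib.K35
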