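import Cfsg.Agent.K35.Loc
import Cfsg.Agent.K35.FL2
import Cfsg.Agent.K35.FL3
import Cfsg.Agent.K35.FU3
import Cfsg.Agent.K35.FS4
import Cfsg.Agent.K35.FSA
import Cfsg.Agent.Char.Burnside
import Cfsg.Agent.Class.PGL2Sub
import Cfsg.Agent.S0494
import Cfsg.Agent.S0497

/-!
# Simple groups of order `2 ^ b * 3 ^ a * 5`: the induction
-/

set_option autoImplicit false

namespace Cfsg.Lib.K35

open Cfsg Subgroup
open Cfsg.Lib.P8 (A5 A6)

universe u

namespace Ind

theorem fam (G : Type u) [Group G] [Finite G] [IsSimpleGroup G] (q : ℕ) (hq : q.Prime) (h : Ord G q) :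
    Fam G :=
  ⟨fl2 G q hq h, fl3 G q hq h, fu3 G q hq h, fs4 G q hq h, (fsa G q hq h).1, (fsa G q hq h).2.1,
    (fsa G q hq h).2.2⟩

theorem not_solv {X : Type u} [Group X] [IsSimpleGroup X] (h : ¬ IsMulCommutative X) :
    ¬ Group.IsSolvable X := fun hs =>
  h ⟨⟨IsSimpleGroup.comm_iff_isSolvable.2 hs⟩⟩

theorem ord_of {X : Type u} [Group X] [Finite X] [IsSimpleGroup X] (h : ¬ IsMulCommutative X) {a b : ℕ}
    (hd : Nat.card X ∣ 2 ^ a * 3 * 5 * 3 ^ b) : Ord X 3 := by
  have e : 2 ^ a * 3 * 5 * 3 ^ b = 2 ^ a * 3 ^ (b + 1) * 5 ^ 1 := by ring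
  rw [e] at hd
  obtain ⟨y, z, hy, hz, hyz⟩ := (Nat.dvd_mul.1 hd)
  obtain ⟨v, w, hv, hw, rfl⟩ := (Nat.dvd_mul.1 hy)
  obtain ⟨i, -, rfl⟩ := (Nat.dvd_prime_pow Nat.prime_two).1 hv
  obtain ⟨j, -, rfl⟩ := (Nat.dvd_prime_pow Nat.prime_three).1 hw
  obtain ⟨k, hk, rfl⟩ := (Nat.dvd_prime_pow Nat.prime_five).1 hz
  have hk1 : k = 1 := by
    by_contra h1
    have : k = 0 := by omega
    subst this
    exact not_solv h (Char.isSolvable_of_card_dvd (a := i) (b := j) Nat.prime_two Nat.prime_three X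
      (by rw [← hyz]; simp))
  subst hk1
  rcases j with _ | j
  · exact absurd (Char.isSolvable_of_card_dvd (a := i) (b := 1) Nat.prime_two Nat.prime_five X
      (by rw [← hyz]; simp)) (not_solv h)
  · exact ⟨i, j, by rw [← hyz]; ring⟩

theorem prime_le {X : Type u} [Group X] (h : Ord X 3) {p : ℕ} (hp : p.Prime) (hd : p ∣ Nat.card X) :
    p ≤ 5 := by
  obtain ⟨a, b, h⟩ := h
  rw [h] at hd
  rcases (Nat.Prime.dvd_mul hp).1 hd with h | h
  · rcases (Nat.Prime.dvd_mul hp).1 h with h | h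
    · rcases (Nat.Prime.dvd_mul hp).1 h with h | h
      · have := Nat.le_of_dvd (by norm_num) (hp.dvd_of_dvd_pow h); omega
      · have := Nat.le_of_dvd (by norm_num) h; omega
    · exact Nat.le_of_dvd (by norm_num) h
  · have := Nat.le_of_dvd (by norm_num) (hp.dvd_of_dvd_pow h); omega

theorem of_concl {X : Type u} [Group X] [Finite X] [IsSimpleGroup X] (ho : Ord X 3) (h : Concl X) :
    Nonempty (X ≃* A5) ∨ Nonempty (X ≃* A6) ∨ U42 X := by
  rcases h with ⟨F, _, _, hF, ⟨e⟩⟩ | h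
  · have hc := Class.gcd_mul_card_PSL2 (F := F)
    rw [← Nat.card_congr e.toEquiv, Nat.card_eq_fintype_card (α := F)] at hc
    rcases hF with hF | hF | hF | hF | hF <;> rw [hF] at hc <;> norm_num at hc
    · exact Or.inl (Agent.S0494.result (by omega))
    · exact Or.inr (Or.inl (Agent.S0497.result (by omega)))
    · have := prime_le ho (p := 11) (by norm_num) (by omega); omega
    · have := prime_le ho (p := 17) (by norm_num) (by omega); omega
    · have := prime_le ho (p := 31) (by norm_num) (by omega); omega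
  · exact Or.inr (Or.inr h)

end Ind

theorem ind (hGl : StGl.{u}) (hNo : StNo.{u}) : StQ3.{u} := by
  suffices H : ∀ n : ℕ, ∀ (G : Type u) [Group G] [Finite G] [IsSimpleGroup G], Nat.card G = n →
      Ord G 3 → Concl G from fun G _ _ _ h => H _ G rfl h
  intro n
  induction n using Nat.strong_induction_on with
  | _ n ih =>
    intro G _ _ _ hn ho
    by_contra hc
    refine hNo G (hGl G ho (Ind.fam G 3 Nat.prime_three ho) ?_ hc)
    intro H N _ hH hs hna
    obtain ⟨a, b, hab⟩ := ho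
    have h1 : Nat.card (H ⧸ N) ∣ Nat.card H := N.card_quotient_dvd_card
    have h2 : Nat.card H ∣ Nat.card G := H.card_subgroup_dvd_card
    have ho' : Ord (H ⧸ N) 3 := Ind.ord_of hna (hab ▸ h1.trans h2)
    have h3 : Nat.card H < Nat.card G := by
      refine lt_of_le_of_ne (Nat.le_of_dvd Nat.card_pos h2) fun h => hH ?_
      exact (Subgroup.card_eq_iff_eq_top H).1 h
    exact Ind.of_concl ho' (ih _ (hn ▸ lt_of_le_of_lt (Nat.le_of_dvd Nat.card_pos h1) h3) _ rfl ho')

end Cfsg.Lib.K35
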