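import Cfsg.Agent.K35.Loc
import Cfsg.Agent.P8.PjB
import Cfsg.Agent.P8.Bas2
import Cfsg.Agent.Solv.MinNormal
import Cfsg.Agent.Solv.CardModEq
import Cfsg.Agent.Solv.Cores

/-!
# Simple groups of order `2 ^ b * 3 ^ a * 5`: the second member of the amalgam
-/

set_option autoImplicit false
set_option linter.unusedSectionVars false

namespace Cfsg.Lib.K35

open Cfsg Subgroup Cfsg.Lib.Trans Cfsg.Lib.Gold
open Cfsg.Lib.P8 (A5 A6 S5 O2 Om Jt Phi EA SR4 Ch E9 Pj Ty Sec SecOK Mx)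
open scoped commutatorElement

universe u

namespace K0

open P8.PjBH

theorem f2 : Fact (Nat.Prime 2) := ⟨Nat.prime_two⟩
theorem f3 : Fact (Nat.Prime 3) := ⟨Nat.prime_three⟩
theorem f5 : Fact (Nat.Prime 5) := ⟨Nat.prime_five⟩

section gen
variable {G : Type u} [Group G] [Finite G]

theorem pg {A : Subgroup G} (h : ∀ a ∈ A, a ^ 3 = 1) : IsPGroup 3 A :=
  fun g => ⟨1, Subtype.ext (by simpa using h g g.2)⟩

theorem cube {s : Set G} (hc : ∀ a ∈ s, ∀ b ∈ s, a * b = b * a) (h3 : ∀ a ∈ s, a ^ 3 = 1) :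
    ∀ a ∈ closure s, a ^ 3 = 1 := by
  have := isMulCommutative_closure hc
  intro a ha
  induction ha using closure_induction with
  | mem a ha => exact h3 a ha
  | one => exact one_pow 3
  | mul a b ha hb h1 h2 =>
    have : Commute a b := congrArg Subtype.val (mul_comm' (⟨a, ha⟩ : closure s) ⟨b, hb⟩)
    rw [this.mul_pow, h1, h2, one_mul]
  | inv a _ h => rw [inv_pow, h, inv_one]

theorem pz {a : G} (h : a ^ 3 = 1) : IsPGroup 3 (zpowers a) := pg (by
  rintro _ ⟨k, rfl⟩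
  rw [← zpow_natCast, ← zpow_mul, mul_comm, zpow_mul, zpow_natCast, h, one_zpow])

theorem e9_of {N : Subgroup G} (hc : IsMulCommutative N) (h3 : ∀ a ∈ N, a ^ 3 = 1)
    (h : 3 < Nat.card N) : ∃ a b : G, E9 a b := by
  have := f3
  obtain ⟨a, ha, oa⟩ := P8.Bas1H.exists_ord (N := N) Nat.prime_three
    ((pg h3).card_eq_or_dvd.resolve_left (by omega))
  obtain ⟨b, hb, nb⟩ : ∃ b ∈ N, b ∉ zpowers a := by
    by_contra e
    push Not at e
    have := Trans.card_le_of_le (show N ≤ zpowers a from e)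
    rw [Nat.card_zpowers, oa] at this
    omega
  exact ⟨a, b, oa, orderOf_eq_prime (h3 b hb) fun e => nb (e ▸ one_mem _),
    congrArg Subtype.val (mul_comm' (⟨a, ha⟩ : N) ⟨b, hb⟩), nb⟩

theorem no5 [Group.IsSolvable G] (hp : ∀ p : ℕ, p.Prime → p ∣ Nat.card G → p = 2 ∨ p = 3 ∨ p = 5)
    (h25 : ¬ 25 ∣ Nat.card G) (h2 : pCore 2 G = ⊥)
    (h15 : ∀ a b : G, orderOf a = 3 → orderOf b = 5 → a * b ≠ b * a) {x : G} (hx : orderOf x = 3)
    (hr : ∀ a b : G, E9 a b → PRankLE 3 2 G) : ¬ 5 ∣ Nat.card G := by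
  intro h5
  have := f3
  have := f5
  obtain ⟨y, hy⟩ := exists_prime_orderOf_dvd_card' 5 h5
  have : Nontrivial G := ⟨x, 1, fun e => by rw [e, orderOf_one] at hx; omega⟩
  obtain ⟨p, N, pp, hN, hc, he, hP⟩ := Solv.exists_isMinNormal_elementary G
  have := hN.normal
  have := Fact.mk pp
  obtain ⟨k, hk⟩ := hP.exists_card_eq
  have k0 : k ≠ 0 := fun e => hN.ne_bot (eq_bot_of_card_eq _ (by rw [hk, e, pow_zero]))
  have hd : p ^ k ∣ Nat.card G := hk ▸ card_subgroup_dvd_card N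
  have md : ∀ (q : ℕ) [Fact q.Prime] (z : G), orderOf z = q →
      (∀ g : G, orderOf g = p → g * z ≠ z * g) → p ^ k ≡ 1 [MOD q] := fun q _ z hz h => by
    rw [← hk]
    refine Solv.card_modEq_one_of_inf_centralizer_eq_bot (Q := zpowers z)
      (.of_card (n := 1) (by rw [Nat.card_zpowers, hz, pow_one])) (by rw [normalizer_eq_top]; exact le_top)
      (eq_bot_iff.2 fun g hg => ?_)
    by_contra e
    exact h g (orderOf_eq_prime (he g hg.1) e) (hg.2 z (mem_zpowers z)).symm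
  rcases hp p pp ((dvd_pow_self p k0).trans hd) with rfl | rfl | rfl
  · exact hN.ne_bot (le_bot_iff.1 (h2 ▸ le_sSup ⟨hN.normal, hP⟩))
  · have h1 := md 5 y hy fun g hg => h15 g y hg hy
    have h9 : Nat.card N ≤ 3 ^ 2 := by
      by_contra e
      obtain ⟨a, b, h⟩ := e9_of hc he (by omega)
      exact e (hr a b h N hc he)
    rw [hk, Nat.pow_le_pow_iff_right (by norm_num)] at h9
    interval_cases k
    · exact k0 rfl
    · exact absurd h1 (by decide)
    · exact absurd h1 (by decide)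
  · have h1 := md 3 x hx fun g hg e => h15 x g hx hg e.symm
    have : k ≤ 1 := by
      by_contra e
      exact h25 ((pow_dvd_pow 5 (show 2 ≤ k by omega)).trans hd)
    interval_cases k
    · exact k0 rfl
    · exact absurd h1 (by decide)

theorem no27 (hr : PRankLE 3 2 G) {M : Subgroup G} (hA : A3 M) {x a b : G} (xM : x ∈ M)
    (ox : orderOf x = 3) {P : Subgroup G} (hP : IsPGroup 3 P) (xP : x ∈ P) (aP : a ∈ P) (bP : b ∈ P)
    (a3 : a ^ 3 = 1) (ax : a * x = x * a) (bx : b * x = x * b) : ⁅a, b⁆ ≠ x := by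
  intro e
  have := f3
  have x1 : x ≠ 1 := fun e => by rw [e, orderOf_one] at ox; omega
  have x3 : x ^ 3 = 1 := ox ▸ pow_orderOf_eq_one x
  obtain ⟨R, hR, PR⟩ := exists_isSylowIn_ge hP le_top
  have : Nontrivial R := ⟨⟨x, PR xP⟩, 1, fun e => x1 (congrArg Subtype.val e)⟩
  have := hR.isPGroup.center_nontrivial
  obtain ⟨r, hr1, ro⟩ := P8.Bas1H.exists_ord (N := center R) Nat.prime_three
    ((hR.isPGroup.to_subgroup _).card_eq_or_dvd.resolve_left Finite.one_lt_card.ne')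
  have rc : ∀ g ∈ R, g * r = r * g := fun g hg =>
    congrArg Subtype.val (mem_center_iff.1 hr1 ⟨g, hg⟩)
  have ro' : orderOf (r : G) = 3 := by rw [orderOf_coe, ro]
  have r3 : (r : G) ^ 3 = 1 := ro' ▸ pow_orderOf_eq_one _
  have rx : (r : G) ∉ zpowers x := fun h => by
    have : zpowers (r : G) = zpowers x := eq_of_le_of_card_ge (zpowers_le.2 h)
      (by rw [Nat.card_zpowers, Nat.card_zpowers, ox, ro'])
    refine hA.nc x xM ox R hR fun g hg => ?_
    rw [← Cs_zpowers, ← this, Cs_zpowers]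
    exact mem_C1.2 (rc g hg)
  have c3 : ∀ u ∈ ({x, r.1, a} : Set G), ∀ v ∈ ({x, r.1, a} : Set G), u * v = v * u := by
    have h1 := rc x (PR xP)
    have h2 := rc a (PR aP)
    rintro u (rfl | rfl | rfl) v (rfl | rfl | rfl) <;> simp [*]
  have p3 : ∀ u ∈ ({x, r.1, a} : Set G), u ^ 3 = 1 := by
    rintro u (rfl | rfl | rfl) <;> assumption
  have sub : ({x, r.1} : Set G) ⊆ {x, r.1, a} := by
    rintro u (rfl | rfl) <;> simp
  have h9 := hr _ (isMulCommutative_closure c3) (cube c3 p3)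
  have h1 : zpowers x < closure {x, r.1} :=
    lt_of_le_of_ne (zpowers_le.2 (subset_closure (by simp))) fun e =>
      rx (e ▸ subset_closure (by simp))
  have h2 : closure {x, r.1} < closure {x, r.1, a} := lt_of_le_of_ne (closure_mono sub) fun e' => by
    have h3 : closure {x, r.1} ≤ C1 b := by
      rw [closure_le]
      rintro u (rfl | rfl)
      · exact mem_C1.2 bx.symm
      · exact mem_C1.2 (rc b (PR bP)).symm
    have := mem_C1.1 (h3 (e' ▸ subset_closure (by simp) : a ∈ closure {x, r.1}))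
    exact x1 (e ▸ commutatorElement_eq_one_iff_mul_comm.2 this)
  have h4 := card_lt_of_lt h1
  have h5 := card_lt_of_lt h2
  obtain ⟨k, hk⟩ := (pg (cube (fun u hu v hv => c3 u (sub hu) v (sub hv))
    fun u hu => p3 u (sub hu))).exists_card_eq
  rw [Nat.card_zpowers, ox, hk] at h4
  have : 2 ≤ k := by
    by_contra e
    have : 3 ^ k ≤ 3 ^ 1 := Nat.pow_le_pow_right (by norm_num) (by omega)
    omega
  have : 3 ^ 2 ≤ 3 ^ k := Nat.pow_le_pow_right (by norm_num) this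
  omega

theorem exists_pj (K : Subgroup G) : ∃ π : G → K ⧸ pCore 2 K, Pj K (O2 K) π := by
  classical
  refine ⟨fun g => if h : g ∈ K then QuotientGroup.mk ⟨g, h⟩ else 1, Local.pCoreOf_le K,
    Local.isPGroup_pCoreOf K, fun a ha b hb => ?_, fun x => ?_, fun a ha => ?_⟩
  · simp only [dif_pos ha, dif_pos hb, dif_pos (mul_mem ha hb)]
    rfl
  · obtain ⟨g, rfl⟩ := QuotientGroup.mk_surjective x
    exact ⟨g, g.2, by simp⟩
  · rw [dif_pos ha, QuotientGroup.eq_one_iff, ← Local.pCoreOf_subgroupOf]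
    rfl

end gen

variable {G : Type u} [Group G] [Finite G] {X : Type u} [Group X] [Finite X] {K Q : Subgroup G}
  {π : G → X}

theorem com (h : Pj K Q π) {a b : G} (ha : a ∈ K) (hb : b ∈ K) : π ⁅a, b⁆ = ⁅π a, π b⁆ := by
  rw [commutatorElement_def, commutatorElement_def,
    h.mul _ (mul_mem (mul_mem ha hb) (inv_mem ha)) _ (inv_mem hb), P8.PjBH.cj h ha hb, inv h hb]

theorem pre (h : Pj K Q π) (A : Subgroup X) : ∃ B : Subgroup G, ∀ g, g ∈ B ↔ g ∈ K ∧ π g ∈ A :=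
  ⟨{ carrier := {g | g ∈ K ∧ π g ∈ A}
     one_mem' := ⟨one_mem _, one h ▸ one_mem _⟩
     mul_mem' := fun ha hb => ⟨mul_mem ha.1 hb.1, h.mul _ ha.1 _ hb.1 ▸ mul_mem ha.2 hb.2⟩
     inv_mem' := fun ha => ⟨inv_mem ha.1, inv h ha.1 ▸ inv_mem ha.2⟩ }, fun _ => Iff.rfl⟩

theorem dec (h : Pj K Q π) {a b : G} (ha : a ∈ K) (hb : b ∈ K) (e : π a = π b) :
    ∃ q ∈ Q, a = q * b :=
  ⟨a * b⁻¹, (h.ker _ (mul_mem ha (inv_mem hb))).1
    (by rw [h.mul _ ha _ (inv_mem hb), inv h hb, e, mul_inv_cancel]), by simp⟩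

/-- `R` is a lift of `A`. -/
structure Lift (K : Subgroup G) (π : G → X) (A : Subgroup X) (R : Subgroup G) : Prop where
  le : R ≤ K
  pg : IsPGroup 3 R
  sur : ∀ a ∈ A, ∃ g ∈ R, π g = a
  inj : ∀ a ∈ R, ∀ b ∈ R, π a = π b → a = b

theorem lift (h : Pj K Q π) {A : Subgroup X} (hA : IsPGroup 3 A) {P : Subgroup G}
    (hP : IsPGroup 3 P) (PK : P ≤ K) (PA : ∀ g ∈ P, π g ∈ A) : ∃ R, P ≤ R ∧ Lift K π A R := by
  have := f2
  have := f3
  obtain ⟨B, hB⟩ := pre h A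
  obtain ⟨f, e, hf, -⟩ := hom h
  have BK : B ≤ K := fun g hg => ((hB g).1 hg).1
  obtain ⟨R, hR, PR⟩ := exists_isSylowIn_ge hP (show P ≤ B from fun g hg => (hB g).2 ⟨PK hg, PA g hg⟩)
  have RK := hR.le.trans BK
  have h1 := (hR.subgroupOf BK).map f
  have h2 : (B.subgroupOf K).map f = A := by
    ext a
    refine ⟨fun ⟨g, hg, e'⟩ => e' ▸ e g ▸ ((hB g).1 hg).2, fun ha => ?_⟩
    obtain ⟨g, rfl⟩ := hf a
    exact ⟨g, (hB g).2 ⟨g.2, e g ▸ ha⟩, rfl⟩
  rw [h2] at h1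
  refine ⟨R, PR, RK, hR.isPGroup, fun a ha => ?_, fun a ha b hb e' => ?_⟩
  · rw [h1.eq_of_le hA h1.le le_rfl] at ha
    obtain ⟨g, hg, rfl⟩ := ha
    exact ⟨g, hg, (e g).symm⟩
  · exact inv_mul_eq_one.1 (disjoint_def.1 (IsPGroup.disjoint_of_ne 3 2 (by norm_num) R Q
      hR.isPGroup h.two) (mul_mem (inv_mem ha) hb) ((eq_iff h (RK ha) (RK hb)).1 e'))

variable {A : Subgroup X} {R : Subgroup G}

theorem Lift.comm (l : Lift K π A R) (h : Pj K Q π) {a b : G} (ha : a ∈ R) (hb : b ∈ R)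
    (e : π a * π b = π b * π a) : a * b = b * a :=
  l.inj _ (mul_mem ha hb) _ (mul_mem hb ha)
    (by rw [h.mul _ (l.le ha) _ (l.le hb), h.mul _ (l.le hb) _ (l.le ha), e])

theorem Lift.ord (l : Lift K π A R) (h : Pj K Q π) {a : G} (ha : a ∈ R) :
    orderOf a = orderOf (π a) :=
  Nat.dvd_antisymm (orderOf_dvd_of_pow_eq_one (l.inj _ (pow_mem ha _) _ (one_mem _)
    (by rw [pow h (l.le ha), pow_orderOf_eq_one, one h]))) (dvd h (l.le ha))

theorem Lift.e9 (l : Lift K π A R) (h : Pj K Q π) {a b : G} (ha : a ∈ R) (hb : b ∈ R)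
    (e : E9 (π a) (π b)) : E9 a b := by
  refine ⟨(l.ord h ha).trans e.1, (l.ord h hb).trans e.2.1, l.comm h ha hb e.2.2.1, fun hz => ?_⟩
  obtain ⟨n, rfl⟩ := mem_powers_iff_mem_zpowers.2 hz
  exact e.2.2.2 (pow h (l.le ha) n ▸ pow_mem (mem_zpowers _) n)

theorem lift_e9 (h : Pj K Q π) {a b : X} (e : E9 a b) : ∃ R a' b', Lift K π (closure {a, b}) R ∧
    a' ∈ R ∧ b' ∈ R ∧ π a' = a ∧ π b' = b ∧ E9 a' b' := by
  obtain ⟨R, -, l⟩ := lift h (A := closure {a, b}) (pg (cube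
    (by rintro u (rfl | rfl) v (rfl | rfl) <;> simp [e.2.2.1])
    (by rintro u (rfl | rfl); exacts [e.1 ▸ pow_orderOf_eq_one _, e.2.1 ▸ pow_orderOf_eq_one _])))
    IsPGroup.of_bot bot_le (fun g hg => by rw [mem_bot.1 hg, one h]; exact one_mem _)
  obtain ⟨a', ha, rfl⟩ := l.sur a (subset_closure (by simp))
  obtain ⟨b', hb, rfl⟩ := l.sur b (subset_closure (by simp))
  exact ⟨R, a', b', l, ha, hb, rfl, rfl, l.e9 h ha hb e⟩

theorem rk (h : Pj K Q π) (hG : PRankLE 3 2 G) : PRankLE 3 2 X := by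
  intro A hc h3
  obtain ⟨R, -, l⟩ := lift h (pg h3) IsPGroup.of_bot bot_le
    (fun g hg => by rw [mem_bot.1 hg, one h]; exact one_mem _)
  obtain ⟨B, hB⟩ := pre h A
  refine le_trans ?_ (hG (R ⊓ B) ⟨⟨fun a b => Subtype.ext (l.comm h a.2.1 b.2.1 (congrArg Subtype.val
    (mul_comm' (⟨_, ((hB a).1 a.2.2).2⟩ : A) ⟨_, ((hB b).1 b.2.2).2⟩)))⟩⟩ fun a ha =>
      l.inj _ (pow_mem ha.1 _) _ (one_mem _)
        (by rw [pow h (l.le ha.1), h3 _ ((hB a).1 ha.2).2, one h]))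
  refine Nat.card_le_card_of_surjective (fun g => ⟨π g, ((hB g).1 g.2.2).2⟩) fun a => ?_
  obtain ⟨g, hg, e⟩ := l.sur a a.2
  exact ⟨⟨g, hg, (hB g).2 ⟨l.le hg, e ▸ a.2⟩⟩, Subtype.ext e⟩

theorem no15 (h : Pj K Q π) (c5 : ∀ y : G, orderOf y = 5 → C1 y = zpowers y) (a b : X)
    (oa : orderOf a = 3) (ob : orderOf b = 5) : a * b ≠ b * a := by
  intro e
  obtain ⟨g, hg, eg⟩ := h.sur (a * b)
  have h1 := dvd h hg
  rw [eg, Commute.orderOf_mul_eq_mul_orderOf_of_coprime e (by rw [oa, ob]; norm_num), oa, ob] at h1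
  have h2 : orderOf (g ^ (orderOf g / 5)) = 5 :=
    orderOf_pow_orderOf_div (orderOf_pos g).ne' ((dvd_mul_left 5 3).trans h1)
  have h3 : g ∈ zpowers (g ^ (orderOf g / 5)) := c5 _ h2 ▸ mem_C1.2 (pow_mul_comm' _ _).symm
  have := h1.trans (h2 ▸ orderOf_dvd_of_mem_zpowers h3)
  norm_num at this

variable {S : Subgroup G} {S' : Subgroup X} {x : G}

theorem tz (h : Pj K (O2 K) π) (h0 : O2 (⊤ : Subgroup X) = ⊥) (SK : S ≤ K) (QS : O2 K ≤ S)
    (hS : ∀ y, y ∈ S' ↔ ∃ a ∈ S, π a = y) (cS : Nat.card S' = (O2 K).relIndex S) (xK : x ∈ K)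
    (ox : orderOf x = 3) {u : X} (t : TZ S' ⊤ (π x) u) : ∃ u, TZ S K x u := by
  have x3 : x ^ 3 = 1 := ox ▸ pow_orderOf_eq_one x
  obtain ⟨R, xR, l⟩ := lift h (A := closure {π x, u}) (pg (cube
    (by rintro a (rfl | rfl) b (rfl | rfl) <;> simp [t.ux])
    (by rintro a (rfl | rfl); exacts [by rw [← pow h xK, x3, one h], t.ou ▸ pow_orderOf_eq_one _])))
    (pz x3) (zpowers_le.2 xK) (fun g hg => by
      obtain ⟨n, rfl⟩ := mem_powers_iff_mem_zpowers.2 hg
      exact pow h xK n ▸ pow_mem (subset_closure (by simp)) n)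
  obtain ⟨v, hv, rfl⟩ := l.sur u (subset_closure (by simp))
  have vK := l.le hv
  refine ⟨v, vK, (l.ord h hv).trans t.ou, l.comm h hv (xR (mem_zpowers x)) t.ux, ?_,
    fun s hs hn => ?_, fun k hk => ?_⟩
  · rw [← cS, ← t.idx, h0, relIndex_bot_left]
  · have := t.inv _ ((hS _).2 ⟨s, hs, rfl⟩) (by rw [h0, mem_bot, h.ker _ (SK hs)]; exact hn)
    have h1 := mul_mem (mul_mem (SK hs) vK) (inv_mem (SK hs))
    rwa [h0, mem_bot, ← P8.PjBH.cj h (SK hs) vK, ← h.mul _ h1 _ vK, h.ker _ (mul_mem h1 vK)] at this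
  · obtain ⟨s', hs', i, j, e⟩ := t.gen (π k) trivial
    obtain ⟨s, hs, rfl⟩ := (hS s').1 hs'
    rw [← pow h xK, ← pow h vK, ← h.mul _ (SK hs) _ (pow_mem xK i),
      ← h.mul _ (mul_mem (SK hs) (pow_mem xK i)) _ (pow_mem vK j)] at e
    obtain ⟨q, hq, e⟩ := dec h hk (mul_mem (mul_mem (SK hs) (pow_mem xK i)) (pow_mem vK j)) e
    exact ⟨q * s, mul_mem (QS hq) hs, i, j, by rw [e]; simp only [mul_assoc]⟩

theorem tq (h : Pj K (O2 K) π) (h0 : O2 (⊤ : Subgroup X) = ⊥) (SK : S ≤ K) (QS : O2 K ≤ S)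
    (hS : ∀ y, y ∈ S' ↔ ∃ a ∈ S, π a = y) (xK : x ∈ K) {a b : X} (t : TQ S' ⊤ (π x) a b) :
    ∃ a b, TQ S K x a b := by
  obtain ⟨R, a, b, l, ha, hb, rfl, rfl, e9⟩ := lift_e9 h t.e9
  have aK := l.le ha
  have bK := l.le hb
  have ER : closure {a, b} ≤ R := by
    rw [closure_le]
    rintro u (rfl | rfl) <;> assumption
  obtain ⟨B, hB⟩ := pre h (closure {π a, π b})
  have EB : closure {a, b} ≤ B := by
    rw [closure_le]
    rintro u (rfl | rfl)
    · exact (hB _).2 ⟨aK, subset_closure (by simp)⟩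
    · exact (hB _).2 ⟨bK, subset_closure (by simp)⟩
  have sur : ∀ y ∈ closure {π a, π b}, ∃ g ∈ closure {a, b}, π g = y := by
    obtain ⟨C, hC, -⟩ := im h (closure {a, b}) (ER.trans l.le)
    have : closure {π a, π b} ≤ C := by
      rw [closure_le]
      rintro u (rfl | rfl)
      · exact (hC _).2 ⟨a, subset_closure (by simp), rfl⟩
      · exact (hC _).2 ⟨b, subset_closure (by simp), rfl⟩
    exact fun y hy => (hC y).1 (this hy)
  have eB : closure {a, b} ⊔ O2 K = B := by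
    refine le_antisymm (sup_le EB fun q hq => (hB q).2
      ⟨h.le hq, by rw [(h.ker q (h.le hq)).2 hq]; exact one_mem _⟩) fun g hg => ?_
    obtain ⟨y, hy, e⟩ := sur _ ((hB g).1 hg).2
    obtain ⟨q, hq, rfl⟩ := dec h ((hB g).1 hg).1 (l.le (ER hy)) e.symm
    exact mul_mem (mem_sup_right hq) (mem_sup_left hy)
  refine ⟨a, b, aK, bK, e9, fun k hk => ?_, ?_, fun hn => t.xn ?_, fun s hs hn y hy hc => ?_,
    fun k hk => ?_⟩
  · rw [eB]
    refine mem_normalizer_fintype fun g hg => ?_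
    obtain ⟨g1, g2⟩ := (hB g).1 hg
    refine (hB _).2 ⟨mul_mem (mul_mem hk g1) (inv_mem hk), ?_⟩
    have := t.nor (mem_top (π k))
    rw [h0, sup_bot_eq] at this
    rw [P8.PjBH.cj h hk g1]
    exact mem_normalizer_conj this g2
  · obtain ⟨f, hf, kf⟩ := t.q8
    let φ : S →* S' := MonoidHom.mk' (fun s => ⟨π s, (hS _).2 ⟨s, s.2, rfl⟩⟩)
      fun s s' => Subtype.ext (h.mul _ (SK s.2) _ (SK s'.2))
    refine ⟨f.comp φ, hf.comp fun y => ?_, Subgroup.ext fun s => ?_⟩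
    · obtain ⟨s, hs, e⟩ := (hS y).1 y.2
      exact ⟨⟨s, hs⟩, Subtype.ext e⟩
    · rw [MonoidHom.mem_ker, MonoidHom.comp_apply, ← MonoidHom.mem_ker, kf, h0, mem_subgroupOf,
        mem_bot, mem_subgroupOf]
      exact h.ker _ (SK s.2)
  · rw [h0, commutator_le]
    intro s' hs' z hz
    obtain ⟨s, hs, rfl⟩ := (hS s').1 hs'
    obtain ⟨n, rfl⟩ := mem_powers_iff_mem_zpowers.2 hz
    have := hn (commutator_mem_commutator hs (npow_mem_zpowers x n))
    rwa [← h.ker _ (h.le this), com h (SK hs) (pow_mem xK n), pow h xK] at this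
  · refine l.inj _ (ER hy) _ (one_mem _) ((t.fr _ ((hS _).2 ⟨s, hs, rfl⟩)
      (by rw [h0, mem_bot, h.ker _ (SK hs)]; exact hn) _ ((hB y).1 (EB hy)).2 ?_).trans (one h).symm)
    rw [h0, mem_bot, ← com h (SK hs) (l.le (ER hy))]
    exact (h.ker _ (h.le hc)).2 hc
  · obtain ⟨s', hs', i, y', hy', e⟩ := t.gen (π k) trivial
    obtain ⟨s, hs, rfl⟩ := (hS s').1 hs'
    obtain ⟨y, hy, rfl⟩ := sur y' hy'
    have yK := l.le (ER hy)
    rw [← pow h xK, ← h.mul _ (SK hs) _ (pow_mem xK i),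
      ← h.mul _ (mul_mem (SK hs) (pow_mem xK i)) _ yK] at e
    obtain ⟨q, hq, e⟩ := dec h hk (mul_mem (mul_mem (SK hs) (pow_mem xK i)) yK) e
    exact ⟨q * s, mul_mem (QS hq) hs, i, y, hy, by rw [e]; simp only [mul_assoc]⟩

end K0

open K0 P8.PjBH in
theorem k0 (hK0b : StK0b.{u}) (hK0e : StK0e.{u}) (hK0d : StK0d.{u}) : StK0.{u} := by
  intro G _ _ hG M T S x hM hS hB xM ox hA
  have := f2
  have := f3
  obtain ⟨U, U2, U1, SU, xU, nU, sU⟩ := hK0b G hG S x hS ox hB.xN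
  obtain ⟨K, ⟨KN, SK, xK, nK⟩, hmin⟩ := exists_minimal_of_wellFoundedLT
    (fun H : Subgroup G => H ≤ Ns U ∧ S ≤ H ∧ x ∈ H ∧ ¬ H ≤ Ns S) ⟨_, le_rfl, SU, xU, nU⟩
  have chN := (P8.Bas2H.chl hG.c2 ⟨U, U2, U1, rfl⟩).1
  have chK : Ch K := Local.CharP.of_pCoreOf_le (p := 2) chN
    ((Local.pCoreOf_le_sylowIn (hS.mono SU le_top)).trans SK) KN
  have sK : Group.IsSolvable K := Group.isSolvable_of_isSolvable_injective (inclusion_injective KN)
  have SS := hS.mono SK le_top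
  have QS : O2 K ≤ S := Local.pCoreOf_le_sylowIn SS
  refine ⟨K, ⟨SK, xK, chK, QS, fun C C2 MC KC => ?_⟩, ?_⟩
  · by_contra C1
    replace KC : K ≤ M := KC.trans (hM.mx.2 _ ⟨C, C2, C1, rfl⟩ MC).le
    rcases hB.ovr K SK KC with e | e
    · exact nK (e.trans (sup_le le_normalizer (zpowers_le.2 hB.xN)))
    · exact hB.nsol (e ▸ sK)
  obtain ⟨π, h⟩ := exists_pj K
  have h0 := Solv.pCore_quotient_pCore 2 K
  have h0' : O2 (⊤ : Subgroup (K ⧸ pCore 2 K)) = ⊥ := Local.pCoreOf_top.trans h0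
  obtain ⟨S', hS', cS⟩ := im h S SK
  have x3 : x ^ 3 = 1 := ox ▸ pow_orderOf_eq_one x
  have ox' : orderOf (π x) = 3 := orderOf_eq_prime (by rw [← pow h xK, x3, one h]) fun e => by
    have := disjoint_def.1 (IsPGroup.disjoint_of_ne 3 2 (by norm_num) _ _ (pz x3) h.two)
      (mem_zpowers x) ((h.ker x xK).1 e)
    rw [this, orderOf_one] at ox
    omega
  have ns : ∀ k ∈ K, k ∈ Ns S → π k ∈ Ns S' := fun k hk hn => mem_normalizer_fintype fun y hy => by
    obtain ⟨s, hs, rfl⟩ := (hS' y).1 hy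
    exact (hS' _).2 ⟨_, mem_normalizer_conj hn hs, P8.PjBH.cj h hk (SK hs)⟩
  have syl : IsSylowIn 2 S' ⊤ := by
    obtain ⟨f, e, hf, -⟩ := hom h
    have := SS.subgroupOf_top.map f
    rw [map_top_of_surjective f hf] at this
    convert this using 1
    ext y
    rw [hS']
    exact ⟨fun ⟨a, l, m⟩ => ⟨⟨a, SK l⟩, l, (e _).trans m⟩, fun ⟨a, l, m⟩ => ⟨a, l, (e a).symm.trans m⟩⟩
  have neS : S' ≠ ⊥ := fun e => nK (by
    have : S = O2 K := le_antisymm (fun s hs => (h.ker s (SK hs)).1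
      (mem_bot.1 (e ▸ (hS' _).2 ⟨s, hs, rfl⟩))) QS
    rw [this]
    exact nor h)
  have neQ : O2 K ≠ ⊥ := Local.CharP.pCoreOf_ne_bot (p := 2) chK fun e => nK (e ▸ bot_le)
  have rG : ∀ a b : K ⧸ pCore 2 K, E9 a b → PRankLE 3 2 G := fun a b e => by
    obtain ⟨R, a', b', l, ha, hb, -, -, e'⟩ := lift_e9 h e
    obtain ⟨R₀, hR⟩ := exists_isSylowIn (p := 3) (⊤ : Subgroup G)
    exact hG.n3 R₀ hR (fun Y => hA.no2 R₀ Y hR) _ a' b' h.two neQ (nor h (l.le ha)) (nor h (l.le hb)) e'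
  have dv : Nat.card (K ⧸ pCore 2 K) ∣ Nat.card G :=
    (card_quotient_dvd_card _).trans (card_subgroup_dvd_card K)
  obtain ⟨b, a, -, ord⟩ := hG.ord
  have pr : ∀ p : ℕ, p.Prime → p ∣ Nat.card (K ⧸ pCore 2 K) → p = 2 ∨ p = 3 ∨ p = 5 := fun p pp d => by
    have := d.trans dv
    rw [ord, pp.dvd_mul, pp.dvd_mul] at this
    rcases this with (e | e) | e
    · exact .inl ((Nat.prime_dvd_prime_iff_eq pp Nat.prime_two).1 (pp.dvd_of_dvd_pow e))
    · exact .inr (.inl ((Nat.prime_dvd_prime_iff_eq pp Nat.prime_three).1 (pp.dvd_of_dvd_pow e)))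
    · exact .inr (.inr ((Nat.prime_dvd_prime_iff_eq pp Nat.prime_five).1 e))
  have n5 := no5 pr (fun d => by
    have := d.trans dv
    rw [ord, show 25 = 5 * 5 from rfl, Nat.mul_dvd_mul_iff_right (by norm_num),
      Nat.prime_five.dvd_mul] at this
    rcases this with e | e <;> have := Nat.prime_five.dvd_of_dvd_pow e <;> omega) h0
    (no15 h hG.c5) ox' fun a b e => rk h (rG a b e)
  have pr' : ∀ p : ℕ, p.Prime → p ∣ Nat.card (K ⧸ pCore 2 K) → p = 2 ∨ p = 3 := fun p pp d => by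
    rcases pr p pp d with e | e | rfl
    · exact .inl e
    · exact .inr e
    · exact absurd d n5
  obtain ⟨a, b, e9⟩ := hK0e _ inferInstance pr' h0 S' (π x) syl neS ox' (ns x xK hB.xN)
  have := hK0d _ inferInstance pr' h0 (rk h (rG a b e9)) S' (π x) syl neS ox' (ns x xK hB.xN)
    (fun H SH xH => ?_) fun a b a3 b3 ax bx e => ?_
  · rcases this with ⟨u, t⟩ | ⟨a, b, t⟩
    · exact .inl (tz h h0' SK QS hS' cS xK ox t)
    · exact .inr (tq h h0' SK QS hS' xK t)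
  · obtain ⟨B, hB'⟩ := pre h H
    have BK : B ≤ K := fun g hg => ((hB' g).1 hg).1
    by_cases e : B ≤ Ns S
    · refine .inl fun y hy => ?_
      obtain ⟨k, hk, rfl⟩ := h.sur y
      exact ns k hk (e ((hB' k).2 ⟨hk, hy⟩))
    · refine .inr (eq_top_iff.2 fun y _ => ?_)
      obtain ⟨k, hk, rfl⟩ := h.sur y
      exact ((hB' k).1 (hmin ⟨BK.trans KN, fun s hs => (hB' s).2 ⟨SK hs, SH ((hS' _).2 ⟨s, hs, rfl⟩)⟩,
        (hB' x).2 ⟨xK, xH⟩, e⟩ BK hk)).2
  · have p1 : IsPGroup 3 (closure {π x, a}) := pg (cube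
      (by rintro u (rfl | rfl) v (rfl | rfl) <;> simp [ax])
      (by rintro u (rfl | rfl); exacts [ox' ▸ pow_orderOf_eq_one _, a3]))
    have p2 : IsPGroup 3 (closure {π x, a} ⊔ zpowers b : Subgroup _) :=
      Local.isPGroup_sup' p1 (pz b3) (zpowers_le.2 (mem_normalizer_fintype fun y hy => by
        have : closure {π x, a} ≤ (closure {π x, a}).comap (MulAut.conj b).toMonoidHom := by
          rw [closure_le]
          rintro u (rfl | rfl)
          · change b * π x * b⁻¹ ∈ Subgroup.closure _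
            rw [bx, mul_inv_cancel_right]
            exact subset_closure (by simp)
          · change b * u * b⁻¹ ∈ Subgroup.closure _
            rw [show b * u * b⁻¹ = ⁅u, b⁆⁻¹ * u by simp [commutatorElement_def, mul_assoc], e]
            exact mul_mem (inv_mem (subset_closure (by simp))) (subset_closure (by simp))
        exact this hy))
    obtain ⟨R, xR, l⟩ := lift h p2 (pz x3) (zpowers_le.2 xK) (fun g hg => by
      obtain ⟨n, rfl⟩ := mem_powers_iff_mem_zpowers.2 hg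
      exact pow h xK n ▸ pow_mem (mem_sup_left (subset_closure (by simp))) n)
    have xR' := xR (mem_zpowers x)
    obtain ⟨a', ha, rfl⟩ := l.sur a (mem_sup_left (subset_closure (by simp)))
    obtain ⟨b', hb, rfl⟩ := l.sur b (mem_sup_right (mem_zpowers b))
    refine no27 (rG _ _ e9) hA xM ox l.pg xR' ha hb
      (l.inj _ (pow_mem ha 3) _ (one_mem _) (by rw [pow h (l.le ha), a3, one h]))
      (l.comm h ha xR' ax) (l.comm h hb xR' bx) (l.inj _ ?_ _ xR' (by rw [com h (l.le ha) (l.le hb), e]))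
    exact mul_mem (mul_mem (mul_mem ha hb) (inv_mem ha)) (inv_mem hb)

end Cfsg.Lib.K35
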