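import Cfsg.Agent.K35.Typ
import Cfsg.Agent.P8.Bas2
import Cfsg.Agent.P8.BasJ
import Cfsg.Agent.S3022

/-!
# Simple groups of order `2 ^ b * 3 ^ a * 5`: a solvable 2-local subgroup over `S⟨x⟩`
-/

set_option autoImplicit false

namespace Cfsg.Lib.K35

open Cfsg Subgroup Cfsg.Lib.Trans Cfsg.Lib.Gold
open Cfsg.Lib.P8 (A5 A6 S5 O2 Om Jt Phi EA SR4 Ch E9 Pj Ty Sec SecOK Mx)
open scoped commutatorElement

universe u

namespace K0b

variable {G : Type u} [Group G] [Finite G]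

theorem kg (h : Group.IsSolvable G) : IsKGroup G := fun _ _ _ _ k =>
  (k ⟨⟨IsSimpleGroup.comm_iff_isSolvable.2 inferInstance⟩⟩).elim

theorem irr (S : Sylow 2 G) {Y : Subgroup G} (h1 : Y ≠ ⊤) (h2 : (S : Subgroup G) ≤ Y)
    (h : ∀ H : Subgroup G, (S : Subgroup G) ≤ H → H ≤ Y ∨ H = ⊤) (R : Sylow 2 G) :
    ∃! M : Subgroup G, IsCoatom M ∧ (R : Subgroup G) ≤ M := by
  have := Fact.mk Nat.prime_two
  have c : IsCoatom Y := ⟨h1, fun H k => (h H (h2.trans k.le)).resolve_left k.not_ge⟩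
  obtain ⟨g, rfl⟩ := MulAction.exists_smul_eq G S R
  let e : Subgroup G ≃o Subgroup G := (MulAut.conj g).mapSubgroup
  have k : ((g • S : Sylow 2 G) : Subgroup G) = e S := rfl
  refine ⟨e Y, ⟨(e.isCoatom_iff Y).2 c, k ▸ e.monotone h2⟩, fun M hM => ?_⟩
  obtain ⟨M, rfl⟩ := e.surjective M
  have k1 := (e.isCoatom_iff M).1 hM.1
  have k2 := (h M (e.le_iff_le.1 (k ▸ hM.2))).resolve_right k1.1
  exact congrArg e ((k1.le_iff.1 k2).resolve_left h1).symm

end K0b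

theorem k0b (hA0 : StA0.{u}) (hSB : StSB.{u}) : StK0b.{u} := fun G _ _ gl S x hS ox xN => by
  have := Fact.mk Nat.prime_two
  have := Fact.mk Nat.prime_five
  have := P8.pf_BasJ.{u}
  have := P8.pf_Bas2.{u}
  obtain ⟨b, a, -, cG⟩ := gl.ord
  have ne : S ≠ ⊥ := fun e => hS.eq_bot_iff.1 e (card_top (G := G) ▸ gl.c2.1.two_dvd)
  obtain ⟨-, -, -, -, ea, cs, -⟩ := P8.BasJ.leT S
  obtain ⟨z, hz, z1⟩ := (Om S).bot_or_exists_ne_one.resolve_left (P8.BasJ.ne hS.isPGroup ne).2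
  have oz : orderOf z = 2 := orderOf_eq_prime (ea.2 z hz) z1
  have sc : S ≤ C1 z := fun s hs => mem_C1.2 (mem_Cs.1 (cs hs) z hz).symm
  have sol : Group.IsSolvable (C1 z) := by
    by_contra k
    obtain ⟨y, hy⟩ := exists_prime_orderOf_dvd_card' 5
      (Typ.five (cG ▸ card_subgroup_dvd_card (C1 z)) k)
    have o : orderOf (y : G) = 5 := (orderOf_coe y).trans hy
    have := orderOf_dvd_of_mem_zpowers (gl.c5 y o ▸ mem_C1.2 (mem_C1.1 y.2).symm : z ∈ zpowers (y : G))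
    rw [o, oz] at this
    exact absurd this (by decide)
  obtain ⟨P, ⟨p1, p2, p3⟩, pm⟩ := exists_minimal_of_wellFoundedLT
    (fun P : Subgroup G => S ≤ P ∧ P ≤ C1 z ∧ ¬ P ≤ Ns S) ⟨_, sc, le_rfl, gl.n1 z S oz hS sc⟩
  have sP : Group.IsSolvable P :=
    solvable_of_solvable_injective (f := inclusion p2) (inclusion_injective p2)
  have hP := hS.mono p1 le_top
  let e := subgroupOfEquivOfLe p1
  let φ : MulAut (S.subgroupOf P) := MulAut.congr e.symm (S.normalizerMonoidHom ⟨x, xN⟩)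
  have φ3 : φ ^ 3 = 1 := by
    rw [← map_pow, ← map_pow, show (⟨x, xN⟩ : Ns S) ^ 3 = 1 from
      Subtype.ext (by rw [← ox]; exact pow_orderOf_eq_one x), map_one, map_one]
  have φo : Odd (Nat.card (zpowers φ)) := by
    rw [Nat.card_zpowers]
    exact Odd.of_dvd_nat (by decide) (orderOf_dvd_of_pow_eq_one φ3)
  obtain ⟨U, u1, u2, u3, u4⟩ := Cfsg.Agent.S3022.result (K0b.kg sP)
    (K0b.irr hP.toSylow (Y := (Ns S).subgroupOf P) (fun k => p3 (subgroupOf_eq_top.1 k))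
      (subgroupOf_mono P le_normalizer) fun H k => by
        by_cases k' : H.map P.subtype ≤ Ns S
        · exact .inl (map_le_iff_le_comap.1 k')
        · have k2 := pm (y := H.map P.subtype) ⟨fun s hs => ⟨⟨s, p1 hs⟩, k hs, rfl⟩, (map_subtype_le H).trans p2, k'⟩
            (map_subtype_le H)
          exact .inr (eq_top_iff.2 fun g _ => by
            obtain ⟨g', k3, k4⟩ := k2 g.2
            exact (Subtype.ext k4 : g' = g) ▸ k3))
    (Local.charP_iff.1 (P8.Bas2.ch gl.c2 (P8.Bas2H.loc oz) hS p1 p2)) hP.toSylow (zpowers φ)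
    φo
  have v1 : U.map P.subtype ≤ S := map_le_iff_le_comap.2 u3
  have v2 : IsPGroup 2 (U.map P.subtype) := hS.isPGroup.to_le v1
  have v3 : U.map P.subtype ≠ ⊥ := fun k => u1 ((map_eq_bot_iff_of_injective _ P.subtype_injective).1 k)
  have v4 : P ≤ Ns (U.map P.subtype) := fun g hg => mem_normalizer_fintype (by
    rintro _ ⟨w, hw, rfl⟩
    exact ⟨_, u2.conj_mem w hw ⟨g, hg⟩, rfl⟩)
  refine ⟨_, v2, v3, p1.trans v4, mem_normalizer_fintype ?_, fun k => p3 (v4.trans k), ?_⟩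
  · rintro _ ⟨w, hw, rfl⟩
    exact ⟨_, u4 φ (mem_zpowers φ) ⟨w, u3 hw⟩ hw, rfl⟩
  by_contra ns
  obtain ⟨M, ⟨m1, m2⟩, mm⟩ := exists_maximal_of_wellFoundedGT
    (fun M : Subgroup G => IsTwoLocal M ∧ Ns (U.map P.subtype) ≤ M) ⟨_, ⟨_, v2, v3, rfl⟩, le_rfl⟩
  obtain ⟨ch, ne'⟩ := P8.Bas2H.chl gl.c2 m1
  have nM : ¬ Group.IsSolvable M := fun _ =>
    ns (solvable_of_solvable_injective (f := inclusion m2) (inclusion_injective m2))
  obtain ⟨-, π, x', sa⟩ := hA0 G gl M S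
    ⟨⟨m1, fun N k1 k2 => le_antisymm (mm ⟨k1, m2.trans k2⟩ k2) k2⟩, rfl, ch, ne'⟩ nM
    ((p1.trans v4).trans m2) hS
  have sb := hSB G M _ S π x' sa
  rcases sb.ovr P p1 (v4.trans m2) with k | k
  · exact p3 (k.trans (sup_le le_normalizer (zpowers_le.2 sb.xN)))
  · exact nM (k ▸ sP)

end Cfsg.Lib.K35
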