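import Cfsg.Agent.K35.K0da
import Cfsg.Agent.Local.TameGL2
import Cfsg.Agent.Local.PCoreOf
import Cfsg.Agent.Ngrp.GL23
import Cfsg.Agent.Solv.Quaternion

/-!
# Simple groups of order `2 ^ b * 3 ^ a * 5`: the minimal parabolic
-/

set_option autoImplicit false

namespace Cfsg.Lib.K35

open Cfsg Subgroup Cfsg.Lib.Trans Cfsg.Lib.Gold
open Cfsg.Lib.P8 (A5 A6 S5 O2 Om Jt Phi EA SR4 Ch E9 Pj Ty Sec SecOK Mx)
open scoped commutatorElement

universe u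

namespace K0d

open Ngrp Ngrp.G48

theorem c0 : ∀ g : G48, (g ^ 8) ^ 3 = 1 ∧ g * neg1 * g⁻¹ = neg1 := by decide +kernel

set_option synthInstance.maxSize 2000 in
theorem c1 : ∀ y : G48, y ^ 3 = 1 → y ≠ 1 → ∀ g : G48, g ^ 8 = 1 → (g * (y * g * y⁻¹)) ^ 8 = 1 →
    g = 1 ∨ g = neg1 ∨ g * g = neg1 := by decide +kernel

theorem c3 : ∀ y : G48, y ^ 3 = 1 → ∀ g : G48, g * g = neg1 → y * g * y⁻¹ ≠ g →
    g * (y * g * y⁻¹) * g = y * g * y⁻¹ ∧ ∀ k : G48, k = 1 ∨ k = neg1 ∨ k * k = neg1 →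
      ∃ (i : Fin 4) (j : Fin 2), k = g ^ i.1 * (y * g * y⁻¹) ^ j.1 := by decide +kernel

theorem p8 {g : G48} {k : ℕ} (h : g ^ 2 ^ k = 1) : g ^ 8 = 1 :=
  orderOf_eq_one_iff.1 (Nat.eq_one_of_dvd_coprimes (Nat.Coprime.pow_right k (by decide : Nat.Coprime 3 2))
    (orderOf_dvd_of_pow_eq_one (c0 g).1)
    (orderOf_dvd_of_pow_eq_one (by rw [← pow_mul, mul_comm, pow_mul, h, one_pow])))

variable {X : Type u} [Group X] [Finite X] {S E : Subgroup X} {x s : X} [hE : E.Normal]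

theorem rep (h : ∀ a ∈ E, ∀ b ∈ E, a * b = b * a) (e3 : ∀ a ∈ E, a ^ 3 = 1)
    (c : Nat.card E = 3 ^ 2) : ∃ φ : X →* G48, ∀ g, φ g = 1 ↔ g ∈ Cs E := by
  have := Fact.mk Nat.prime_three
  have : Solv.ElemAb 3 E := ⟨fun a b => Subtype.ext (h _ a.2 _ b.2), fun a => Subtype.ext (e3 _ a.2)⟩
  obtain ⟨e, -⟩ := TameGL2.exists_coord
    (Module.finBasisOfFinrankEq (ZMod 3) _ (Solv.Vec.finrank_eq_of_card c))
  refine ⟨(e.trans equivGL.symm).toMonoidHom.comp MulAut.conjNormal, fun g => ?_⟩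
  rw [MonoidHom.comp_apply, MulEquiv.coe_toMonoidHom, EmbeddingLike.map_eq_one_iff, mem_Cs]
  exact ⟨fun k a ha => (mul_inv_eq_iff_eq_mul.1 (congrArg (fun σ : MulAut E => (σ ⟨a, ha⟩ : X)) k)).symm,
    fun k => MulEquiv.ext fun a => Subtype.ext (mul_inv_eq_iff_eq_mul.2 (k _ a.2).symm)⟩

theorem St.fix (h : St S E x s) (hx : x ^ 3 = 1) : ∃ a ∈ E, a ∉ ⁅E, E⁆ ∧ ⁅a, x⁆ ∈ ⁅E, E⁆ := by
  have := Fact.mk Nat.prime_three
  obtain ⟨a, ha, n, -, -, k⟩ := Solv.PG.exists_step_elt (p := 3) (Solv.PG.isPGroup_zpowers (k := 1) hx)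
    (Solv.PG.isPGroup_of_forall_mem fun a ha => ⟨1, h.e3 a ha⟩) le_normalizer_of_normal
    le_normalizer_of_normal h.lt
  exact ⟨a, ha, n, k x (mem_sup_left (mem_zpowers x))⟩

theorem St.comm (h : St S E x s) (hr : PRankLE 3 2 X) (hx : x ^ 3 = 1) (x1 : x ≠ 1)
    (hl : ∀ a b : X, a ^ 3 = 1 → b ^ 3 = 1 → a * x = x * a → b * x = x * b → ⁅a, b⁆ ≠ x) :
    ∀ a ∈ E, ∀ b ∈ E, a * b = b * a := fun a ha b hb => by_contra fun n => by
  have m := commutator_mem_commutator ha hb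
  have z1 : ⁅a, b⁆ ≠ 1 := fun e => n (commutatorElement_eq_one_iff_mul_comm.1 e)
  have k1 : ⁅E, E⁆ ≤ zpowers ⁅a, b⁆ := fun y hy => by_contra fun n' =>
    e27 hr (h.e3 _ (h.lt.le m)) (h.e3 _ (h.lt.le hy)) (h.e3 _ ha) (mem_Cs.1 (h.c2 hy) _ (h.lt.le m))
      (mem_Cs.1 (h.c2 m) _ ha).symm (mem_Cs.1 (h.c2 hy) _ ha).symm z1 (mem_zpowers _) n' (h.c2 m)
      (h.c2 hy) fun k => n (mem_Cs.1 k _ hb).symm
  by_cases xE : x ∈ E
  · have m' := h.cs ⟨xE, mem_C1.2 h.xs⟩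
    have k := mem_Cs.1 (h.c2 m')
    rcases ord3 (h.e3 _ (h.lt.le m)) (k1 m') with e | e | e
    · exact x1 e
    · exact hl a b (h.e3 _ ha) (h.e3 _ hb) (k _ ha) (k _ hb) e.symm
    · exact hl b a (h.e3 _ hb) (h.e3 _ ha) (k _ hb) (k _ ha) (by rw [e, commutatorElement_inv])
  obtain ⟨c, hc, n', k⟩ := h.fix hx
  have hd : ⁅c, s⁆ ∈ E := by
    simpa [commutatorElement_def, mul_assoc] using mul_mem hc (hE.conj_mem _ (inv_mem hc) s)
  refine e27 hr (h.e3 _ (h.lt.le m)) (h.e3 _ hd) hx (mem_Cs.1 (h.c2 m) _ hd).symm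
    (cx hx (h.e3 _ (h.lt.le m)) (k1 (Normal.conj_mem inferInstance _ m x))).symm ?_ z1 (Y := C1 s)
    (Cs_le_C1 h.sS (h.cS m)) (fun e => n' (h.cs ⟨hc, mem_C1.2
      (commutatorElement_eq_one_iff_mul_comm.1 (sq3 (h.e3 _ hd) ?_))⟩)) (h.lt.le m) hd xE
  · have e1 := mem_Cs.1 (h.cS k) _ h.sS
    have e2 := mem_Cs.1 (h.c2 k) _ hd
    refine (mul_inv_eq_iff_eq_mul.1 ?_).symm
    calc x * ⁅c, s⁆ * x⁻¹ = ⁅c, x⁆⁻¹ * (c * (x * s * x⁻¹) * c⁻¹ * ⁅c, x⁆) * (x * s * x⁻¹)⁻¹ := by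
          simp only [commutatorElement_def]; group
      _ = ⁅c, x⁆⁻¹ * (⁅c, s⁆ * (s * ⁅c, x⁆)) * s⁻¹ := by
          rw [h.xs, mul_inv_cancel_right, commutatorElement_def c s]; group
      _ = _ := by rw [e1, ← mul_assoc ⁅c, s⁆, e2]; group
  · nth_rw 2 [← mul_inv_eq_iff_eq_mul.2 (mem_C1.1 e).symm]
    simp only [commutatorElement_def, mul_inv_rev, inv_inv, inv_eq_of_sq h.s2, mul_assoc, h.s2,
      mul_one]

theorem St.tz (h : St S E x s) (hO : O2 (⊤ : Subgroup X) = ⊥) {u : X} (hu : u ∈ E)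
    (u1 : u ≠ 1) (ux : u * x = x * u) (le : E ≤ zpowers u) : TZ S ⊤ x u := by
  have := Fact.mk Nat.prime_two
  have := Fact.mk Nat.prime_three
  have k1 : ∀ t ∈ S, t * u * t⁻¹ = u → t = 1 := fun t ht e =>
    h.fa t ht (Cs_anti le (Cs_zpowers u ▸ mem_C1.2 (mul_inv_eq_iff_eq_mul.1 e)))
  have k2 : ∀ t ∈ S, t ≠ 1 → t * u * t⁻¹ = u⁻¹ := fun t ht n =>
    ((ord3 (h.e3 u hu) (le (hE.conj_mem u hu t))).resolve_left
      fun e => u1 (conj_eq_one_iff.1 e)).resolve_left fun e => n (k1 t ht e)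
  have k3 : S = zpowers s := le_antisymm (fun t ht => by
    by_cases e : t = 1
    · exact e ▸ one_mem _
    rw [eq_inv_of_mul_eq_one_right (k1 _ (mul_mem h.sS ht) (by
      rw [show s * t * u * (s * t)⁻¹ = s * (t * u * t⁻¹) * s⁻¹ by group, k2 t ht e, ← conj_inv,
        k2 s h.sS h.s1, inv_inv]))]
    exact inv_mem (mem_zpowers s)) (zpowers_le.2 h.sS)
  refine ⟨trivial, orderOf_eq_prime (h.e3 u hu) u1, ux, ?_, fun t ht n => ?_, fun k _ => ?_⟩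
  · rw [hO, relIndex_bot_left, k3, Nat.card_zpowers, orderOf_eq_prime (pow_two s ▸ h.s2) h.s1]
  · rw [k2 t ht fun e => n (e ▸ one_mem _), inv_mul_cancel]; exact one_mem _
  · obtain ⟨t, ht, i, e, he, rfl⟩ := h.gen k
    obtain ⟨j, rfl⟩ := mem_powers_iff_mem_zpowers.2 (le he)
    exact ⟨t, ht, i, j, rfl⟩

theorem St.tq (h : St S E x s) (hr : PRankLE 3 2 X) (hO : O2 (⊤ : Subgroup X) = ⊥)
    (hS : IsPGroup 2 S) (hx : x ^ 3 = 1) (x1 : x ≠ 1) (hn : x ∈ Ns S) (ab : ⁅E, E⁆ = ⊥) {a b : X}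
    (ha : a ∈ E) (a1 : a ≠ 1) (ax : a * x = x * a) (hb : b ∈ E) (n : b ∉ zpowers a) :
    TQ S ⊤ x a b := by
  have := Fact.mk Nat.prime_two
  have := Fact.mk Nat.prime_three
  have cm : ∀ a ∈ E, ∀ b ∈ E, a * b = b * a := fun a ha b hb =>
    mem_Cs.1 (commutator_eq_bot_iff_le_centralizer.1 ab hb) a ha
  have cs : ∀ e ∈ E, e * s = s * e → e = 1 := fun e he k => ab.le (h.cs ⟨he, mem_C1.2 k⟩)
  have m1 : a ∈ closure {a, b} := subset_closure (by simp)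
  have m2 : b ∈ closure {a, b} := subset_closure (by simp)
  have l1 : zpowers a < closure {a, b} := (zpowers_le.2 m1).lt_of_ne fun e => n (e.ge m2)
  have eE : closure {a, b} = E := ((closure_le E).2 (by simp [Set.insert_subset_iff, ha, hb])).eq_of_not_lt
    (ch hr cm h.e3 (bot_lt_iff_ne_bot.2 (zpowers_ne_bot.2 a1)) l1)
  have oa := orderOf_eq_prime (h.e3 a ha) a1
  obtain ⟨φ, hφ⟩ := rep cm h.e3 (le_antisymm (hr E (Solv.PG.isMulCommutative_of_forall cm) h.e3) (by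
    have := Solv.PG.prime_mul_card_le_of_lt (p := 3)
      (Solv.PG.isPGroup_of_forall_mem fun a ha => ⟨1, h.e3 a ha⟩) (eE ▸ l1)
    rwa [Nat.card_zpowers, oa] at this))
  have inj : ∀ {t t'}, t ∈ S → t' ∈ S → φ t = φ t' → t = t' := fun ht ht' e =>
    inv_mul_eq_one.1 (h.fa _ (mul_mem (inv_mem ht) ht') ((hφ _).1 (by
      rw [map_mul, map_inv, e, inv_mul_cancel])))
  have y3 : φ x ^ 3 = 1 := by rw [← map_pow, hx, map_one]
  have y1 : φ x ≠ 1 := fun e => e27 hr (h.e3 a ha) (h.e3 b hb) hx (cm a ha b hb) ax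
    (mem_Cs.1 ((hφ x).1 e) b hb) a1 (mem_zpowers a) n ha hb fun k => x1 (cs x k h.xs)
  have k8 : ∀ t ∈ S, φ t ^ 8 = 1 := fun t ht => by
    obtain ⟨k, hk⟩ := Solv.PG.exists_pow_prime_pow_eq_one hS ht
    exact p8 (by rw [← map_pow, hk, map_one])
  have kq : ∀ t ∈ S, φ t = 1 ∨ φ t = neg1 ∨ φ t * φ t = neg1 := fun t ht => c1 _ y3 y1 _ (k8 t ht)
    (by simpa only [map_mul, map_inv] using k8 _ (mul_mem ht (mem_normalizer_conj hn ht)))
  have ks : φ s = neg1 := by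
    rcases kq s h.sS with e | e | e
    · exact (h.s1 (inj h.sS (one_mem _) (e.trans φ.map_one.symm))).elim
    · exact e
    · rw [← map_mul, h.s2, map_one] at e; exact absurd e (by decide)
  have kS : ∀ t ∈ S, t = 1 ∨ t = s ∨ t * t = s := fun t ht => (kq t ht).imp
    (fun e => inj ht (one_mem _) (e.trans φ.map_one.symm)) (.imp (fun e => inj ht h.sS (e.trans ks.symm))
      fun e => inj (mul_mem ht ht) h.sS ((map_mul φ t t).trans (e.trans ks.symm)))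
  have xn : ¬ S ≤ C1 x := fun k => a1 (ab.le (h.mn (E ⊓ C1 x) (inf_le_left.lt_of_ne fun e =>
    y1 ((hφ x).2 (mem_Cs.2 fun u hu => mem_C1.1 (e.ge hu).2)))
    (le_Ns_inf le_normalizer_of_normal (le_Ns_C1 k))
    (mem_Ns_inf (le_normalizer_of_normal (mem_top x)) (mem_Ns_C1 rfl)) ⟨ha, mem_C1.2 ax⟩))
  refine ⟨trivial, trivial, ⟨oa, orderOf_eq_prime (h.e3 b hb) fun e => n (e ▸ one_mem _),
    cm a ha b hb, n⟩, ?_, ?_, ?_, fun t ht t1 e he k => ?_, fun k _ => eE ▸ h.gen k⟩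
  · rw [hO, sup_bot_eq, eE]; exact le_normalizer_of_normal
  · obtain ⟨t, ht, nt⟩ := SetLike.not_le_iff_exists.1 xn
    have ht' := mem_normalizer_conj hn ht
    have nt' : x * t * x⁻¹ ≠ t := fun e => nt (mem_C1.2 (mul_inv_eq_iff_eq_mul.1 e).symm)
    have q1 : t * t = s := ((kS t ht).resolve_left fun e => nt' (by simp [e])).resolve_left
      fun e => nt' (by rw [e, h.xs, mul_inv_cancel_right])
    obtain ⟨r1, r2⟩ := c3 _ y3 (φ t) (by rw [← map_mul, q1, ks])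
      fun e => nt' (inj ht' ht (by simpa only [map_mul, map_inv] using e))
    have q2 : x * t * x⁻¹ * (x * t * x⁻¹) = s := by rw [conj_mul, q1, h.xs, mul_inv_cancel_right]
    have q3 : t * (x * t * x⁻¹) * t = x * t * x⁻¹ :=
      inj (mul_mem (mul_mem ht ht') ht) ht' (by simpa only [map_mul, map_inv] using r1)
    have eS : zpowers t ⊔ zpowers (x * t * x⁻¹) = S :=
      (sup_le (zpowers_le.2 ht) (zpowers_le.2 ht')).antisymm fun k hk => by
        obtain ⟨i, j, e⟩ := r2 _ (kq k hk)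
        rw [inj hk (mul_mem (pow_mem ht i.1) (pow_mem ht' j.1))
          (by simpa only [map_mul, map_inv, map_pow] using e)]
        exact mul_mem_sup (pow_mem (mem_zpowers _) _) (pow_mem (mem_zpowers _) _)
    generalize x * t * x⁻¹ = j at q2 q3 eS
    obtain ⟨f⟩ : Nonempty (S ≃* QuaternionGroup 2) := by
      refine eS ▸ Solv.PG.nonempty_sup_mulEquiv_quaternionGroup
        (orderOf_eq_prime_pow (p := 2) (n := 1) (by rw [pow_one, pow_two, q1]; exact h.s1)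
          (by rw [show 2 ^ (1 + 1) = 2 * 2 from rfl, pow_mul, pow_two t, q1, pow_two, h.s2]))
        (by rw [q2, pow_two, q1]) (by
          calc _ = t⁻¹ * (t * j * t) * j⁻¹ := by group
            _ = _ := by rw [q3]; group) ?_
      rintro ⟨n, rfl⟩
      simp only at q3
      rw [mul_assoc, ((Commute.refl t).zpow_left n).eq, ← mul_assoc, q1, mul_eq_right] at q3
      exact h.s1 q3
    exact ⟨f, f.surjective, by
      rw [hO, bot_subgroupOf]; exact (MonoidHom.ker_eq_bot_iff _).2 f.injective⟩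
  · rw [hO, le_bot_iff, commutator_eq_bot_iff_le_centralizer]; exact fun k => xn (k.trans (Cs_zpowers x).le)
  · rw [hO, mem_bot] at t1 k
    have c : Commute t e := commutatorElement_eq_one_iff_mul_comm.1 k
    refine cs e (eE ▸ he) ?_
    rcases (kS t ht).resolve_left t1 with rfl | rfl
    exacts [c.symm, (c.mul_left c).symm]

end K0d

theorem k0d : StK0d.{u} := fun X _ _ hs hp h2 hr S x hS h0 o hn hm hl => by
  have hx : x ^ 3 = 1 := o ▸ pow_orderOf_eq_one x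
  have x1 : x ≠ 1 := fun e => by simp [e] at o
  have hO : O2 (⊤ : Subgroup X) = ⊥ := Local.pCoreOf_top.trans h2
  obtain ⟨E, s, hE, h⟩ := K0d.ex hs hp h2 hr hS.2.1 h0 hx hn hm
  have ab : ⁅E, E⁆ = ⊥ := commutator_eq_bot_iff_le_centralizer.2 fun b hb =>
    mem_Cs.2 fun a ha => h.comm hr hx x1 hl a ha b hb
  obtain ⟨a, ha, a1, ax⟩ := h.fix hx
  rw [ab, mem_bot] at a1 ax
  replace ax := commutatorElement_eq_one_iff_mul_comm.1 ax
  by_cases le : E ≤ zpowers a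
  · exact .inl ⟨a, h.tz hO ha a1 ax le⟩
  · obtain ⟨b, hb, n⟩ := SetLike.not_le_iff_exists.1 le
    exact .inr ⟨a, b, h.tq hr hO hS.2.1 hx x1 hn ab ha a1 ax hb n⟩

end Cfsg.Lib.K35
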