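import Cfsg.Agent.K35.Loc
import Cfsg.Agent.Gold.Cm
import Cfsg.Agent.Trans.MinimalAction
import Cfsg.Agent.Solv.PGroupNormal
import Cfsg.Agent.Solv.PSolvable
import Cfsg.Agent.Solv.CoprimeFixed
import Cfsg.Agent.FT.BG1.Transfer

/-!
# Simple groups of order `2 ^ b * 3 ^ a * 5`: the minimal parabolic, part one
-/

set_option autoImplicit false

namespace Cfsg.Lib.K35

open Cfsg Subgroup Cfsg.Lib.Trans Cfsg.Lib.Gold
open Cfsg.Lib.P8 (A5 A6 S5 O2 Om Jt Phi EA SR4 Ch E9 Pj Ty Sec SecOK Mx)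
open scoped commutatorElement

universe u

namespace K0d

variable {X : Type u} [Group X] {S E : Subgroup X} {x : X}

theorem sq3 {a : X} (h3 : a ^ 3 = 1) (h : a⁻¹ = a) : a = 1 := by
  rwa [pow_succ, pow_two, inv_eq_iff_mul_eq_one.1 h, one_mul] at h3

theorem ord3 {y z : X} (h3 : z ^ 3 = 1) (h : y ∈ zpowers z) : y = 1 ∨ y = z ∨ y = z⁻¹ := by
  obtain ⟨k, rfl⟩ := h
  have e : z ^ k = z ^ (k % 3) := zpow_eq_zpow_emod k (by exact_mod_cast h3)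
  have : k % 3 = 0 ∨ k % 3 = 1 ∨ k % 3 = 2 := by omega
  rcases this with h | h | h <;> simp only [e, h]
  · simp
  · simp
  · refine .inr (.inr (eq_inv_of_mul_eq_one_left ?_))
    rw [← h3, zpow_two, pow_succ, pow_two]

theorem cx {z : X} (hx : x ^ 3 = 1) (h3 : z ^ 3 = 1) (h : x * z * x⁻¹ ∈ zpowers z) :
    x * z = z * x := by
  rcases ord3 h3 h with e | e | e
  · rw [conj_eq_one_iff.1 e, mul_one, one_mul]
  · exact mul_inv_eq_iff_eq_mul.1 e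
  · have : x ^ 3 * z * (x ^ 3)⁻¹ = z⁻¹ := by
      rw [show x ^ 3 * z * (x ^ 3)⁻¹ = x * (x * (x * z * x⁻¹) * x⁻¹) * x⁻¹ by
        rw [pow_succ, pow_two]; group, e, ← conj_inv, e, inv_inv, e]
    rw [hx, one_mul, inv_one, mul_one] at this
    rw [sq3 h3 this.symm, mul_one, one_mul]

theorem clo {s : Set X} (h : ∀ a ∈ s, ∀ b ∈ s, a * b = b * a) :
    ∀ a ∈ closure s, ∀ b ∈ closure s, a * b = b * a := fun _ ha _ hb =>
  have := isMulCommutative_closure h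
  Solv.PG.mul_comm_of_mem ha hb

theorem ch [Finite X] (hr : PRankLE 3 2 X) {A B C : Subgroup X}
    (h : ∀ a ∈ C, ∀ b ∈ C, a * b = b * a) (h3 : ∀ a ∈ C, a ^ 3 = 1) (h0 : ⊥ < A) (h1 : A < B)
    (h2 : B < C) : False := by
  have := Fact.mk Nat.prime_three
  have hC : IsPGroup 3 C := Solv.PG.isPGroup_of_forall_mem fun a ha => ⟨1, h3 a ha⟩
  have k0 := Solv.PG.prime_mul_card_le_of_lt ((hC.to_le h2.le).to_le h1.le) h0
  have k1 := Solv.PG.prime_mul_card_le_of_lt (hC.to_le h2.le) h1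
  have k2 := Solv.PG.prime_mul_card_le_of_lt hC h2
  have k3 := hr C (Solv.PG.isMulCommutative_of_forall h) h3
  rw [card_bot] at k0
  omega

theorem e27 [Finite X] (hr : PRankLE 3 2 X) {a b c : X} (a3 : a ^ 3 = 1) (b3 : b ^ 3 = 1)
    (c3 : c ^ 3 = 1) (ab : a * b = b * a) (ac : a * c = c * a) (bc : b * c = c * b) (ha : a ≠ 1)
    {Y W : Subgroup X} (aY : a ∈ Y) (bY : b ∉ Y) (aW : a ∈ W) (bW : b ∈ W) (cW : c ∉ W) :
    False := by
  have h := clo (s := {a, b, c}) (by simp [ab, ac, bc])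
  have m1 : a ∈ closure {a, b, c} := subset_closure (by simp)
  have m2 : b ∈ closure {a, b, c} := subset_closure (by simp)
  have m3 : c ∈ closure {a, b, c} := subset_closure (by simp)
  refine ch hr (A := closure {a, b, c} ⊓ W ⊓ Y) (B := closure {a, b, c} ⊓ W) h (fun g hg => ?_)
    (bot_lt_iff_ne_bot.2 fun e => ha (e.le ⟨⟨m1, aW⟩, aY⟩))
    (inf_le_left.lt_of_ne fun e => bY (e.ge ⟨m2, bW⟩).2)
    (inf_le_left.lt_of_ne fun e => cW (e.ge m3).2)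
  induction hg using closure_induction with
  | mem g hg => rcases hg with rfl | rfl | rfl <;> assumption
  | one => exact one_pow _
  | mul g g' hg hg' e e' => rw [Commute.mul_pow (h g hg g' hg'), e, e', mul_one]
  | inv g _ e => rw [inv_pow, e, inv_one]

theorem cm2 {a b w : X} (b3 : b ^ 3 = 1) (h : w * ⁅a, b⁆ * w⁻¹ = ⁅a, b⁆) (ha : w * a * w⁻¹ = a)
    (hb : w * b * w⁻¹ = b⁻¹) : a * b = b * a := by
  rw [conjugate_commutatorElement, ha, hb] at h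
  have : Commute a (b * b) := by
    calc a * (b * b) = a * (b * a⁻¹ * ⁅a, b⁆ * b) * a := by rw [commutatorElement_def]; group
      _ = _ := by rw [← h, commutatorElement_def]; group
  have := this.mul_right this
  rwa [show b * b * (b * b) = b ^ 3 * b by rw [pow_succ, pow_two]; group, b3, one_mul] at this

/-- A four-group permuted by `x` gives three independent elements. -/
theorem four [Finite X] (hr : PRankLE 3 2 X) [hE : E.Normal] (e3 : ∀ a ∈ E, a ^ 3 = 1)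
    (hc : ⁅E, E⁆ ≤ Cs S) {w₁ w₂ w₃ d : X} (m1 : w₁ ∈ S) (m2 : w₂ ∈ S) (x1 : x * w₁ * x⁻¹ = w₂)
    (x2 : x * w₂ * x⁻¹ = w₃) (x3 : x * w₃ * x⁻¹ = w₁) (hd : d ∈ E) (d1 : d ≠ 1)
    (h1 : w₁ * d * w₁⁻¹ = d) (h2 : w₂ * d * w₂⁻¹ = d⁻¹) (h3 : w₃ * d * w₃⁻¹ = d⁻¹) : False := by
  have k : ∀ {w w' a b : X}, x * w * x⁻¹ = w' → w * a * w⁻¹ = b →
      w' * (x * a * x⁻¹) * w'⁻¹ = x * b * x⁻¹ := fun e e' => by rw [← e, ← e']; group
  have k1 := k x1 h1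
  have k2 := k x2 h2
  have k3 := k x3 h3
  rw [← conj_inv] at k2 k3
  have hd2 := hE.conj_mem d hd x
  have d2 : x * d * x⁻¹ ≠ 1 := fun e => d1 (conj_eq_one_iff.1 e)
  generalize x * d * x⁻¹ = d' at *
  have l1 := k x2 k1
  have l2 := k x3 k2
  have l3 := k x1 k3
  rw [← conj_inv] at l2 l3
  have hd3 := hE.conj_mem d' hd2 x
  have d3 : x * d' * x⁻¹ ≠ 1 := fun e => d2 (conj_eq_one_iff.1 e)
  generalize x * d' * x⁻¹ = d'' at *
  have c : ∀ {a b w : X}, a ∈ E → b ∈ E → w ∈ S → w * a * w⁻¹ = a → w * b * w⁻¹ = b⁻¹ →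
      a * b = b * a := fun ha hb hw => cm2 (e3 _ hb) (mul_inv_eq_iff_eq_mul.2
        (mem_Cs.1 (hc (commutator_mem_commutator ha hb)) _ hw))
  have c1 := c hd hd2 m1 h1 k3
  refine e27 hr (e3 _ hd) (e3 _ hd2) (e3 _ hd3) c1 (c hd hd3 m1 h1 l2) (c hd2 hd3 m2 k1 l3) d1
    (Y := C1 w₁) (W := closure {d, d'}) (mem_C1.2 (mul_inv_eq_iff_eq_mul.1 h1).symm)
    (fun h => d2 (sq3 (e3 _ hd2) (by rw [← k3, ← mem_C1.1 h, mul_inv_cancel_right])))
    (subset_closure (by simp)) (subset_closure (by simp)) fun h => d3 (sq3 (e3 _ hd3) ?_)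
  have : ∀ g ∈ closure {d, d'}, w₃ * g * w₃⁻¹ = g⁻¹ := fun g hg => by
    induction hg using closure_induction with
    | mem g hg => rcases hg with rfl | rfl <;> assumption
    | one => simp
    | mul g g' hg hg' e e' =>
      rw [← conj_mul, e, e', ← mul_inv_rev, clo (by simp [c1]) g hg g' hg']
    | inv g _ e => rw [← conj_inv, e]
  rw [← this _ h, l1]

/-- A central involution of `S` commuting with `x`. -/
theorem inv [Finite X] (hr : PRankLE 3 2 X) [hE : E.Normal] (e3 : ∀ a ∈ E, a ^ 3 = 1)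
    (hc : ⁅E, E⁆ ≤ Cs S) (hS : IsPGroup 2 S) (h0 : S ≠ ⊥) (hx : x ^ 3 = 1) (hn : x ∈ Ns S)
    (fa : ∀ t ∈ S, t ∈ Cs E → t = 1) :
    ∃ s ∈ S, s ∈ Cs S ∧ s * s = 1 ∧ s ≠ 1 ∧ x * s = s * x := by
  have := Fact.mk Nat.prime_two
  obtain ⟨v, hv, hz, -, o⟩ := Solv.PG.exists_mem_centralizer_orderOf_eq hS hS le_normalizer h0
  have q1 : v * v = 1 := by rw [← pow_two, ← o, pow_orderOf_eq_one]
  have v1 : v ≠ 1 := fun e => by simp [e] at o
  have hN := mem_Ns_inf hn (mem_Ns_Cs hn)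
  have m1 : v ∈ S ⊓ Cs S := ⟨hv, hz⟩
  obtain ⟨w, x1⟩ : ∃ w, x * v * x⁻¹ = w := ⟨_, rfl⟩
  obtain ⟨y, x2⟩ : ∃ y, x * w * x⁻¹ = y := ⟨_, rfl⟩
  have x3 : x * y * x⁻¹ = v := by
    rw [← x2, ← x1, show x * (x * (x * v * x⁻¹) * x⁻¹) * x⁻¹ = x ^ 3 * v * (x ^ 3)⁻¹ by
      rw [pow_succ, pow_two]; group, hx]; simp
  have m2 : w ∈ S ⊓ Cs S := x1 ▸ mem_normalizer_conj hN m1
  have m3 : y ∈ S ⊓ Cs S := x2 ▸ mem_normalizer_conj hN m2
  have q2 : w * w = 1 := by rw [← x1, conj_mul, q1]; simp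
  have q3 : y * y = 1 := by rw [← x2, conj_mul, q2]; simp
  have c : ∀ {a b}, a ∈ S ⊓ Cs S → b ∈ S ⊓ Cs S → Commute a b := fun ha hb => mem_Cs.1 hb.2 _ ha.1
  have m4 := mul_mem (mul_mem m1 m2) m3
  by_cases e : v * w * y = 1
  swap
  · refine ⟨_, m4.1, m4.2, ?_, e, mul_inv_eq_iff_eq_mul.1 ?_⟩
    · rw [← pow_two, (c (mul_mem m1 m2) m3).mul_pow, (c m1 m2).mul_pow]
      simp only [pow_two, q1, q2, q3, mul_one]
    · rw [← conj_mul, ← conj_mul, x1, x2, x3, c (mul_mem m2 m3) m1, mul_assoc]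
  exfalso
  have ey : y = v * w := by
    rw [eq_inv_of_mul_eq_one_right e, mul_inv_rev, inv_eq_of_sq q1, inv_eq_of_sq q2, c m2 m1]
  obtain ⟨a, ha, n⟩ : ∃ a ∈ E, a * v ≠ v * a := by
    by_contra! h
    exact v1 (fa v hv (mem_Cs.2 h))
  obtain ⟨d, hd, d1, h1⟩ : ∃ d ∈ E, d ≠ 1 ∧ v * d * v⁻¹ = d⁻¹ := by
    refine ⟨⁅a, v⁆, ?_, fun e => n (commutatorElement_eq_one_iff_mul_comm.1 e), ?_⟩
    · simpa [commutatorElement_def, mul_assoc] using mul_mem ha (hE.conj_mem _ (inv_mem ha) v)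
    · simp only [commutatorElement_def, mul_inv_rev, inv_inv, inv_eq_of_sq q1, mul_assoc, q1,
        mul_one]
  obtain ⟨d', e'⟩ : ∃ d', w * d * w⁻¹ = d' := ⟨_, rfl⟩
  have hd' : d' ∈ E := e' ▸ hE.conj_mem d hd w
  have h2 : w * d' * w⁻¹ = d := by
    rw [← e', show w * (w * d * w⁻¹) * w⁻¹ = w * w * d * (w * w)⁻¹ by group, q2]; simp
  have h3 : v * d' * v⁻¹ = d'⁻¹ := by
    rw [← e', conj_inv, ← h1, show v * (w * d * w⁻¹) * v⁻¹ = v * w * d * (v * w)⁻¹ by group,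
      c m1 m2]; group
  have cm : d * d' = d' * d := by
    have m := commutator_mem_commutator hd hd'
    refine commutatorElement_eq_one_iff_mul_comm.1 (sq3 (e3 _ (commutator_le_left E E m)) ?_)
    rw [commutatorElement_inv, ← mul_inv_eq_iff_eq_mul.2 (mem_Cs.1 (hc m) _ m2.1),
      conjugate_commutatorElement, e', h2]
  by_cases e'' : d * d' = 1
  · have h4 : w * d * w⁻¹ = d⁻¹ := by rw [e', eq_inv_of_mul_eq_one_right e'']
    refine four hr e3 hc m3.1 hv x3 x1 x2 hd d1 ?_ h1 h4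
    rw [ey, show v * w * d * (v * w)⁻¹ = v * (w * d * w⁻¹) * v⁻¹ by group, h4, ← conj_inv, h1,
      inv_inv]
  · have h4 : w * (d * d') * w⁻¹ = d * d' := by rw [← conj_mul, e', h2, cm]
    have h5 : v * (d * d') * v⁻¹ = (d * d')⁻¹ := by rw [← conj_mul, h1, h3, cm, mul_inv_rev]
    refine four hr e3 hc m2.1 m3.1 x2 x3 x1 (mul_mem hd hd') e'' h4 ?_ h5
    rw [ey, show v * w * (d * d') * (v * w)⁻¹ = v * (w * (d * d') * w⁻¹) * v⁻¹ by group, h4, h5]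

/-- The minimal invariant subgroup `E` and a central involution `s` of `S`. -/
structure St (S E : Subgroup X) (x s : X) : Prop where
  e3 : ∀ a ∈ E, a ^ 3 = 1
  c2 : ⁅E, E⁆ ≤ Cs E
  lt : ⁅E, E⁆ < E
  cS : ⁅E, E⁆ ≤ Cs S
  fa : ∀ t ∈ S, t ∈ Cs E → t = 1
  mn : ∀ Y < E, S ≤ Ns Y → x ∈ Ns Y → Y ≤ ⁅E, E⁆
  gen : ∀ k, ∃ t ∈ S, ∃ i : ℕ, ∃ e ∈ E, k = t * x ^ i * e
  sS : s ∈ S
  s2 : s * s = 1
  s1 : s ≠ 1
  xs : x * s = s * x
  cs : E ⊓ C1 s ≤ ⁅E, E⁆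

theorem ex [Finite X] (hs : Group.IsSolvable X) (hp : ∀ p : ℕ, p.Prime → p ∣ Nat.card X → p = 2 ∨ p = 3)
    (h2 : pCore 2 X = ⊥) (hr : PRankLE 3 2 X) (hS : IsPGroup 2 S) (h0 : S ≠ ⊥) (hx : x ^ 3 = 1)
    (hn : x ∈ Ns S) (hm : ∀ H : Subgroup X, S ≤ H → x ∈ H → H ≤ Ns S ∨ H = ⊤) :
    ∃ E s, E.Normal ∧ St S E x s := by
  have := Fact.mk Nat.prime_two
  have := Fact.mk Nat.prime_three
  have hD : IsPiSubgroup {3} (pPrimeCore 2 X) := fun p hp' d =>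
    (hp p hp' (d.trans (card_subgroup_dvd_card _))).resolve_left fun e =>
      Solv.not_dvd_card_pPrimeCore 2 X (e ▸ d)
  obtain ⟨H, hH, n, c, e3, -, f⟩ := FT.critical_odd Nat.prime_three hD
    (Nat.coprime_two_right.1 (Solv.coprime_card_pPrimeCore 2 X))
  rw [normalizer_eq_top] at n f
  have dj : ∀ {Y : Subgroup X}, IsPGroup 3 Y → S ⊓ Y ≤ ⊥ := fun h =>
    (IsPGroup.disjoint_of_ne 2 3 (by decide) _ _ hS h).le_bot
  have nH : ¬ H ≤ Cs S := fun h => h0 (eq_bot_iff.2 fun s hs' => by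
    obtain ⟨k, hk⟩ := f s ⟨trivial, le_Cs_comm.1 h hs'⟩
    exact dj (Solv.PG.isPGroup_zpowers (dj (Solv.isPiSubgroup_singleton_iff.1 hD) ⟨pow_mem hs' _,
      (IsPSolvable.of_isSolvable 2 X).centralizer_pPrimeCore_le h2 hk⟩)) ⟨hs', mem_zpowers s⟩)
  obtain ⟨E, ⟨hE, n1, n2, n3⟩, mn⟩ := wellFounded_lt.has_min
    {Y : Subgroup X | Y ≤ H ∧ S ≤ Ns Y ∧ x ∈ Ns Y ∧ ¬ Y ≤ Cs S} ⟨H, le_rfl, le_top.trans n, n trivial, nH⟩
  replace mn : ∀ Y < E, S ≤ Ns Y → x ∈ Ns Y → Y ≤ Cs S := fun Y h a b =>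
    by_contra fun k => mn Y ⟨h.le.trans hE, a, b, k⟩ h
  replace e3 : ∀ a ∈ E, a ^ 3 = 1 := fun a ha => e3 a (hE ha)
  have E3 : IsPGroup 3 E := Solv.PG.isPGroup_of_forall_mem fun a ha => ⟨1, e3 a ha⟩
  have nK : S ⊔ zpowers x ≤ Ns E := sup_le n1 (zpowers_le.2 n2)
  have tp : E ⊔ (S ⊔ zpowers x) = ⊤ := (hm _ (le_sup_of_le_right le_sup_left)
    (mem_sup_right (mem_sup_right (mem_zpowers x)))).resolve_left fun h => n3
      (commutator_eq_bot_iff_le_centralizer.1 (eq_bot_iff.2 ((le_inf (commutator_le_right_of_le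
        (le_sup_left.trans h)) (commutator_le_left_of_le n1)).trans (dj E3))))
  have nor : ∀ {Y : Subgroup X}, E ≤ Ns Y → S ≤ Ns Y → x ∈ Ns Y → Y.Normal := fun a b d =>
    Solv.PG.normal_of_top_le_normalizer (tp ▸ sup_le a (sup_le b (zpowers_le.2 d)))
  have hN := nor le_normalizer n1 n2
  have fa : ∀ t ∈ S, t ∈ Cs E → t = 1 := fun t a b => (h2 ▸ Solv.le_pCore (nor (Y := S ⊓ Cs E)
    ((le_Cs_comm.1 inf_le_right).trans Cs_le_Ns) (le_Ns_inf le_normalizer (le_Ns_Cs n1))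
    (mem_Ns_inf hn (mem_Ns_Cs n2))) hS.to_inf_left : S ⊓ Cs E ≤ ⊥) ⟨a, b⟩
  have cop : (Nat.card S).Coprime (Nat.card E) :=
    IsPGroup.coprime_card_of_ne 2 3 (by decide) _ _ hS E3
  have ec : ⁅E, S⁆ = E := (commutator_le_left_of_le n1).eq_of_not_lt fun h => n3 (by
    rw [← commutator_eq_bot_iff_le_centralizer, ← Solv.Coprime.commutator_commutator n1 cop,
      commutator_eq_bot_iff_le_centralizer]
    exact mn _ h right_le_Ns_commutator (mem_Ns_commutator n2 hn))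
  have mn' : ∀ Y < E, S ≤ Ns Y → x ∈ Ns Y → Y ≤ ⁅E, E⁆ := fun Y h a b =>
    (le_inf (le_inf h.le (mn Y h a b)) (h.le.trans ec.ge)).trans
      (inf_centralizer_inf_commutator_le n1 cop)
  have lt := Solv.PG.commutator_lt E3 E3 le_normalizer fun e => n3 (e ▸ bot_le)
  have cS := mn _ lt (le_Ns_commutator n1 n1) (mem_Ns_commutator n2 n2)
  obtain ⟨s, s1, s2, s3, s4, s5⟩ := inv hr e3 cS hS h0 hx hn fa
  refine ⟨E, s, hN, e3, (commutator_mono hE (hE.trans hH)).trans (c.trans (inf_le_right.trans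
    (Cs_anti hE))), lt, cS, fa, mn', fun k => ?_, s1, s3, s4, s5, mn' _ (inf_le_left.lt_of_ne
      fun e => s4 (fa s s1 (mem_Cs.2 fun u hu => mem_C1.1 (e.ge hu).2)))
    (le_Ns_inf n1 fun t ht => mem_Ns_C1 (mem_Cs.1 s2 t ht)) (mem_Ns_inf n2 (mem_Ns_C1 s5))⟩
  obtain ⟨e, he, h, hh, rfl⟩ := (Solv.PG.mem_sup_iff_of_le_normalizer nK).1 (tp.ge (mem_top k))
  obtain ⟨t, ht, j, rfl⟩ := (Solv.PG.mem_sup_zpowers_iff hn).1 hh
  obtain ⟨i, hi⟩ := mem_powers_iff_mem_zpowers.2 (zpow_mem (mem_zpowers x) j)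
  exact ⟨t, ht, i, _, hN.conj_mem' e he (t * x ^ j), by rw [show x ^ i = _ from hi]; group⟩

end K0d

end Cfsg.Lib.K35
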