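import Cfsg.Agent.K35.Loc
import Cfsg.Agent.P8.Brg
import Cfsg.Agent.P8.BasJ

/-! The amalgam of type `3 × S₃` does not occur. -/

set_option autoImplicit false

namespace Cfsg.Lib.K35

open Cfsg Subgroup Cfsg.Lib.Trans Cfsg.Lib.Gold
open Cfsg.Lib.P8 (A5 A6 S5 O2 Om Jt Phi EA SR4 Ch E9 Pj Ty Sec SecOK Mx)
open scoped commutatorElement

universe u

namespace KZb

open P8.BrgH

variable {G : Type u} [Group G] {M T S K A E H U Y : Subgroup G} {π : G → A5} {x u a b t f : G}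

/-- The core. -/
def cor (H U : Subgroup G) : Subgroup G where
  carrier := {f | ∀ k ∈ H, k * f * k⁻¹ ∈ U}
  mul_mem' hf hg k hk := by rw [← conj_mul]; exact mul_mem (hf k hk) (hg k hk)
  one_mem' k _ := by simp
  inv_mem' hf k hk := by rw [← conj_inv]; exact inv_mem (hf k hk)

theorem cor_eq_1' : type_of% @cor.eq_1 := @cor.eq_1

theorem cor_le : cor H U ≤ U := fun f hf => by simpa using hf 1 (one_mem _)

theorem le_cor (h : H ≤ Ns Y) (h' : Y ≤ U) : Y ≤ cor H U := fun _ hf _ hk => h' (mem_normalizer_conj (h hk) hf)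

theorem ns_cor [Finite G] : H ≤ Ns (cor H U) := fun g hg => mem_normalizer_of_cj_le (cj_le_iff.2 fun f hf k hk => by
  simpa [mul_assoc] using hf _ (mul_mem hk hg))

theorem two (h : U.relIndex H = 2) (ha : a ∈ H) (hb : b ∈ H) : a * b ∈ U ↔ (a ∈ U ↔ b ∈ U) :=
  mul_mem_iff_of_index_two (H := U.subgroupOf H) h (a := ⟨a, ha⟩) (b := ⟨b, hb⟩)

theorem chr {C : Type u} [AddCommGroup C] [DistribMulAction A5 C] {p : G → C} (h : Sec M U Y π p) (le : U ≤ Y)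
    (P : G → Prop) (h1 : ∀ a ∈ Y, ∀ b ∈ Y, P (a * b) ↔ (P a ↔ P b)) (h2 : ∀ a ∈ U, P a) :
    ∃ l : C →+ ZMod 2, ∀ a ∈ Y, (l (p a) = 0 ↔ P a) := by
  classical
  choose s s1 s2 using h.sur
  have k : ∀ a ∈ Y, P (s (p a)) ↔ P a := fun a ha => by
    have l := (p_eq h.add h.zero ha (s1 _)).1 (s2 _).symm
    rw [← mul_inv_cancel_left a (s (p a)), h1 _ ha _ (le l), iff_true_intro (h2 _ l), iff_true]
  refine ⟨.mk' (fun c => if P (s c) then 0 else 1) fun c d => ?_, fun a ha => ?_⟩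
  · have := k _ (mul_mem (s1 c) (s1 d))
    rw [h.add _ (s1 c) _ (s1 d), s2, s2, h1 _ (s1 c) _ (s1 d)] at this
    by_cases e : P (s c) <;> by_cases e' : P (s d) <;> simp [this, e, e']
    rfl
  · simp [k a ha]

theorem nz {C : Type u} [AddCommGroup C] {l : C →+ ZMod 2} {c : C} (h : l c ≠ 0) : l.ker.index = 2 := by
  rw [AddSubgroup.index_ker, AddMonoidHom.range_eq_top.2 fun z => by
    obtain rfl | rfl := (by decide : ∀ a b : ZMod 2, b ≠ 0 → a = 0 ∨ a = b) z _ h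
    exacts [⟨0, map_zero _⟩, ⟨c, rfl⟩]]
  simp

theorem stab (h : SA M T S π x) (hK : KK M S K x) (ha : a ∈ M) (e : (π a : S5) 4 = 4) : a ∈ K := by
  have xx := mul_mem h.xM h.xM
  obtain l | l | l := (by decide +kernel : ∀ g : A5, (g : S5) 4 = 4 → g * g = 1 ∨ (g * x0 * (g * x0) = 1 ∧
    ((g * x0 : A5) : S5) 4 = 4) ∨ (g * (x0 * x0) * (g * (x0 * x0)) = 1 ∧ ((g * (x0 * x0) : A5) : S5) 4 = 4)) _ e
  · exact hK.le ((h.memS a).2 ⟨ha, l, e⟩)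
  · exact (mul_mem_cancel_right hK.xK).1 (hK.le ((h.memS _).2 ⟨mul_mem ha h.xM, by rwa [h.ty.mul _ ha _ h.xM, h.px]⟩))
  · exact (mul_mem_cancel_right (mul_mem hK.xK hK.xK)).1 (hK.le ((h.memS _).2
      ⟨mul_mem ha xx, by rwa [h.ty.mul _ ha _ xx, h.ty.mul _ h.xM _ h.xM, h.px]⟩))

variable [Finite G]

theorem nQ : K ≤ Ns (O2 K) := le_normalizer.trans (P8.pf_BasJ.o2 K).2.2.1

theorem nA (hB : SB M T S x) (h : Top M T K A E) : M ≤ Ns A := fun g hg =>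
  mem_normalizer_of_cj_le (cj_le_iff.2 fun f hf => (h.mem _).2 ⟨mem_normalizer_conj (hB.nT hg) ((h.mem f).1 hf).1,
    fun k hk => by simpa [mul_assoc] using ((h.mem f).1 hf).2 _ (mul_mem hk hg)⟩)

theorem mem_cor (hA : SA M T S π x) (hB : SB M T S x) (hZ : TZ S K x u) (h : Top M T K A E) (h0 : f ∈ A)
    (h1 : u * f * u⁻¹ ∈ A) (h2 : u⁻¹ * f * u ∈ A) : f ∈ cor K A := fun k hk => by
  obtain ⟨s, hs, i, j, rfl⟩ := hZ.gen k hk
  rw [show s * x ^ i * u ^ j * f * (s * x ^ i * u ^ j)⁻¹ = s * x ^ i * (u ^ j * f * (u ^ j)⁻¹) * (s * x ^ i)⁻¹ by group]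
  refine mem_normalizer_conj (nA hB h (mul_mem (hB.syl.le hs) (pow_mem hA.xM i))) ?_
  have u3 : u ^ 2 = u⁻¹ := eq_inv_of_mul_eq_one_left ((pow_succ u 2).symm.trans (hZ.ou ▸ pow_orderOf_eq_one u : u ^ 3 = 1))
  rw [← pow_mod_orderOf, hZ.ou]
  obtain e | e | e : j % 3 = 0 ∨ j % 3 = 1 ∨ j % 3 = 2 := by omega
  all_goals rw [e]
  exacts [by simpa using h0, by simpa using h1, by simpa [u3] using h2]

theorem cjQ (hB : SB M T S x) (hK : KK M S K x) (h : Top M T K A E) (hu : u ∈ K) (ht : t ∈ O2 K) :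
    u * (t * f * t⁻¹) * u⁻¹ ∈ A ↔ u * f * u⁻¹ ∈ A := by
  rw [← conj_mul, ← conj_mul, ← conj_inv]
  exact (mem_normalizer_iff.1 (nA hB h (hB.syl.le (hK.leQ
    (mem_normalizer_conj (nQ hu) ht)))) _).symm

theorem cjT (hB : SB M T S x) (hK : KK M S K x) (hZ : TZ S K x u) (h : Top M T K A E) (ht : t ∈ S)
    (n : t ∉ O2 K) : u * (t * f * t⁻¹) * u⁻¹ ∈ A ↔ u⁻¹ * f * u ∈ A := by
  rw [show u * (t * f * t⁻¹) * u⁻¹ = t * (t⁻¹ * u * t⁻¹⁻¹ * u) * (u⁻¹ * f * u) * (t * (t⁻¹ * u * t⁻¹⁻¹ * u))⁻¹ by group]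
  exact (mem_normalizer_iff.1 (nA hB h (hB.syl.le (mul_mem ht (hK.leQ
    (hZ.inv _ (inv_mem ht) fun l => n (inv_mem_iff.1 l)))))) _).symm

theorem cm (hB : SB M T S x) (hK : KK M S K x) (hZ : TZ S K x u) (h : Top M T K A E) (hf : f ∈ E) (ht : t ∈ S) :
    ⁅f, t⁆ ∈ A ∧ (u * ⁅f, t⁆ * u⁻¹ ∈ A ↔ t ∈ O2 K ∨ (u * f * u⁻¹ ∈ A ↔ u⁻¹ * f * u ∈ A)) ∧
      (u⁻¹ * ⁅f, t⁆ * u ∈ A ↔ t ∈ O2 K ∨ (u * f * u⁻¹ ∈ A ↔ u⁻¹ * f * u ∈ A)) := by
  have p : ∀ k ∈ K, k * ⁅f, t⁆ * k⁻¹ ∈ A ↔ (k * f * k⁻¹ ∈ A ↔ k * (t * f * t⁻¹) * k⁻¹ ∈ A) := fun k hk => by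
    have l := mem_normalizer_conj (h.nK hk) (mem_normalizer_conj (h.nK (hK.le ht)) hf)
    rw [show k * ⁅f, t⁆ * k⁻¹ = k * f * k⁻¹ * (k * (t * f * t⁻¹) * k⁻¹)⁻¹ by rw [commutatorElement_def]; group,
      two h.idx (mem_normalizer_conj (h.nK hk) hf) (inv_mem l), inv_mem_iff]
  have p1 := p 1 (one_mem _)
  have p2 := p _ (inv_mem hZ.uK)
  simp only [one_mul, inv_one, mul_one, inv_inv] at p1 p2
  rw [p1, p2, p u hZ.uK]
  refine ⟨mem_normalizer_iff.1 (nA hB h (hB.syl.le ht)) f, ?_⟩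
  by_cases e : t ∈ O2 K
  · have := cjQ (f := f) hB hK h (inv_mem hZ.uK) e
    rw [inv_inv] at this
    simp [cjQ hB hK h hZ.uK e, this, e]
  · have := cjT (f := t * f * t⁻¹) hB hK hZ h (inv_mem ht) fun l => e (inv_mem_iff.1 l)
    rw [show t⁻¹ * (t * f * t⁻¹) * t⁻¹⁻¹ = f by group] at this
    rw [cjT hB hK hZ h ht e, ← this]
    simp [e, iff_comm]

omit [Finite G] in
theorem qq (hB : SB M T S x) (hZ : TZ S K x u) : ∀ a ∈ T, ∀ b ∈ T, a * b ∈ O2 K ↔ (a ∈ O2 K ↔ b ∈ O2 K) :=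
  fun _ ha _ hb => two hZ.idx (hB.le ha) (hB.le hb)

theorem c0 (hA : SA M T S π x) (hB : SB M T S x) (hK : KK M S K x) (hZ : TZ S K x u) (h : Top M T K A E)
    (hf : f ∈ E) (ht : t ∈ T) : ⁅f, t⁆ ∈ cor K A ↔ t ∈ O2 K ∨ (u * f * u⁻¹ ∈ A ↔ u⁻¹ * f * u ∈ A) := by
  obtain ⟨l0, l1, l2⟩ := cm hB hK hZ h hf (hB.le ht)
  exact ⟨fun l => l1.1 (l u hZ.uK), fun l => mem_cor hA hB hZ h l0 (l1.2 l) (l2.2 l)⟩

omit [Finite G] in
theorem m1 (h : Top M T K A E) (hu : u ∈ K) (ha : a ∈ E) (hb : b ∈ E) :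
    u * (a * b) * u⁻¹ ∈ A ↔ (u * a * u⁻¹ ∈ A ↔ u * b * u⁻¹ ∈ A) := by
  rw [← conj_mul, two h.idx (mem_normalizer_conj (h.nK hu) ha) (mem_normalizer_conj (h.nK hu) hb)]

omit [Finite G] in
theorem m2 (h : Top M T K A E) (hu : u ∈ K) (ha : a ∈ E) (hb : b ∈ E) :
    (u * (a * b) * u⁻¹ ∈ A ↔ u⁻¹ * (a * b) * u ∈ A) ↔
      ((u * a * u⁻¹ ∈ A ↔ u⁻¹ * a * u ∈ A) ↔ (u * b * u⁻¹ ∈ A ↔ u⁻¹ * b * u ∈ A)) := by
  have := m1 h (inv_mem hu) ha hb
  rw [inv_inv] at this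
  rw [this, m1 h hu ha hb]; tauto

theorem tt (hB : SB M T S x) (hZ : TZ S K x u) (h : Top M T K A E) : ⁅T, T⁆ ≤ A :=
  commutator_le.2 fun a ha b hb => (h.mem _).2
    ⟨commutator_le_left_of_le le_normalizer (commutator_mem_commutator ha hb), fun m hm => by
      have ha := mem_normalizer_conj (hB.nT hm) ha
      have hb := mem_normalizer_conj (hB.nT hm) hb
      rw [conjugate_commutatorElement, commutatorElement_def,
        qq hB hZ _ (mul_mem (mul_mem ha hb) (inv_mem ha)) _ (inv_mem hb),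
        qq hB hZ _ (mul_mem ha hb) _ (inv_mem ha), qq hB hZ _ ha _ hb, inv_mem_iff, inv_mem_iff]; tauto⟩

theorem sT (hB : SB M T S x) (hZ : TZ S K x u) (h : Top M T K A E) : SecOK M T A T :=
  ⟨fun a ha => ((h.mem a).1 ha).1, le_rfl, nA hB h, hB.nT, tt hB hZ h, fun a ha => (h.mem _).2
    ⟨mul_mem ha ha, fun m hm => by
      have l := mem_normalizer_conj (hB.nT hm) ha
      rw [← conj_mul, qq hB hZ _ l _ l]⟩⟩

theorem sec (hB : SB M T S x) (hZ : TZ S K x u) (h : Top M T K A E) (h1 : Y ≤ A) (h2 : M ≤ Ns Y)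
    (h3 : ⁅Y, T⁆ ≤ cor K A) : SecOK M T (cor M (Y ⊓ cor K A)) Y :=
  ⟨cor_le.trans inf_le_left, h1.trans (sT hB hZ h).le, ns_cor, h2, le_cor (le_Ns_commutator h2 hB.nT)
    (le_inf (commutator_le_left_of_le ((hB.le.trans hB.syl.le).trans h2)) h3), fun a ha m hm => by
      have l := mem_normalizer_conj (h2 hm) ha
      rw [← conj_mul]
      exact ⟨mul_mem l l, fun k hk => (m1 h hk (h.le (h1 l)) (h.le (h1 l))).2 Iff.rfl⟩⟩

theorem case1 (hBil : StBil.{u}) (hMA : StMA.{u}) (hMB : StMB.{u}) (hCore : StCore.{u}) (hA : SA M T S π x)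
    (hB : SB M T S x) (hK : KK M S K x) (hZ : TZ S K x u) (h : Top M T K A E) (ht : t ∈ T) (tQ : t ∉ O2 K)
    (c : ⁅A, T⁆ ≤ cor K A) : ⁅T, T⁆ ≤ cor K A := by
  have sT := sT hB hZ h
  have aT := sT.le
  have c1 : ⁅A, T⁆ ≤ cor M (⁅T, T⁆ ⊓ cor K A) :=
    le_cor (le_Ns_commutator sT.n1 hB.nT) (le_inf (commutator_mono aT le_rfl) c)
  obtain ⟨B, C, D, _, _, _, _, _, _, _, _, _, p₁, p₂, p₃, β, k⟩ := hBil G A5 M T π hA.ty.toPj hA.fp A T A T _ _ sT sT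
    (sec hB hZ h sT.cen (le_Ns_commutator hB.nT hB.nT) ((commutator_mono sT.cen le_rfl).trans c)) le_rfl c1
    (commutator_comm A T ▸ c1)
  obtain ⟨ν, hν⟩ := chr k.s2 aT (· ∈ O2 K) (qq hB hZ) fun a ha => (h.leD (h.le ha)).2
  obtain ⟨-, -, z, hz, -, sp⟩ := hCore C (hMA C k.m2) ν.ker ⊥ (nz (mt (hν t ht).1 tQ)) (fun g hg c hc => by
    obtain ⟨a, ha, rfl⟩ := k.s2.sur c
    obtain ⟨m, hm, rfl⟩ := hA.ty.sur g
    rw [← k.s2.eqv m hm a ha]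
    exact (hν _ (mem_normalizer_conj (hB.nT hm) ha)).2 (mem_normalizer_conj
      (nQ (stab hA hK hm hg)) ((hν a ha).1 hc))) fun c => by
    refine ⟨fun l g => by rw [AddSubgroup.mem_bot.1 l, smul_zero]; exact zero_mem _, fun l => ?_⟩
    obtain ⟨a, ha, rfl⟩ := k.s2.sur c
    exact (k.s2.zero a ha).2 ((h.mem a).2 ⟨ha, fun m hm => (hν _ (mem_normalizer_conj (hB.nT hm) ha)).1
      (by rw [k.s2.eqv m hm a ha]; exact l _)⟩)
  have eq : ∀ a ∈ T, ∀ b ∈ T, p₂ a = p₂ b → p₁ a = p₁ b := fun a ha b hb e =>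
    (p_eq k.s1.add k.s1.zero ha hb).2 ((p_eq k.s2.add k.s2.zero ha hb).1 e)
  choose w w1 w2 using fun i => k.s2.sur (z i)
  have o := (hMB B C D β (hMA B k.m1) (hMA C k.m2) (hMA D k.m3) k.eqv).ooo (fun i => p₁ (w i)) z (fun g i => by
    obtain ⟨m, hm, rfl⟩ := hA.ty.sur g
    rw [← k.s1.eqv m hm _ (w1 i)]
    exact eq _ (mem_normalizer_conj (hB.nT hm) (w1 i)) _ (w1 _) (by rw [k.s2.eqv m hm _ (w1 i), w2, w2, hz]))
    hz (by rw [← w2, k.com _ (w1 4) _ (w1 4), commutatorElement_self, p_one k.s3.add])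
  have sp' : ∀ c, c ∈ AddSubgroup.closure (Set.range z) := fun c => by
    obtain ⟨d, hd, e⟩ := sp c
    rw [eq_neg_of_add_eq_zero_left (AddSubgroup.mem_bot.1 e)]; exact neg_mem hd
  have o1 : ∀ i, β (p₁ (w i)) = 0 := fun i => AddMonoidHom.ext fun c =>
    (AddSubgroup.closure_le (β (p₁ (w i))).ker).2 (by rintro _ ⟨j, rfl⟩; exact o i j) (sp' c)
  have o2 : ∀ c, ∀ a ∈ T, p₂ a = c → β (p₁ a) = 0 := fun c => by
    induction sp' c using AddSubgroup.closure_induction with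
    | mem c hc => obtain ⟨j, rfl⟩ := hc; exact fun a ha e => by rw [eq a ha _ (w1 j) (e.trans (w2 j).symm), o1]
    | zero => exact fun a ha e => by rw [(k.s1.zero a ha).2 ((k.s2.zero a ha).1 e), map_zero]
    | add c d _ _ hc hd =>
      obtain ⟨b, hb, rfl⟩ := k.s2.sur c
      intro a ha e
      have l := mul_mem (inv_mem hb) ha
      rw [← mul_inv_cancel_left b a, k.s1.add _ hb _ l, map_add, hc b hb rfl, hd _ l (by
        rw [k.s2.add _ (inv_mem hb) _ ha, p_inv k.s2.add hb, e, neg_add_cancel_left]), add_zero]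
    | neg c _ hc => rwa [neg_eq_of_add_eq_zero_right (k.m2.two c)]
  exact commutator_le.2 fun a ha b hb => (cor_le ((k.s3.zero _ (commutator_mem_commutator ha hb)).1
    (by rw [← k.com _ ha _ hb, o2 _ _ ha rfl]; rfl))).2

theorem c1 (hA : SA M T S π x) (hB : SB M T S x) (hK : KK M S K x) (hZ : TZ S K x u) (h : Top M T K A E) :
    ⁅⁅A, T⁆, T⁆ ≤ cor K A := by
  let F : Subgroup G :=
    { carrier := {f | f ∈ E ∧ (u * f * u⁻¹ ∈ A ↔ u⁻¹ * f * u ∈ A)}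
      mul_mem' := fun ha hb => ⟨mul_mem ha.1 hb.1, (m2 h hZ.uK ha.1 hb.1).2 (iff_of_true ha.2 hb.2)⟩
      one_mem' := ⟨one_mem _, by simp⟩
      inv_mem' := fun {a} ha => ⟨inv_mem ha.1, by
        rw [← conj_inv, inv_mem_iff, ha.2, ← A.inv_mem_iff, show (u⁻¹ * a * u)⁻¹ = u⁻¹ * a⁻¹ * u by group]⟩ }
  have : ⁅A, T⁆ ≤ F := commutator_le.2 fun a ha s hs =>
    have l := cm hB hK hZ h (h.le ha) (hB.le hs)
    ⟨h.le l.1, l.2.1.trans l.2.2.symm⟩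
  exact commutator_le.2 fun a ha s hs => (c0 hA hB hK hZ h (this ha).1 hs).2 (.inr (this ha).2)

theorem case2 (hBil : StBil.{u}) (hR1 : StR1.{u}) (hA : SA M T S π x) (hB : SB M T S x) (hK : KK M S K x)
    (hZ : TZ S K x u) (h : Top M T K A E) (ht : t ∈ T) (tQ : t ∉ O2 K) : ⁅A, T⁆ ≤ cor K A := by
  have sT := sT hB hZ h
  have aT := sT.le
  have nA := sT.n1
  have c1 := c1 hA hB hK hZ h
  have tK : T ≤ Ns (cor K A) := (hB.le.trans hK.le).trans ns_cor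
  have aA : ⁅A, T⁆ ≤ A := commutator_le_left_of_le ((hB.le.trans hB.syl.le).trans nA)
  have nY := le_Ns_commutator nA hB.nT
  obtain ⟨B, C, D, _, _, _, _, _, _, _, _, _, p₁, p₂, p₃, β, k⟩ := hBil G A5 M T π hA.ty.toPj hA.fp
    (cor M (A ⊓ Zq T _ tK)) A A T _ _ ⟨cor_le.trans inf_le_left, aT, ns_cor, nA,
      le_cor nY (le_inf aA fun a ha => ⟨aT (aA ha), fun s hs => c1 (commutator_mem_commutator ha hs)⟩),
      fun a ha m hm => by
        have l := mem_normalizer_conj (nA hm) ha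
        rw [← conj_mul]
        exact ⟨mul_mem l l, aT (mul_mem l l), fun s hs => commutator_le_left_of_le tK (commutator_mem_commutator
          (fun k hk => (m1 h hk (h.le l) (h.le l)).2 Iff.rfl) hs)⟩⟩ sT (sec hB hZ h aA nY c1) le_rfl
    (le_cor (le_Ns_commutator ns_cor hB.nT) (le_inf (commutator_mono (cor_le.trans inf_le_left) le_rfl)
      (commutator_le.2 fun a ha s hs => (cor_le ha).2.2 s hs)))
    (le_cor (le_Ns_commutator nA nA) (le_inf (commutator_mono le_rfl aT)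
      (commutator_le.2 fun a ha s hs => (c0 hA hB hK hZ h (h.le ha) (aT hs)).2 (.inl (h.leD (h.le hs)).2))))
  obtain ⟨ν, hν⟩ := chr k.s2 aT (· ∈ O2 K) (qq hB hZ) fun a ha => (h.leD (h.le ha)).2
  obtain ⟨μ, hμ⟩ := chr k.s1 (cor_le.trans inf_le_left) (fun f => u * f * u⁻¹ ∈ A ↔ u⁻¹ * f * u ∈ A)
    (fun a ha b hb => m2 h hZ.uK (h.le ha) (h.le hb)) fun a ha =>
      ((c0 hA hB hK hZ h (h.le (cor_le ha).1) ht).1 ((cor_le ha).2.2 t ht)).resolve_left tQ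
  obtain ⟨l, hl⟩ := chr k.s3 (cor_le.trans inf_le_left) (fun f => u * f * u⁻¹ ∈ A)
    (fun a ha b hb => m1 h hZ.uK (h.le (aA ha)) (h.le (aA hb))) fun a ha => (cor_le ha).2 u hZ.uK
  obtain e | e := hR1 B C D β k.m1 k.m2 k.m3 k.eqv l μ ν fun b c => by
    obtain ⟨a, ha, rfl⟩ := k.s1.sur b
    obtain ⟨s, hs, rfl⟩ := k.s2.sur c
    refine (by decide : ∀ a b c : ZMod 2, (a = 0 ↔ c = 0 ∨ b = 0) → a = b * c) _ _ _ ?_
    rw [k.com a ha s hs, hl _ (commutator_mem_commutator ha hs), hν s hs, hμ a ha]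
    exact (cm hB hK hZ h (h.le ha) (hB.le hs)).2.1
  · exact commutator_le.2 fun a ha s hs => (c0 hA hB hK hZ h (h.le ha) hs).2 (.inr ((hμ a ha).1 (by rw [e]; rfl)))
  · exact absurd ((hν t ht).1 (by rw [e]; rfl)) tQ

end KZb

open KZb in
theorem kzb (hBil : StBil.{u}) (hMA : StMA.{u}) (hMB : StMB.{u}) (hCore : StCore.{u}) (hR1 : StR1.{u}) :
    StKZb.{u} := by
  intro G _ _ M T S K A E π x u hA hB hK hZ hS h
  obtain ⟨t, ht, tQ⟩ : ∃ t ∈ T, t ∉ O2 K := SetLike.not_le_iff_exists.1 fun l => by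
    have := hZ.idx
    rw [← hS, sup_eq_left.2 l, relIndex_self] at this
    omega
  have c := case1 hBil hMA hMB hCore hA hB hK hZ h ht tQ (case2 hBil hR1 hA hB hK hZ h ht tQ)
  refine h.ne (hK.nn A (hA.ty.two.to_le (sT hB hZ h).le) (nA hB h) fun g hg => ?_)
  obtain ⟨s, hs, i, j, rfl⟩ := hZ.gen g hg
  have u3 : u⁻¹ = u * u := inv_eq_of_mul_eq_one_left ((pow_three' u).symm.trans (hZ.ou ▸ pow_orderOf_eq_one u))
  refine mul_mem (nA hB h (mul_mem (hB.syl.le hs) (pow_mem hA.xM i))) (pow_mem (inv_mem_iff.1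
    (u3 ▸ mem_normalizer_of_cj_le (cj_le_iff.2 fun f hf => ?_))) j)
  have l := mem_normalizer_conj (h.nK hZ.uK) (h.le hf)
  simpa [mul_assoc, hf] using ((c0 hA hB hK hZ h l ht).1 (c (commutator_mem_commutator (h.leD l).1 ht))).resolve_left tQ

end Cfsg.Lib.K35
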