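import Cfsg.Agent.K35.KU
import Cfsg.Agent.K35.KZb
import Cfsg.Agent.K35.FQ8
import Cfsg.Agent.P8.Bas1
import Cfsg.Agent.P8.Bas2
import Cfsg.Agent.P8.PjB
import Cfsg.Agent.A10S.Red
import Cfsg.Agent.Solv.PGroupNormal

/-! The case in which `Ω₁(Z(T))` does not lie in `O₂(K)`. -/

set_option autoImplicit false

namespace Cfsg.Lib.K35

open Cfsg Subgroup Cfsg.Lib.Trans Cfsg.Lib.Gold
open Cfsg.Lib.P8 (A5 A6 S5 O2 Om Jt Phi EA SR4 Ch E9 Pj Ty Sec SecOK Mx)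
open scoped commutatorElement

universe u

namespace KB1

open KU KZb

variable {G : Type u} [Group G] [Finite G] {M T S K D U₁ U₂ : Subgroup G} {π : G → A5} {x u v a b g : G}

theorem r0 : D.relIndex K ≠ 0 := index_ne_zero_of_finite

theorem fact (hD10 : StD10.{u}) (hA : SA M T S π x) (hB : SB M T S x) (h1 : U₁ ≤ D) (h2 : D ≤ U₂) (h3 : U₂ ≤ T)
    (n1 : M ≤ Ns U₁) (n2 : M ≤ Ns U₂) (ha : a ∈ S) (n : a ∉ T) (h : ∀ d ∈ D, ⁅d, a⁆ ∈ U₁) :
    (∃ k, U₁.relIndex U₂ = 16 ^ k) ∧ U₁.relIndex U₂ ≤ D.relIndex U₂ ^ 2 := by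
  obtain ⟨m, hm, y, hy, oy⟩ := hB.d10 a ha n
  have yM : y ∈ M := (closure_le _).2 (by
    rintro _ (rfl | rfl); exacts [hB.syl.le ha, mul_mem (mul_mem hm (hB.syl.le ha)) (inv_mem hm)]) hy
  obtain ⟨k1, -, k2⟩ := hD10 G M U₁ U₂ y (hA.ty.two.to_le h3) (h1.trans h2) (h3.trans hA.ty.le) n1 n2 yM oy
    (le_bot_iff.1 ((inf_le_inf_right _ h3).trans (hA.fp y yM oy).le))
  refine ⟨k1, k2 2 a ![1, m] (hB.syl.le ha) (fun i => by fin_cases i; exacts [one_mem _, hm])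
    (closure_mono ?_ hy) D h1 h2 h⟩
  rintro _ (rfl | rfl)
  exacts [⟨0, by simp⟩, ⟨1, rfl⟩]

theorem fv (hD10 : StD10.{u}) (hA : SA M T S π x) (hB : SB M T S x) (h2 : D ≤ Om T) (ha : a ∈ S) (n : a ∉ T)
    (h : ∀ d ∈ D, d * a = a * d) :
    4 ≤ D.relIndex (Om T) ∧ (D.relIndex (Om T) ≤ 8 → Nat.card (Om T) = 16) := by
  obtain ⟨⟨k, e⟩, l⟩ := fact hD10 hA hB bot_le h2 (fun _ l => (mem_Om.1 l).1) (fun g _ => ns_bot g)
    (hB.nT.trans ns_Om) ha n fun d hd => mem_bot.2 (commutatorElement_eq_one_iff_mul_comm.2 (h d hd))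
  rw [relIndex_bot_left] at e l
  have := (Om T).one_lt_card_iff_ne_bot.2 hB.neV
  rw [e] at l this ⊢
  obtain _ | _ | k := k
  · omega
  · exact ⟨by by_contra! e; interval_cases D.relIndex (Om T) <;> omega, fun _ => rfl⟩
  · have : 1 ≤ 16 ^ k := Nat.one_le_pow _ _ (by decide)
    rw [pow_succ, pow_succ] at l
    exact ⟨by nlinarith, fun _ => by nlinarith⟩

theorem odd3 (hK : KK M S K x) (hg : g ∈ K) (ou : orderOf u = 3) (e : g * u⁻¹ ∈ O2 K)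
    (h : ⁅⁅O2 K, zpowers g⁆, zpowers g⁆ ≤ ⊥) : False := by
  have q2 := (P8.pf_BasJ.o2 K).2.1
  obtain ⟨k, m, hm, l⟩ := Nat.exists_eq_two_pow_mul_odd (orderOf_pos g).ne'
  have z : zpowers (g ^ 2 ^ k) ≤ zpowers g := zpowers_le.2 (npow_mem_zpowers ..)
  have c := (P8.Bas2H.cop q2 (nQ (pow_mem hg (2 ^ k))) (hm.of_dvd_nat (orderOf_dvd_of_pow_eq_one (by
    rw [← pow_mul, ← l, pow_orderOf_eq_one])))).2.1
  have c' := hK.ch ⟨pow_mem hg (2 ^ k), le_Cs_comm.1 (commutator_eq_bot_iff_le_centralizer.1 (le_bot_iff.1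
    (c.ge.trans ((commutator_mono (commutator_mono le_rfl z) z).trans h)))) (mem_zpowers _)⟩
  have p : ∀ n, g ^ n * (u ^ n)⁻¹ ∈ O2 K := fun n => by
    induction n with
    | zero => simp
    | succ n ih =>
      rw [show g ^ (n + 1) * (u ^ (n + 1))⁻¹ = g * (g ^ n * (u ^ n)⁻¹) * g⁻¹ * (g * u⁻¹) by
        rw [pow_succ' g, pow_succ' u]; group]
      exact mul_mem (mem_normalizer_conj (nQ hg) ih) e
  obtain ⟨j, hj⟩ := q2 ⟨_, inv_mem_iff.1 ((mul_mem_cancel_left c').1 (p _))⟩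
  have := orderOf_dvd_of_pow_eq_one ((pow_mul u _ _).trans (congrArg Subtype.val hj))
  rw [ou, ← pow_add] at this
  exact absurd (Nat.Prime.dvd_of_dvd_pow Nat.prime_three this) (by decide)

omit [Finite G] in
theorem gu (hv : v ∈ Om T) (ou : orderOf u = 3) (e : v * u * v⁻¹ * u ∈ O2 K) : v * (u * v * u⁻¹) * u⁻¹ ∈ O2 K := by
  have u3 : u⁻¹ = u * u := inv_eq_of_mul_eq_one_left ((pow_three' u).symm.trans (ou ▸ pow_orderOf_eq_one u))
  rwa [inv_eq_of_sq (mem_Om.1 hv).2.2, show v * u * v * u = v * (u * v * u⁻¹) * (u * u) by group, ← u3] at e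

theorem core (hD10 : StD10.{u}) (hA : SA M T S π x) (hB : SB M T S x) (hK : KK M S K x) (hv : v ∈ Om T)
    (i2 : (O2 K).relIndex (Om T) = 2) (hu : u ∈ K) (ou : orderOf u = 3) (e1 : v * u * v⁻¹ * u ∈ O2 K)
    (e2 : x * u * x⁻¹ * u⁻¹ ∈ O2 K) : Nat.card (Om T) = 16 ∧ (∃ a ∈ S, a ∉ T ∧ ∀ d ∈ T ⊓ O2 K, ⁅d, a⁆ ∈ Om T) ∧
      Nat.card (Om T ⊓ O2 K ⊔ cj u (Om T ⊓ O2 K) : Subgroup G) = 32 := by
  have nV := hB.nT.trans ns_Om
  have VT : Om T ≤ T := fun _ l => (mem_Om.1 l).1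
  have n0 : ∀ g ∈ M, g ∈ K → g ∈ Ns (Om T ⊓ O2 K) := fun g h1 h2 => mem_Ns_inf (nV h1) (nQ h2)
  have q0 : O2 K ≤ Ns (Om T ⊓ O2 K) := fun g hg => n0 g (hB.syl.le (hK.leQ hg)) (hK.le (hK.leQ hg))
  have uQ := cj_eq_of_mem_normalizer (nQ hu)
  have q1 : O2 K ≤ Ns (cj u (Om T ⊓ O2 K)) := uQ.ge.trans ((cj_mono u q0).trans (cj_Ns ..).le)
  have l1 : cj u (Om T ⊓ O2 K) ≤ O2 K := (cj_mono u inf_le_right).trans uQ.le
  have i0 : (Om T ⊓ O2 K).relIndex (Om T) = 2 := by rwa [inf_relIndex_left]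
  have f0 : ∀ a ∈ S, a ∉ T → ¬ ∀ d ∈ Om T ⊓ O2 K, d * a = a * d := fun a ha n l => by
    have := (fv hD10 hA hB inf_le_left ha n l).1; omega
  have e3 := gu hv ou e1
  have vK := hK.le (hB.le (VT hv))
  have gK := mul_mem vK (mul_mem (mul_mem hu vK) (inv_mem hu))
  have un : ∀ X : Subgroup G, O2 K ≤ Ns X → v * (u * v * u⁻¹) ∈ Ns X → u ∈ Ns X := fun X h1 h2 =>
    inv_mem_iff.1 ((mul_mem_cancel_left h2).1 (h1 e3))
  obtain ⟨a, ha, n⟩ : ∃ a ∈ cj u (Om T ⊓ O2 K), a ∉ T := SetLike.not_le_iff_exists.1 fun l => by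
    have c : v * (u * v * u⁻¹) ∈ Cs (cj u (Om T ⊓ O2 K)) := mul_mem (Cs_anti l (mem_Om.1 hv).2.1)
      ((cj_Cs ..).le (conj_mem_cj.2 (Cs_anti (inf_le_left.trans VT) (mem_Om.1 hv).2.1)))
    have e := cj_eq_of_mem_normalizer (un _ q1 (Cs_le_Ns c))
    rw [cj_inj] at e
    rw [e] at c
    have dT : ⁅O2 K, zpowers (v * (u * v * u⁻¹))⁆ ≤ T := fun d hd => by_contra fun n =>
      f0 d (hK.leQ (commutator_le_left_of_le ((zpowers_le.2 gK).trans nQ) hd)) n (mem_Cs.1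
        (commutator_le_right_of_le (le_Ns_Cs q0) (commutator_mono le_rfl (zpowers_le.2 c) hd)))
    have c' := Cs_anti dT (mem_Om.1 hv).2.1
    exact odd3 hK gK ou e3 (commutator_eq_bot_iff_le_centralizer.2 (le_Cs_comm.1 (zpowers_le.2 (mul_mem c'
      (mem_normalizer_conj (mem_Ns_Cs (un _ left_le_Ns_commutator (right_le_Ns_commutator (mem_zpowers _)))) c'))))).le
  have aS := hK.leQ (l1 ha)
  have s : cj u (Om T ⊓ O2 K) ⊔ T = S := (hB.inv _ (l1.trans hK.leQ) (mem_Ns_iff.2 (by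
    rw [cj_cj, show x * u = x * u * x⁻¹ * u⁻¹ * (u * x) by group, cj_mul _ (u * x), cj_mul u x,
      cj_eq_of_mem_normalizer (n0 x hA.xM hK.xK), cj_eq_of_mem_normalizer (q1 e2)]))).resolve_left fun l => n (l ha)
  have c16 := (fv (D := Om T ⊓ O2 K ⊓ cj u T) hD10 hA hB (inf_le_left.trans inf_le_left) aS n fun d hd =>
    mem_Cs.1 ((cj_Cs ..).le (cj_mono u (T := Om T ⊓ O2 K) (fun _ l => (mem_Om.1 l.1).2.1) ha)) d hd.2).2 (by
      have := relIndex_le_of_le_right (H := cj u T) (inf_le_right.trans (uQ.ge.trans (cj_mono u hK.leQ)) :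
        Om T ⊓ O2 K ≤ cj u S) (by rw [relIndex_cj, hB.idx]; decide)
      rw [← relIndex_mul_relIndex _ _ _ inf_le_left inf_le_left, i0, inf_relIndex_left]
      rw [relIndex_cj, hB.idx] at this
      omega)
  have c8 := card_mul_relIndex (inf_le_left : Om T ⊓ O2 K ≤ Om T)
  have c2 := card_mul_relIndex (inf_le_left : cj u (Om T ⊓ O2 K) ⊓ T ≤ _)
  rw [inf_relIndex_left, ← Solv.PG.relIndex_sup_of_le_normalizer ((l1.trans hK.leQ).trans (hB.syl.le.trans hB.nT)),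
    sup_comm, s, hB.idx, card_cj] at c2
  have e4 : Om T ⊓ O2 K ⊓ cj u (Om T ⊓ O2 K) = cj u (Om T ⊓ O2 K) ⊓ T := eq_of_le_of_card_ge
    (le_inf inf_le_right (inf_le_left.trans (inf_le_left.trans VT))) (by
      have := (one_lt_card_iff_ne_bot _).2 fun l : Om T ⊓ O2 K ⊓ cj u (Om T ⊓ O2 K) = ⊥ => f0 a aS n fun d hd =>
        commutatorElement_eq_one_iff_mul_comm.1 (mem_bot.1 (l.le
          ⟨commutator_le_left_of_le (l1.trans q0) (commutator_mem_commutator hd ha),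
            commutator_le_right_of_le (inf_le_right.trans q1) (commutator_mem_commutator hd ha)⟩))
      rw [i0, c16] at c8; omega)
  refine ⟨c16, ⟨a, aS, n, fun d hd => (e4.ge ⟨commutator_le_right_of_le q1 (commutator_mem_commutator hd.2 ha),
    commutator_le_left_of_le (hB.syl.le.trans hB.nT) (commutator_mem_commutator hd.1 aS)⟩).1.1⟩, ?_⟩
  have c4 := card_mul_relIndex (inf_le_right : Om T ⊓ O2 K ⊓ cj u (Om T ⊓ O2 K) ≤ _)
  rw [inf_relIndex_right, e4, card_cj] at c4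
  rw [← card_mul_relIndex le_sup_left, Solv.PG.relIndex_sup_of_le_normalizer (l1.trans q0)]
  rw [i0, c16] at c8
  rw [show Nat.card (cj u (Om T ⊓ O2 K) ⊓ T : Subgroup G) = 2 by omega] at c4
  rw [show Nat.card (Om T ⊓ O2 K : Subgroup G) = 8 by omega] at c4 ⊢
  omega

theorem small (hD10 : StD10.{u}) (hA : SA M T S π x) (hB : SB M T S x) (h : T ≤ Om T) (c : Nat.card (Om T) = 16) :
    SR4 S := by_contra fun n => by
  have e : Om T = T := le_antisymm (fun _ l => (mem_Om.1 l).1) h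
  have c64 := card_mul_relIndex hB.le
  rw [e] at c
  rw [c, hB.idx] at c64
  obtain ⟨H, N, h1, h2, -, h3⟩ := A10S.Red.exists_sec (by rw [← c64]; decide) n
  have := Nat.card_pos (α := N)
  obtain ⟨a, ha, n⟩ : ∃ a ∈ H, a ∉ T := SetLike.not_le_iff_exists.1 fun l => by
    have := Trans.card_le_of_le l; omega
  have k1 := (fv (D := Om T ⊓ H ⊓ C1 a) hD10 hA hB (inf_le_left.trans inf_le_left) (h1 ha) n
    fun d hd => mem_C1.1 hd.2).1
  have k2 := P8.Bas1H.cidx (D := Om T ⊓ H) fun d hd => h3 d hd.2 a ha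
  have k3 := relIndex_le_of_le_right (H := H) (e.le.trans hB.le) r0
  have k4 := card_mul_relIndex h1
  rw [← relIndex_mul_relIndex _ _ _ inf_le_left inf_le_left, inf_relIndex_left, inf_relIndex_left] at k1
  nlinarith [Nat.mul_le_mul k2 k3, Nat.mul_le_mul_right (H.relIndex S) h2]

theorem pick (hK : KK M S K x) (ox : orderOf x = 3) (z : TQ S K x a b) (hv : v ∈ S) (n : v ∉ O2 K) (v2 : v * v = 1) :
    ∃ e f, TQ S K x e f ∧ v * e * v⁻¹ * e ∈ O2 K ∧ x * e * x⁻¹ * e⁻¹ ∈ O2 K := by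
  have : Fact (Nat.Prime 3) := ⟨Nat.prime_three⟩
  have h9 := FQ8.n9_of z.e9
  have EK : closure {a, b} ≤ K := (closure_le _).2 (by rintro _ (rfl | rfl); exacts [z.aK, z.bK])
  have dec : ∀ {g}, g ∈ closure {a, b} ⊔ O2 K → ∃ q ∈ O2 K, ∃ e ∈ closure ({a, b} : Set G), q * e = g := fun hg =>
    Solv.exists_mul_of_mem_sup_of_le_normalizer (EK.trans nQ) (by rwa [sup_comm])
  have x3 : IsPGroup 3 (zpowers x) := .of_card (n := 1) ((Nat.card_zpowers x).trans ox)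
  obtain ⟨P, hP, xP⟩ := exists_isSylowIn_ge x3 (zpowers_le.2 hK.xK)
  have hP' := hP.inf_normal_of_le z.nor (sup_le EK (P8.pf_BasJ.o2 K).1)
  have c9 := hP'.card_le (.of_card (n := 2) h9.card) le_sup_left
  obtain ⟨⟨d, hd, d1⟩, d2⟩ := ne_bot_iff_exists_ne_one.1 (Solv.PG.inf_centralizer_ne_bot x3 hP'.isPGroup
    (zpowers_le.2 (mem_Ns_inf (le_normalizer (xP (mem_zpowers x))) (z.nor hK.xK)))
    ((one_lt_card_iff_ne_bot _).1 (by rw [h9.card] at c9; omega)))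
  obtain ⟨q, hq, e, he, rfl⟩ := dec hd.2
  have e1 : e ≠ 1 := fun l => d2 (Subtype.ext (mem_bot.1 ((IsPGroup.disjoint_of_ne 3 2 (by decide) _ _ hP.isPGroup
    (P8.pf_BasJ.o2 K).2.1).le_bot ⟨hd.1, show q * e ∈ O2 K by rwa [l, mul_one]⟩)))
  obtain ⟨f, hf, f1⟩ := h9.exists_out he
  have e9 : E9 e f := ⟨orderOf_eq_prime (h9.cube e he) e1, orderOf_eq_prime (h9.cube f hf) (h9.ne_one f1),
    h9.comm e he f hf, f1⟩
  have eq : closure {e, f} = closure ({a, b} : Set G) := eq_of_le_of_card_ge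
    ((closure_le _).2 (by rintro _ (rfl | rfl); exacts [he, hf])) (by rw [h9.card, (FQ8.n9_of e9).card])
  refine ⟨e, f, ⟨EK he, EK hf, e9, by rw [eq]; exact z.nor, z.q8, z.xn, by rw [eq]; exact z.fr,
    by rw [eq]; exact z.gen⟩, ?_, ?_⟩
  · obtain ⟨r, hr, g, hg, l⟩ := dec (mem_normalizer_conj (z.nor (hK.le hv)) (mem_sup_left he))
    have vi := inv_eq_of_sq v2
    have := z.fr v hv n _ (mul_mem hg he) (by
      have k : v * g * v⁻¹ = v * r⁻¹ * v⁻¹ * e := by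
        rw [eq_inv_mul_of_mul_eq l, vi]; simp only [mul_assoc]; rw [v2, mul_one]
      rw [commutatorElement_def, ← conj_mul, k, ← l, h9.comm g hg e he, show v * r⁻¹ * v⁻¹ * e * (r * g) * (e * g)⁻¹ =
        v * r⁻¹ * v⁻¹ * (e * r * e⁻¹) by group]
      exact mul_mem (mem_normalizer_conj (nQ (hK.le hv)) (inv_mem hr)) (mem_normalizer_conj (nQ (EK he)) hr))
    rwa [← l, mul_assoc, this, mul_one]
  · have k : x * (q * e) = q * e * x := d1 x (mem_zpowers x)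
    rw [show x * e * x⁻¹ * e⁻¹ = x * q⁻¹ * x⁻¹ * (x * (q * e) * x⁻¹ * e⁻¹) by group, k,
      show q * e * x * x⁻¹ * e⁻¹ = q by group]
    exact mul_mem (mem_normalizer_conj (nQ hK.xK) (inv_mem hq)) hq

end KB1

open KB1 KU KZb in
theorem kb1 (hD10 : StD10.{u}) (hFQ8 : StFQ8.{u}) : StKB1.{u} := by
  intro G _ _ M T S K π x hA hB hK hZ hV
  obtain ⟨v, hv, n⟩ := SetLike.not_le_iff_exists.1 hV
  have nV := hB.nT.trans ns_Om
  have VT : Om T ≤ T := fun _ l => (mem_Om.1 l).1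
  have vS := hB.le (VT hv)
  obtain ⟨u, z⟩ | ⟨a, b, z⟩ := hZ
  · obtain ⟨c, ⟨a, ha, n', k⟩, -⟩ := core hD10 hA hB hK hv (by
      have := relIndex_le_of_le_right (H := O2 K) (VT.trans hB.le) r0
      have := mt relIndex_eq_one.1 hV
      have := r0 (D := O2 K) (K := Om T)
      have := z.idx
      omega) z.uK z.ou (z.inv v vS n) (by rw [← z.ux]; simp)
    have := (fact hD10 hA hB VT le_rfl le_rfl nV hB.nT ha n' fun d hd => by
      by_cases e : d ∈ O2 K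
      · exact k d ⟨hd, e⟩
      have l := mul_mem hd (inv_mem (VT hv))
      rw [show ⁅d, a⁆ = d * v⁻¹ * ⁅v, a⁆ * (d * v⁻¹)⁻¹ * ⁅d * v⁻¹, a⁆ by simp only [commutatorElement_def]; group]
      exact mul_mem (mem_normalizer_conj (nV (hA.ty.le l)) (commutator_le_left_of_le (hB.syl.le.trans nV)
        (commutator_mem_commutator hv ha))) (k _ ⟨l, (two z.idx (hB.le hd) (inv_mem vS)).2
          (iff_of_false e fun l => n (inv_mem_iff.1 l))⟩)).2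
    have := r0 (D := Om T) (K := T)
    rw [relIndex_self] at *
    exact small hD10 hA hB (relIndex_eq_one.1 (by omega)) c
  obtain ⟨u, f, z, e1, e2⟩ := pick hK hA.ox z vS n (mem_Om.1 hv).2.2
  obtain ⟨φ, -, hφ⟩ := z.q8
  have k : ∀ s : S, s.1 ∈ O2 K ↔ φ s = 1 := fun s => by rw [← MonoidHom.mem_ker, hφ]; rfl
  have k2 : ∀ w (hw : w ∈ Om T), φ ⟨w, hB.le (VT hw)⟩ * φ ⟨w, hB.le (VT hw)⟩ = 1 := fun w hw => by
    rw [← map_mul, ← map_one φ]; exact congrArg φ (Subtype.ext (mem_Om.1 hw).2.2)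
  obtain ⟨-, -, c⟩ := core hD10 hA hB hK hv (index_eq_two_iff.2 ⟨⟨v, hv⟩, fun w => by
    have := (by decide : ∀ p r : QuaternionGroup 2, p * p = 1 → r * r = 1 → r ≠ 1 → p * r = 1 ∧ ¬ p = 1 ∨ p = 1 ∧ ¬ p * r = 1) _ _
      (k2 w.1 w.2) (k2 v hv) (mt (k ⟨v, vS⟩).2 n)
    rwa [← map_mul, ← k, ← k] at this⟩) z.aK z.e9.1 e1 e2
  have := P8.pf_Bas1.{u}
  have := P8.pf_Bas2.{u}
  have := P8.pf_BasJ.{u}
  have := P8.pf_PjB.{u, 0}
  have q2 := (P8.pf_BasJ.o2 K).2.1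
  have s := P8.pf_Brg.{u, 0}.phi q2 (nQ (K := K))
  have l1 : cj u (Om T ⊓ O2 K) ≤ O2 K := (cj_mono u inf_le_right).trans (cj_eq_of_mem_normalizer (nQ z.aK)).le
  have lQ := sup_le s.le (sup_le (inf_le_right : Om T ⊓ O2 K ≤ _) l1)
  have p : ∀ g g', (∀ q ∈ O2 K, ⁅q, g⁆ ∈ Phi (O2 K) ⊔ (Om T ⊓ O2 K ⊔ cj u (Om T ⊓ O2 K))) →
      (∀ q ∈ O2 K, ⁅q, g'⁆ ∈ Phi (O2 K) ⊔ (Om T ⊓ O2 K ⊔ cj u (Om T ⊓ O2 K))) →
      ∀ q ∈ O2 K, ⁅q, g * g'⁆ ∈ Phi (O2 K) ⊔ (Om T ⊓ O2 K ⊔ cj u (Om T ⊓ O2 K)) := fun g g' h h' q hq => by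
    rw [show ⁅q, g * g'⁆ = ⁅q, g⁆ * (⁅⁅q, g'⁆, g⁆⁻¹ * ⁅q, g'⁆) by simp only [commutatorElement_def]; group]
    exact mul_mem (h q hq) (mul_mem (inv_mem (h _ (lQ (h' q hq)))) (h' q hq))
  have p0 : ∀ q ∈ O2 K, ⁅q, v⁆ ∈ Om T ⊓ O2 K := fun q hq =>
    ⟨commutator_le_right_of_le (hK.leQ.trans (hB.syl.le.trans nV)) (commutator_mem_commutator hq hv),
      commutator_le_left_of_le (hK.le.trans nQ) (commutator_mem_commutator hq vS)⟩
  have pu := p _ _ (fun q hq => mem_sup_left (s.cen (commutator_mem_commutator hq (inv_mem (gu hv z.e9.1 e1)))))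
    (p v (u * v * u⁻¹) (fun q hq => mem_sup_right (mem_sup_left (p0 q hq))) fun q hq => by
      rw [show ⁅q, u * v * u⁻¹⁆ = u * ⁅u⁻¹ * q * u, v⁆ * u⁻¹ by simp only [commutatorElement_def]; group]
      exact mem_sup_right (mem_sup_right (conj_mem_cj.2 (p0 _ (mem_normalizer_conj' (nQ z.aK) hq)))))
  rw [show (v * (u * v * u⁻¹) * u⁻¹)⁻¹ * (v * (u * v * u⁻¹)) = u by group] at pu
  have k3 := (hFQ8 G S K _ _ x u f hK.le hK.leQ hB.syl.isPGroup z s fun l => odd3 hK z.aK z.e9.1 (by simp) (by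
    rw [commutator_eq_bot_iff_le_centralizer.2 (le_Cs_comm.1 (Solv.Coprime.le_centralizer_of_commutator_le_frattini
      (zpowers_le.2 (nQ z.aK)) ((P8.Bas2H.cp q2 (by rw [z.e9.1]; decide)).coprime_dvd_right
        (card_subgroup_dvd_card _))
      ((commutator_mono le_rfl (zpowers_le.2 (subset_closure (by simp)))).trans l))), commutator_bot_left])).1
  have k4 := relIndex_le_of_le_right (H := Phi (O2 K)) (sup_le (commutator_le.2 fun q hq g hg => by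
    obtain rfl | rfl | rfl := (FQ8.mem_zp (z.e9.1 ▸ pow_orderOf_eq_one u)).1 hg
    exacts [by simp, pu q hq, p _ _ pu pu q hq]) le_sup_left : ⁅O2 K, zpowers u⁆ ⊔ Phi (O2 K) ≤ _)
    r0
  rw [Solv.PG.relIndex_sup_of_le_normalizer ((sup_le inf_le_right l1).trans ((hK.leQ.trans hK.le).trans s.n1))] at k4
  have k5 := Nat.le_of_dvd Nat.card_pos (relIndex_dvd_card (Phi (O2 K)) (Om T ⊓ O2 K ⊔ cj u (Om T ⊓ O2 K)))
  omega

end Cfsg.Lib.K35
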