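import Cfsg.Agent.K35.Loc
import Cfsg.Agent.P8.Bas1

/-! The conjugates of `Ω₁(Z(T))` under the second member of the amalgam commute. -/

set_option autoImplicit false

namespace Cfsg.Lib.K35

open Cfsg Subgroup Cfsg.Lib.Trans Cfsg.Lib.Gold
open Cfsg.Lib.P8 (A5 A6 S5 O2 Om Jt Phi EA SR4 Ch E9 Pj Ty Sec SecOK Mx)
open scoped commutatorElement

universe u

namespace KB2

variable {G : Type u} [Group G] [Finite G] {M T S : Subgroup G} {π : G → A5} {x : G}

theorem fact (hD10 : StD10.{u}) (sa : SA M T S π x) (sb : SB M T S x) {U₁ U₂ D : Subgroup G}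
    (h1 : U₁ ≤ D) (h2 : D ≤ U₂) (h3 : U₂ ≤ T) (n1 : M ≤ Ns U₁) (n2 : M ≤ Ns U₂) {a : G}
    (ha : a ∈ S) (na : a ∉ T) (hc : ∀ d ∈ D, ⁅d, a⁆ ∈ U₁) :
    (∃ k, U₁.relIndex U₂ = 16 ^ k) ∧ (U₁.relIndex U₂ = 16 → ⁅U₂, U₂⁆ ≤ U₁) ∧
      U₁.relIndex U₂ ≤ D.relIndex U₂ ^ 2 := by
  obtain ⟨m, hm, y, hy, o⟩ := sb.d10 a ha na
  have aM := sb.syl.1 ha
  have yM : y ∈ M := (closure_le M).2 (by
    rintro _ (rfl | rfl)
    exacts [aM, mul_mem (mul_mem hm aM) (inv_mem hm)]) hy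
  obtain ⟨k1, k2, k3⟩ := hD10 G M U₁ U₂ y (sa.ty.two.to_le h3) (h1.trans h2) (h3.trans sa.ty.le)
    n1 n2 yM o (eq_bot_iff.2 ((inf_le_inf_right _ h3).trans (sa.fp y yM o).le))
  refine ⟨k1, k2, k3 2 a ![1, m] aM (fun i => ?_) (closure_mono ?_ hy) D h1 h2 hc⟩
  · fin_cases i
    exacts [one_mem _, hm]
  · rintro _ (rfl | rfl)
    exacts [⟨0, by simp⟩, ⟨1, rfl⟩]

theorem pow16 {k n : ℕ} (h : 16 ^ k ≤ n) (h1 : n < 256) : k = 0 ∨ k = 1 := by
  by_contra hk
  have := Nat.pow_le_pow_right (by decide : 0 < 16) (show 2 ≤ k by omega)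
  omega

theorem four {n : ℕ} (h : 16 ≤ n ^ 2) : 4 ≤ n := by nlinarith

end KB2

open KB2

theorem kb2 (hD10 : StD10.{u}) : StKB2.{u} := by
  intro G _ _ M T S K π x sa sb kk tzq hV k hk
  by_contra hn
  obtain ⟨-, -, -, -, ok⟩ := sb.wb
  have VT : Om T ≤ T := ok.leQ
  have nV : M ≤ Ns (Om T) := ok.n2
  have TC : T ≤ Cs (Om T) := sb.cV.ge.trans inf_le_right
  have neV := sb.neV
  generalize Om T = V at *
  have SM := sb.syl.1
  have nQ : K ≤ Ns (O2 K) := Local.le_normalizer_pCoreOf K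
  have QS := kk.leQ
  have cQ : ∀ q ∈ O2 K, k⁻¹ * q * k ∈ S := fun q hq => QS (mem_normalizer_conj' (nQ hk) hq)
  have V1Q : cj k V ≤ O2 K := cj_le_iff.2 fun v hv => mem_normalizer_conj (nQ hk) (hV hv)
  have nV1 : O2 K ≤ Ns (cj k V) := fun q hq => by
    rw [Ns, ← cj_normalizer, mem_cj]; exact nV (SM (cQ q hq))
  obtain ⟨a, ha, na⟩ := SetLike.not_le_iff_exists.1 fun h : cj k V ≤ T => hn (h.trans TC)
  have aS := QS (V1Q ha)
  have nb : M ≤ Ns (⊥ : Subgroup G) := le_normalizer_of_normal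
  have f0 := fun D (h2 : D ≤ V) b hb nb' hc =>
    fact hD10 sa sb (D := D) bot_le h2 VT nb nV (a := b) hb nb' hc
  simp only [relIndex_bot_left] at f0
  have cV : Nat.card V = 16 := by
    obtain ⟨⟨j, hj⟩, -, h3⟩ := f0 (cj k T ⊓ V) inf_le_right a aS na fun d hd => by
      have := mem_centralizer_iff.1 (TC (mem_cj.1 hd.1)) _ (mem_cj.1 ha)
      rw [mem_bot, commutatorElement_eq_one_iff_mul_comm,
        show d * a = k * (k⁻¹ * d * k * (k⁻¹ * a * k)) * k⁻¹ by group, ← this]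
      group
    have h4 : (cj k T).relIndex V ≤ 4 := by
      rw [← sb.idx, ← relIndex_cj k T S]
      exact relIndex_le_of_le_right (fun v hv => mem_cj.2 (cQ v (hV hv)))
        (by rw [relIndex_cj, sb.idx]; decide)
    rw [inf_relIndex_right] at h3
    have h5 := Nat.pow_le_pow_left h4 2
    rcases pow16 (hj ▸ h3.trans h5) (by decide) with rfl | rfl
    · exact absurd (card_eq_one.1 hj) neV
    · exact hj
  have i4 : T.relIndex (cj k V) = 4 := by
    refine le_antisymm (sb.idx ▸ relIndex_le_of_le_right (V1Q.trans QS) (by rw [sb.idx]; decide)) ?_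
    obtain ⟨b, hb, nb'⟩ := SetLike.not_le_iff_exists.1 fun h : V ≤ cj k T => hn fun v hv =>
      mem_centralizer_iff.2 fun w hw => by
        have := mem_centralizer_iff.1 (TC (mem_cj.1 (h hw))) _ (mem_cj.1 hv)
        rw [show w * v = k * (k⁻¹ * w * k * (k⁻¹ * v * k)) * k⁻¹ by group, ← this]
        group
    have h3 := (f0 (cj k⁻¹ T ⊓ V) inf_le_right _ (cQ b (hV hb)) (fun h => nb' (mem_cj.2 h))
      fun d hd => by
        have := mem_centralizer_iff.1 (TC (mem_cj_inv.1 hd.1)) _ hb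
        rw [mem_bot, commutatorElement_eq_one_iff_mul_comm,
          show d * (k⁻¹ * b * k) = k⁻¹ * (k * d * k⁻¹ * b) * k by group, ← this]
        group).2.2
    rw [inf_relIndex_right, ← relIndex_cj k, cj_cj, mul_inv_cancel, cj_one, cV] at h3
    exact four h3
  have sup : S ≤ cj k V ⊔ T := by
    have e := relIndex_mul_relIndex T (cj k V ⊔ T) S le_sup_right (sup_le (V1Q.trans QS) sb.le)
    have e2 : T.relIndex (cj k V) ≤ T.relIndex (cj k V ⊔ T) :=
      relIndex_le_of_le_right le_sup_left fun h => by rw [h, sb.idx] at e; omega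
    rw [sb.idx] at e
    rw [i4] at e2
    refine relIndex_eq_one.1 ?_
    have : (cj k V ⊔ T).relIndex S ≠ 0 := fun h => by rw [h] at e; omega
    nlinarith [Nat.pos_of_ne_zero this]
  have c4 : Nat.card ↥(T ⊓ cj k V) = 4 := by
    have e := card_mul_relIndex (inf_le_right : T ⊓ cj k V ≤ cj k V)
    rw [inf_relIndex_right, i4, card_cj, cV] at e
    omega
  have cm : ∀ U : Subgroup G, M ≤ Ns U → ∀ d ∈ U ⊓ O2 K, ⁅d, a⁆ ∈ U ⊓ cj k V := fun U hU d hd =>
    mem_inf.2 ⟨by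
      have := U.mul_mem (mem_inf.1 hd).1 (mem_normalizer_conj (hU (SM aS)) (U.inv_mem (mem_inf.1 hd).1))
      simpa only [commutatorElement_def, mul_assoc] using this,
      (cj k V).mul_mem (mem_normalizer_conj (nV1 (mem_inf.1 hd).2) ha) ((cj k V).inv_mem ha)⟩
  have TV : T ⊓ cj k V ≤ V := by
    have h3 := (f0 (C1 a ⊓ V) inf_le_right a aS na fun d hd =>
      commutatorElement_eq_one_iff_mul_comm.2 (mem_C1.1 hd.1)).2.2
    rw [inf_relIndex_right, cV] at h3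
    have h4 := P8.Bas1H.cidx fun d (hd : d ∈ V) => cm V nV d ⟨hd, hV hd⟩
    exact (eq_of_le_of_card_ge (inf_le_inf_right _ VT) (c4 ▸ (four h3).trans h4)).ge.trans
      inf_le_left
  obtain ⟨⟨j, hj⟩, h2, h3⟩ := fact hD10 sa sb (D := T ⊓ O2 K) (le_inf VT hV) inf_le_left le_rfl nV
    sb.nT aS na fun d hd => TV (cm T sb.nT d hd)
  rw [inf_relIndex_left] at h3
  have h4 : ∀ n, (O2 K).relIndex S = n → n ≠ 0 → V.relIndex T ≤ n ^ 2 := fun n e n0 =>
    h3.trans (Nat.pow_le_pow_left (e ▸ relIndex_le_of_le_right sb.le (e ▸ n0)) 2)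
  rcases tzq with ⟨u, tz⟩ | ⟨a', b', tq⟩
  · have h5 := h4 2 tz.idx (by decide)
    rcases pow16 (hj ▸ h5) (by decide) with rfl | rfl
    · have := relIndex_eq_one.2 (sup.trans (sup_le V1Q ((relIndex_eq_one.1 hj).trans hV)))
      rw [tz.idx] at this
      omega
    · omega
  · obtain ⟨f, hf, kf⟩ := tq.q8
    have h5 := h4 8 (by
      rw [relIndex, ← kf, index_ker, MonoidHom.range_eq_top.2 hf, card_top, Nat.card_eq_fintype_card,
        QuaternionGroup.card]) (by decide)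
    have h6 : ⁅T, T⁆ ≤ V := by
      rcases pow16 (hj ▸ h5) (by decide) with rfl | rfl
      · exact (commutator_le.2 fun a ha b hb =>
          mul_mem (mul_mem (mul_mem ha hb) (inv_mem ha)) (inv_mem hb)).trans (relIndex_eq_one.1 hj)
      · exact h2 hj
    have k1 : ∀ q : S, (q : G) ∈ O2 K → f q = 1 := fun q hq => by
      rw [← MonoidHom.mem_ker, kf]; exact hq
    have sur : ∀ y, ∃ t : S, (t : G) ∈ T ∧ f t = y := fun y => by
      obtain ⟨s, rfl⟩ := hf y
      obtain ⟨v, hv, t, ht, e⟩ := (coe_mul_of_left_le_normalizer_right _ T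
        ((V1Q.trans QS).trans (SM.trans sb.nT))).le (sup s.2)
      refine ⟨⟨t, sb.le ht⟩, ht, ?_⟩
      rw [show s = ⟨v, QS (V1Q hv)⟩ * ⟨t, sb.le ht⟩ from Subtype.ext e.symm, map_mul,
        k1 ⟨v, QS (V1Q hv)⟩ (V1Q hv), one_mul]
    obtain ⟨t, ht, e⟩ := sur (.a 1)
    obtain ⟨t', ht', e'⟩ := sur (.xa 0)
    have := k1 ⁅t, t'⁆ (hV (h6 (commutator_mem_commutator ht ht')))
    rw [map_commutatorElement, e, e'] at this
    exact absurd this (by decide)

end Cfsg.Lib.K35
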