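import Cfsg.Agent.K35.B6e
import Cfsg.Agent.K35.KC0a

/-! The image of the conjugate `V ^ g` in `S₆`. -/

set_option autoImplicit false

namespace Cfsg.Lib.K35

open Cfsg Subgroup Cfsg.Lib.Trans Cfsg.Lib.Gold Equiv Equiv.Perm
open Cfsg.Lib.P8 (A5 A6 S5 O2 Om Jt Phi EA SR4 Ch E9 Pj Ty Sec SecOK Mx)
open scoped commutatorElement

universe u

namespace KC0

open KCk

variable {G : Type u} [Group G] {M V S₀ : Subgroup G} {π : G → S6} {e : Fin 6 → Fin 6 → G} {g : G}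

theorem rl (h : EG M V π e) (τ : S6) :
    EG M V (fun g => τ⁻¹ * π g * τ) fun i j => e (τ i) (τ j) :=
  ⟨B6e.tw h.p6 (MulAut.conj τ).symm fun y => by simp [mul_right_comm],
    ⟨fun _ _ _ => h.cd.tri _ _ _, fun _ => h.cd.dia _, fun _ _ => h.cd.sym _ _,
      by rw [mul_eq h (rel τ), sq h (mem h _ _)], fun k hk i j => by simp [h.cd.eqv k hk],
      fun v => ⟨fun hv => by
        obtain ⟨i, j, rfl⟩ := (h.cd.mem v).1 hv
        exact ⟨τ.symm i, τ.symm j, by simp⟩, fun ⟨i, j, E⟩ => E ▸ mem h _ _⟩,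
      fun i j k l n E => by simpa using h.cd.inj _ _ _ _ (τ.injective.ne n) E⟩,
    h.ea, h.card, h.nor, h.c2⟩

variable [Finite G]

theorem cm (h : EG M V π e) (hg : Gg M S₀ g) {a : G} (ha : a ∈ cj g V) {i j p q : Fin 6}
    (r : R i j (π a i) (π a j) p q) : e p q ∈ cj g V := by
  rw [← mul_eq h r, ← comm_eq h (W_leM h hg ha)]
  exact mul_mem (mem_normalizer_conj (nor_W h hg (V_le h hg (mem h i j))) ha) (inv_mem ha)

theorem big (h : EG M V π e) (hg : Gg M S₀ g) {a : G} (ha : a ∈ cj g V)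
    (h1 : π a ∈ [swap (0 : Fin 6) 1 * swap 2 3, swap 0 1 * swap 2 3 * swap 4 5]) :
    ∃ τ : S6, ∃ l ∈ [[(1 : S6), swap 0 1, swap 2 3, swap 0 1 * swap 2 3],
        [1, swap 4 5, swap 0 1 * swap 2 3, swap 0 1 * swap 2 3 * swap 4 5],
        [1, swap 0 1 * swap 2 3, swap 0 1 * swap 4 5, swap 2 3 * swap 4 5]],
      Im (fun g => τ⁻¹ * π g * τ) (cj g V) l := by
  obtain ⟨f1, f2, ⟨i, f3⟩, j, f4⟩ := fx _ h1
  obtain ⟨B, hB, cB⟩ := B6e.im h.p6 (W_leM h hg)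
  have k2 := cm h hg ha f2
  have k3 := cm h hg ha f3
  have k4 := cm h hg ha f4
  have c := (V.subgroupOf (cj g V)).card_mul_index
  rw [← inf_subgroupOf_right, Nat.card_congr (subgroupOfEquivOfLe inf_le_right).toEquiv,
    inf_subgroupOf_right, card_cj, h.card, ← relIndex, ← cB] at c
  have c1 : Nat.card (V ⊓ cj g V :) ≤ 4 := by
    refine le_trans (Set.ncard_le_ncard (s := (V ⊓ cj g V :)) (t := {e 0 0, e 0 1, e 2 3, e 4 5})
      fun v hv => ?_) ((Set.ncard_insert_le _ _).trans (Nat.succ_le_succ ((Set.ncard_insert_le _ _).trans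
        (Nat.succ_le_succ ((Set.ncard_insert_le _ _).trans (by simp))))))
    obtain ⟨k, l, rfl⟩ := (h.cd.mem v).1 hv.1
    simpa only [Set.mem_insert_iff, Set.mem_singleton_iff, eq_iff h] using
      f1 k l ((comm_iff h (W_leM h hg ha)).1 (commW h ha hv.2))
  have c2 : 2 < Nat.card (V ⊓ cj g V :) :=
    (Set.two_lt_ncard_iff (s := ((V ⊓ cj g V : Subgroup G) : Set G))).2 ⟨e 4 5, e 0 1, e 2 3,
      ⟨mem h _ _, k2⟩, ⟨mem h _ _, k3⟩, ⟨mem h _ _, k4⟩, by simp only [Ne, eq_iff h]; decide⟩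
  have c4 : (B : Set S6).ncard = 4 := by
    change Nat.card B = 4
    generalize Nat.card (V ⊓ cj g V :) = n at c c1 c2
    interval_cases n <;> omega
  obtain ⟨_, hb, n⟩ := Set.exists_mem_notMem_of_ncard_lt_ncard (s := {1, π a}) (t := (B : Set S6))
    (c4 ▸ (Set.ncard_insert_le _ _).trans_lt (by simp))
  obtain ⟨b, hb', rfl⟩ := (hB _).1 hb
  have d : ∀ {p q}, e p q ∈ cj g V → D (π b p) (π b q) p q := fun k =>
    (comm_iff h (W_leM h hg hb')).1 (commW h hb' k)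
  obtain ⟨c5, τ, -, l, hl, l1, l2⟩ := four _ h1 _ (d k3) (d k4) (d k2) (fun k => n (.inl k))
    fun k => n (.inr k)
  have aB := (hB _).2 ⟨a, ha, rfl⟩
  have E : (([1, π a, π b, π a * π b].toFinset : Finset S6) : Set S6) = B :=
    Set.eq_of_subset_of_ncard_le (fun y hy => by
      simp only [List.coe_toFinset, List.mem_cons, List.not_mem_nil, or_false, Set.mem_ofPred_eq] at hy
      rcases hy with rfl | rfl | rfl | rfl
      exacts [one_mem B, aB, hb, mul_mem aB hb]) (by rw [c4, Set.ncard_coe_finset, c5])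
  have E' : ∀ y, y ∈ [1, π a, π b, π a * π b] ↔ ∃ v ∈ cj g V, π v = y := fun y => by
    rw [← hB, ← SetLike.mem_coe, ← E, Finset.mem_coe, List.mem_toFinset]
  refine ⟨τ, l, hl, fun σ => ⟨fun ⟨v, hv, k⟩ => k ▸ l2 _ ((E' _).2 ⟨v, hv, rfl⟩), fun k => ?_⟩⟩
  obtain ⟨v, hv, k⟩ := (E' _).1 (l1 σ k)
  exact ⟨v, hv, by simp only [k]; group⟩

end KC0

open KC0 KCk in
theorem kc0 : StKC0.{u} := by
  intro G _ _ M V S₀ π e g h hg
  have WM := W_leM h hg
  have sq : ∀ a ∈ cj g V, π a * π a = 1 := fun a ha => by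
    rw [← h.p6.mul _ (WM ha) _ (WM ha), sqW h ha, pi_one h]
  by_cases k : ∃ a ∈ cj g V, ∃ τ : S6,
      τ⁻¹ * π a * τ ∈ [swap (0 : Fin 6) 1 * swap 2 3, swap 0 1 * swap 2 3 * swap 4 5]
  · obtain ⟨a, ha, τ, k⟩ := k
    obtain ⟨τ', l, hl, k⟩ := big (rl h τ) hg ha k
    refine ⟨_, _, rl (rl h τ) τ', .inr ?_⟩
    simp only [List.mem_cons, List.not_mem_nil, or_false] at hl
    rcases hl with rfl | rfl | rfl
    exacts [.inl k, .inr (.inl k), .inr (.inr k)]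
  have tr : ∀ a ∈ cj g V, π a ≠ 1 → ∃ τ : S6, τ⁻¹ * π a * τ = swap 0 1 := fun a ha n => by
    obtain ⟨i, j, k', l, E⟩ := cls _ (sq a ha) n
    exact ⟨_, (List.mem_cons.1 E).resolve_right fun q => k ⟨a, ha, _, q⟩⟩
  have od : ∀ a ∈ cj g V, π a ≠ 1 → sign (π a) = -1 := fun a ha n => by
    obtain ⟨τ, E⟩ := tr a ha n
    simpa [mul_right_comm] using congrArg sign E
  obtain ⟨a, ha, aV⟩ : ∃ a ∈ cj g V, a ∉ V := SetLike.not_le_iff_exists.1 fun l =>
    hg.out (h.nor ▸ cj_eq_self_iff.1 (eq_of_le_of_card_ge l (card_cj g V).ge))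
  have n := mt (h.p6.ker a (WM ha)).1 aV
  obtain ⟨τ, E⟩ := tr a ha n
  refine ⟨_, _, rl h τ, .inl fun σ => ⟨?_, fun q => ?_⟩⟩
  · rintro ⟨c, hc, rfl⟩
    by_cases h2 : π c = 1
    · simp [h2]
    by_cases h3 : π c = π a
    · simp only [h3, E, List.mem_cons, true_or, or_true]
    have := od _ (mul_mem hc ha)
    rw [h.p6.mul _ (WM hc) _ (WM ha), map_mul, od c hc h2, od a ha n] at this
    exact absurd (this fun e => h3 (mul_right_cancel (e.trans (sq a ha).symm))) (by decide)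
  · rcases List.mem_pair.1 q with rfl | rfl
    exacts [⟨1, one_mem _, by simp [pi_one h]⟩, ⟨a, ha, E⟩]

end Cfsg.Lib.K35
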