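import Cfsg.Agent.K35.Loc
import Cfsg.Agent.P8.Bas2
import Cfsg.Agent.Local.PCoreOf

/-!
# Simple groups of order `2 ^ b * 3 ^ a * 5`: the end game, Sylow subgroups
-/

set_option autoImplicit false

namespace Cfsg.Lib.K35

open Cfsg Subgroup Cfsg.Lib.Trans Cfsg.Lib.Gold
open Cfsg.Lib.P8 (A5 A6 S5 O2 Om Jt Phi EA SR4 Ch E9 Pj Ty Sec SecOK Mx)
open scoped commutatorElement

universe u

namespace KE

variable {G : Type u} [Group G] [Finite G]

theorem step {S P : Subgroup G} (hP : IsPGroup 2 P) (h : S < P) :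
    ∃ g ∈ P, g ∈ Ns S ∧ g ∉ S ∧ g * g ∈ S := by
  classical
  obtain ⟨g, ⟨g1, g2⟩, g3⟩ := SetLike.exists_of_lt (lt_inf_normalizer hP h)
  have ex : ∃ n, g ^ 2 ^ n ∈ S := by
    obtain ⟨n, hn⟩ := hP ⟨g, g1⟩
    exact ⟨n, (show g ^ 2 ^ n = 1 from congrArg Subtype.val hn) ▸ one_mem S⟩
  obtain ⟨n, hn⟩ := Nat.exists_eq_succ_of_ne_zero (n := Nat.find ex) fun k => by
    have := Nat.find_spec ex
    rw [k, pow_zero, pow_one] at this
    exact g3 this
  refine ⟨g ^ 2 ^ n, pow_mem g1 _, pow_mem g2 _, Nat.find_min ex (by omega), ?_⟩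
  have := Nat.find_spec ex
  rwa [hn, pow_succ, pow_mul, pow_two] at this

theorem cen {S : Subgroup G} (hS : IsPGroup 2 S) (h : S ≠ ⊥) :
    ∃ z ∈ S, orderOf z = 2 ∧ S ≤ C1 z := by
  have := (nontrivial_iff_ne_bot S).2 h
  have := hS.center_nontrivial
  obtain ⟨z, hz⟩ := exists_prime_orderOf_dvd_card' (G := center S) 2 (by
    obtain ⟨n, n0, hn⟩ := (hS.to_subgroup (center S)).nontrivial_iff_card.1 inferInstance
    exact hn ▸ dvd_pow_self 2 n0.ne')
  refine ⟨z.1.1, z.1.2, by rw [orderOf_coe, orderOf_coe, hz], fun s hs => mem_C1.2 ?_⟩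
  exact congrArg Subtype.val (mem_center_iff.1 z.2 ⟨s, hs⟩)

omit [Finite G] in
theorem card {M V S : Subgroup G} {π : G → S6} (h : P6 M V π) (c : Nat.card V = 16)
    (hS : IsSylowIn 2 S M) : 128 ∣ Nat.card S ∧
      (¬ (∀ m ∈ M, Equiv.Perm.sign (π m) = 1) → 256 ∣ Nat.card S) := by
  let f : M →* S6 := MonoidHom.mk' (fun m => π m) fun a b => h.mul a a.2 b b.2
  have k : f.ker = V.subgroupOf M := Subgroup.ext fun m => h.ker m m.2
  have e : Nat.card S * S.relIndex M = 16 * Nat.card f.range := by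
    rw [card_mul_relIndex hS.le, ← card_mul_index f.ker, index_ker, k,
      Nat.card_congr (subgroupOfEquivOfLe h.le).toEquiv, c]
  have cp : ∀ n, 2 ^ n ∣ 16 * Nat.card f.range → 2 ^ n ∣ Nat.card S := fun n d =>
    ((Nat.prime_two.coprime_iff_not_dvd.2 hS.not_dvd).pow_left n).dvd_of_dvd_mul_right (e ▸ d)
  have a : alternatingGroup (Fin 6) ≤ f.range := fun σ s =>
    let ⟨m, hm, k⟩ := h.alt σ s; ⟨⟨m, hm⟩, k⟩
  refine ⟨cp 7 (dvd_trans ?_ (mul_dvd_mul_left 16 (card_dvd_of_le a))), fun n => cp 8 ?_⟩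
  · rw [nat_card_alternatingGroup, Nat.card_eq_fintype_card, Fintype.card_fin]
    decide
  · push Not at n
    obtain ⟨m, hm, n⟩ := n
    have : f.range = ⊤ := eq_top_iff.2 fun σ _ => by
      rcases Int.units_eq_one_or (Equiv.Perm.sign σ) with s | s
      · exact a s
      · refine (mul_mem_cancel_right (show π m ∈ f.range from ⟨⟨m, hm⟩, rfl⟩)).1 (a ?_)
        rw [Equiv.Perm.mem_alternatingGroup, map_mul, s, (Int.units_eq_one_or _).resolve_left n]
        rfl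
    rw [this, card_top, Nat.card_perm, Nat.card_eq_fintype_card, Fintype.card_fin]
    decide

end KE

open KE in
theorem ke (hKN : StKN.{u}) (hKX : StKX.{u}) (hBd : StBd.{u}) : StKE.{u} := by
  intro G _ _ h M V S₀ π e H hS₀
  obtain ⟨S, hS, le⟩ := exists_isSylowIn_ge hS₀.isPGroup le_top
  refine le.eq_or_lt.elim (· ▸ hS) fun lt => False.elim ?_
  have eq := hS₀.eq_inf hS.isPGroup le
  have VS : V ≤ S₀ := hS₀.le_of_normal H.p6.two H.p6.le H.nor.ge
  obtain ⟨z, zS, oz, cz⟩ := cen hS.isPGroup (ne_bot_of_gt lt)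
  have zc : z ∈ Cs V := fun v hv => mem_C1.1 (cz (le (VS hv)))
  have zV : z ∈ V := H.p6.ch ⟨H.nor ▸ centralizer_le_normalizer _ zc, zc⟩
  have z1 : z ≠ 1 := by rintro rfl; simp at oz
  have hS' := hS.mono cz le_top
  have nQ : S ≤ Ns (O2 (C1 z)) := cz.trans (Local.MSS.self_le_normalizer_pCoreOf _)
  have QS : O2 (C1 z) ≤ S := hS'.le_of_normal (Local.MSS.isPGroup_pCoreOf _) (Local.MSS.pCoreOf_le _)
    (Local.MSS.self_le_normalizer_pCoreOf _)
  have kn := fun g (g1 : g ∈ S) g2 (g3 : g ∉ S₀) g4 =>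
    hKN G M V S₀ π e g H ⟨hS₀, g2, g4, fun k => g3 (eq.le ⟨g1, k⟩)⟩ z zV z1 (le.trans cz)
  have QM : O2 (C1 z) ≤ M := by
    by_contra n
    obtain ⟨g, g1, g2, g3, g4⟩ := step (hS.isPGroup.to_le (sup_le le QS))
      (left_lt_sup.2 fun k => n (k.trans hS₀.le))
    obtain ⟨s, hs, q, hq, rfl⟩ := (coe_mul_of_left_le_normalizer_right _ _ (le.trans nQ)).le g1
    have q2 : q ∈ Ns S₀ := (mul_mem_cancel_left (le_normalizer hs)).1 g2
    refine kn q (QS hq) q2 (fun k => g3 (mul_mem hs k)) ?_ (cj_le_iff.2 fun v hv => ?_)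
    · rw [mul_assoc, mul_mem_cancel_left hs, show q * (s * q) = q * s * q⁻¹ * (q * q) by group] at g4
      exact (mul_mem_cancel_left (mem_normalizer_conj q2 hs)).1 g4
    · rw [show q * v * q⁻¹ = v * (v⁻¹ * (q * v * q⁻¹)) by group]
      refine mul_mem_sup hv (mem_inf.2 ⟨?_, hS₀.le (mul_mem (inv_mem (VS hv)) 
        (mem_normalizer_conj q2 (VS hv)))⟩)
      rw [← mul_assoc, ← mul_assoc]
      exact mul_mem (mem_normalizer_conj' (nQ (le (VS hv))) hq) (inv_mem hq)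
  have VQ : ¬ V ≤ O2 (C1 z) := fun k => by
    obtain ⟨g, g1, g2, g3, g4⟩ := step hS.isPGroup lt
    refine kn g g1 g2 g3 g4 (cj_le_iff.2 fun v hv => mem_sup_right ?_)
    have := mem_normalizer_conj (nQ g1) (k hv)
    exact ⟨this, QM this⟩
  obtain ⟨x1, x2, x3⟩ := hKX G M V π e H z zV z1 QM VQ
  obtain ⟨b, a, eb, ord⟩ := h.ord
  have pr : ∀ p : ℕ, p.Prime → p ∣ Nat.card (C1 z) → p = 2 ∨ p = 3 := fun p hp d => by
    have d' := ord ▸ d.trans (card_subgroup_dvd_card _)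
    rcases (hp.dvd_mul.1 d') with k | k
    · exact (hp.dvd_mul.1 k).imp (fun k => (Nat.prime_dvd_prime_iff_eq hp Nat.prime_two).1
        (hp.dvd_of_dvd_pow k)) fun k => (Nat.prime_dvd_prime_iff_eq hp Nat.prime_three).1
        (hp.dvd_of_dvd_pow k)
    · obtain rfl := (Nat.prime_dvd_prime_iff_eq hp Nat.prime_five).1 k
      obtain ⟨y, hy, oy⟩ := P8.Bas1H.exists_ord hp d
      have := orderOf_dvd_of_mem_zpowers ((h.c5 y oy).le (mem_C1.2 (mem_C1.1 hy).symm))
      rw [oz, oy] at this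
      exact absurd this (by decide)
  have sol : Group.IsSolvable (C1 z) := by
    have n0 : Nat.card (C1 z) ≠ 0 := Nat.card_pos.ne'
    refine Cfsg.Agent.S0144.result 2 3 ((Nat.card (C1 z)).factorization 2)
      ((Nat.card (C1 z)).factorization 3) Nat.prime_two Nat.prime_three ?_
    have sub : (Nat.card (C1 z)).factorization.support ⊆ {2, 3} := fun p hp => by
      rw [Nat.support_factorization, Nat.mem_primeFactors] at hp
      simpa using pr p hp.1 hp.2.1
    conv_lhs => rw [← Nat.prod_factorization_pow_eq_self n0]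
    rw [Finsupp.prod_of_support_subset _ sub _ (by simp), Finset.prod_pair (by norm_num)]
  have bd := hBd G (C1 z) S (P8.Bas2H.chl h.c2 (P8.Bas2H.loc oz)).1 sol pr x2 hS'
  have c1 := card_mul_relIndex QS
  have c2 : Nat.card S = 2 ^ b := by
    rw [hS.card_eq, card_top, ord]
    simp [Nat.factorization_mul, Nat.prime_two.factorization, Nat.prime_three.factorization,
      Nat.prime_five.factorization]
  have c3 := card_lt_of_lt lt
  obtain ⟨c4, c5⟩ := card H.p6 H.card hS₀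
  by_cases ev : ∀ m ∈ M, Equiv.Perm.sign (π m) = 1
  · obtain ⟨x3, x4⟩ := x3 ev
    have : 2 ^ 8 ≤ Nat.card S := c2 ▸ Nat.pow_le_pow_right two_pos ((Nat.pow_lt_pow_iff_right
      one_lt_two).1 ((Nat.le_of_dvd (m := 2 ^ 7) Nat.card_pos c4).trans_lt (c2 ▸ c3)))
    have e32 : Nat.card (O2 (C1 z)) = 32 := by nlinarith
    exact h.n2 z oz (x4 e32) e32
  · have l1 : 8 < b := (Nat.pow_lt_pow_iff_right one_lt_two).1
      ((Nat.le_of_dvd (m := 2 ^ 8) Nat.card_pos (c5 ev)).trans_lt (c2 ▸ c3))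
    have l2 : b ≤ 9 := (Nat.pow_le_pow_iff_right one_lt_two).1 (by nlinarith)
    obtain ⟨k, rfl⟩ := eb
    omega

end Cfsg.Lib.K35
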