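import Cfsg.Agent.K35.KZq

/-!
# Simple groups of order `2 ^ b * 3 ^ a * 5`: the type `3² : SL₂(3)`
-/

set_option autoImplicit false

namespace Cfsg.Lib.K35

open Cfsg Subgroup Cfsg.Lib.Trans Cfsg.Lib.Gold
open Cfsg.Lib.P8 (A5 A6 S5 O2 Om Jt Phi EA SR4 Ch E9 Pj Ty Sec SecOK Mx)
open scoped commutatorElement

universe u

namespace KQ

open QuaternionGroup

/-- The map with given values on the generators. -/
def ph (p r : QuaternionGroup 2) : QuaternionGroup 2 → QuaternionGroup 2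
  | a k => p ^ k.val
  | xa k => r * p ^ k.val

theorem key : ∀ p r : QuaternionGroup 2, (∀ g h, ph p r (g * h) = ph p r g * ph p r h) →
    (∀ g, ph p r (ph p r (ph p r g)) = g) → (∀ g, ph p r g = g) ∨
      ∀ g, g * ph p r g * (g * ph p r g) = 1 → g * g = 1 := by
  decide +kernel

theorem aut (α : QuaternionGroup 2 →* QuaternionGroup 2) (h3 : ∀ g, α (α (α g)) = g)
    (h1 : ¬ ∀ g, α g = g) (g : QuaternionGroup 2) (h : g * α g * (g * α g) = 1) : g * g = 1 := by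
  have e : ∀ g, ph (α (a 1)) (α (xa 0)) g = α g := by
    rintro (k | k)
    · rw [ph, ← map_pow, a_one_pow, ZMod.natCast_zmod_val]
    · rw [ph, ← map_pow, a_one_pow, ZMod.natCast_zmod_val, ← map_mul, xa_mul_a, zero_add]
  have := key (α (a 1)) (α (xa 0))
  simp only [e] at this
  exact (this (map_mul α) h3).resolve_left h1 g h

theorem exZ : ∃ Z₁ Z₃ : Subgroup (QuaternionGroup 2), Z₁.index = 4 ∧ Z₃.index = 2 ∧ Z₁ ≤ Z₃ ∧
    (∀ g, g ∈ Z₁ ↔ g * g = 1) ∧ ∀ g ∈ Z₃, ∀ h ∈ Z₃, g ∉ Z₁ → h ∉ Z₁ → g * h ∈ Z₁ := by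
  let Z₁ : Subgroup (QuaternionGroup 2) :=
    { carrier := {g | g * g = 1}
      one_mem' := mul_one _
      mul_mem' := fun {g h} => (by decide +kernel : ∀ g h : QuaternionGroup 2, g * g = 1 → h * h = 1 →
        g * h * (g * h) = 1) g h
      inv_mem' := fun {g} => (by decide +kernel : ∀ g : QuaternionGroup 2, g * g = 1 →
        g⁻¹ * g⁻¹ = 1) g }
  have c8 : Nat.card (QuaternionGroup 2) = 8 := by rw [Nat.card_eq_fintype_card, card]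
  have c1 : Nat.card Z₁ = 2 := by
    change Nat.card {g : QuaternionGroup 2 // g * g = 1} = 2
    rw [Nat.card_eq_fintype_card]
    decide +kernel
  have m3 : ∀ g, g ∈ C1 (a 1 : QuaternionGroup 2) ↔ g * a 1 = a 1 * g :=
    fun g => mem_centralizer_singleton_iff
  have c3 : Nat.card (C1 (a 1 : QuaternionGroup 2)) = 4 := by
    rw [Nat.card_congr (Equiv.subtypeEquivRight m3), Nat.card_eq_fintype_card]
    decide +kernel
  have e1 := Z₁.index_mul_card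
  have e3 := (C1 (a 1 : QuaternionGroup 2)).index_mul_card
  rw [c1, c8] at e1
  rw [c3, c8] at e3
  refine ⟨Z₁, C1 (a 1), by omega, by omega, fun g hg => (m3 g).2 ?_, fun _ => Iff.rfl,
    fun g hg h hh => ?_⟩
  · exact (by decide +kernel : ∀ g : QuaternionGroup 2, g * g = 1 → g * a 1 = a 1 * g) g hg
  · exact (by decide +kernel : ∀ g h : QuaternionGroup 2, g * a 1 = a 1 * g → h * a 1 = a 1 * h →
      ¬ g * g = 1 → ¬ h * h = 1 → g * h * (g * h) = 1) g h ((m3 g).1 hg) ((m3 h).1 hh)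

end KQ

theorem kq (hPhi : StPhi.{u}) (hFQ8 : StFQ8.{u}) (hBil : StBil.{u}) (hMA : StMA.{u}) (hMB : StMB.{u}) (hQM : StQM.{u}) : StKQ.{u} := by
  intro G _ _ M T S K π x a b hA hB hK hQ hC
  obtain ⟨V₀, U, W, h⟩ := KZa.exCx hA hB hK hC
  obtain ⟨f, f1, f2⟩ := hQ.q8
  obtain ⟨Z₁, Z₃, z1, z3, z13, zm, zz⟩ := KQ.exZ
  have fQ : ∀ s : S, f s = 1 ↔ (s : G) ∈ O2 K := fun s => by rw [← MonoidHom.mem_ker, f2]; rfl
  have hX : ∀ Z : Subgroup (QuaternionGroup 2), ∃ Y : Subgroup G, Y ≤ S ∧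
      (∀ s : S, (s : G) ∈ Y ↔ f s ∈ Z) ∧ O2 K ≤ Y ∧ Y.relIndex S = Z.index ∧
        Y.relIndex T = Z.index := fun Z => by
    have m : ∀ s : S, (s : G) ∈ (Z.comap f).map S.subtype ↔ f s ∈ Z := fun s =>
      mem_map_iff_mem (subtype_injective S)
    refine ⟨_, map_subtype_le _, m, fun q hq => (m ⟨q, hK.leQ hq⟩).2 ?_, ?_, ?_⟩
    · rw [(fQ _).2 hq]; exact one_mem _
    · rw [← Z.index_comap_of_surjective f1]
      exact congrArg index (Subgroup.ext m)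
    · rw [← Z.index_comap_of_surjective (f := f.comp (inclusion hB.le)) fun g => ?_]
      · exact congrArg index (Subgroup.ext fun t => m (inclusion hB.le t))
      obtain ⟨⟨s, hs⟩, rfl⟩ := f1 g
      obtain ⟨q, hq, t, ht, rfl⟩ := h.dec hs
      refine ⟨⟨t, ht⟩, ?_⟩
      rw [show (⟨q * t, hs⟩ : S) = ⟨q, hK.leQ hq⟩ * ⟨t, hB.le ht⟩ from rfl, map_mul, (fQ _).2 hq,
        one_mul]
      rfl
  obtain ⟨S₁, a1, a2, -, -, a5⟩ := hX Z₁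
  obtain ⟨S₃, b1, b2, b3, b4, b5⟩ := hX Z₃
  let c : S →* S := (S.normalizerMonoidHom ⟨x, hB.xN⟩).toMonoidHom
  have hc : ∀ s : S, (c s : G) = x * s * x⁻¹ := fun _ => rfl
  let α := f.liftOfSurjective f1 ⟨f.comp c, fun s hs =>
    (fQ _).2 (mem_normalizer_conj (KZa.Cx.nQ hK.xK) ((fQ s).1 hs))⟩
  have hα : ∀ s, α (f s) = f (c s) := fun s => MonoidHom.liftOfRightInverse_comp_apply ..
  have α3 : ∀ g, α (α (α g)) = g := fun g => by
    obtain ⟨s, rfl⟩ := f1 g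
    rw [hα, hα, hα]
    refine congrArg f (Subtype.ext ?_)
    rw [hc, hc, hc, show x * (x * (x * s * x⁻¹) * x⁻¹) * x⁻¹ = x ^ 3 * s * (x ^ 3)⁻¹ by
      rw [pow_three]; group, ← hA.ox, pow_orderOf_eq_one]
    simp
  have α1 : ¬ ∀ g, α g = g := fun e => hQ.xn (by
    rw [commutator_comm]
    refine commutator_le.2 fun y hy s hs => ?_
    obtain ⟨n, rfl⟩ := mem_powers_iff_mem_zpowers.2 hy
    refine Solv.PG.commutator_pow_mem (KZa.Cx.nQ hK.xK) ((fQ (c ⟨s, hs⟩ * ⟨s, hs⟩⁻¹)).1 ?_) n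
    rw [map_mul, map_inv, ← hα, e, mul_inv_cancel])
  have k1 : ∀ t ∈ S, t * (x * t * x⁻¹) ∈ S₁ → t ∈ S₁ := fun t ht e =>
    (a2 ⟨t, ht⟩).2 ((zm _).2 (KQ.aut α α3 α1 _ (by
      rw [hα, ← map_mul]
      exact (zm _).1 ((a2 (⟨t, ht⟩ * c ⟨t, ht⟩)).1 e))))
  have k2 : x ∈ Ns S₁ := mem_normalizer_fintype fun t ht => (a2 (c ⟨t, a1 ht⟩)).2 (by
    rw [← hα, zm, ← map_mul, (zm _).1 ((a2 ⟨t, a1 ht⟩).1 ht), map_one])
  have k3 : S ≤ Ns S₁ := KZa.ns fun s hs t ht => (a2 (⟨s, hs⟩ * ⟨t, a1 ht⟩ * ⟨s, hs⟩⁻¹)).2 (by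
    rw [map_mul, map_mul, map_inv, zm, conj_mul, (zm _).1 ((a2 ⟨t, a1 ht⟩).1 ht)]
    simp)
  obtain ⟨v, v1, v2, v3⟩ := h.exv
  obtain ⟨w, w1, w2, w3⟩ := (hFQ8 G S K V₀ U x a b hK.le hK.leQ hB.syl.2.1 hQ h.secU fun e =>
    v2 ((h.v v).2 fun k hk => by
      obtain ⟨s, hs, i, y, hy, rfl⟩ := hQ.gen k hk
      have e1 := mul_mem (h.V0V (KZa.flip (e (commutator_mem_commutator (h.VU v1 v3) hy)))) v1
      have e2 := mem_normalizer_conj (h.s3.n2 (mul_mem (h.SM hs) (pow_mem hA.xM i))) e1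
      rwa [show s * x ^ i * (⁅y, v⁆ * v) * (s * x ^ i)⁻¹ = s * x ^ i * y * v * (s * x ^ i * y)⁻¹ by
        rw [commutatorElement_def]; group] at e2)).2 S₃ b3 b1 (b4.trans z3)
  obtain ⟨w4, w5⟩ := h.phi hPhi w1 (D := T ⊓ S₃) inf_le_left
    (by rw [inf_relIndex_left, b5, z3]) fun d hd => h.V0V (w2 d hd.2)
  have k4 : T ⊓ Cs W ≤ S₃ := fun t ht => not_not.1 fun e => w3 t (hB.le ht.1) e (by
    rw [commutatorElement_eq_one_iff_mul_comm.2 (ht.2 w w4)]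
    exact one_mem _)
  have k5 : T ⊓ Cs W ≤ S₁ := fun t ht => not_not.1 fun e => e (k1 t (hB.le ht.1) (by
    have e1 := mem_normalizer_conj (h.s2.n1 hA.xM) ht
    refine (a2 (⟨t, hB.le ht.1⟩ * c ⟨t, hB.le ht.1⟩)).2 ?_
    rw [map_mul]
    exact zz _ ((b2 _).1 (k4 ht)) _ ((b2 _).1 (k4 e1)) (fun e2 => e ((a2 ⟨t, _⟩).2 e2))
      fun e2 => e ((mem_normalizer_iff.1 k2 t).2 ((a2 (c ⟨t, hB.le ht.1⟩)).2 e2))))
  obtain ⟨A, B, C, _, _, _, _, _, _, _, _, _, p₁, p₂, p₃, β, hb⟩ := h.bil hBil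
  obtain ⟨H₁, c1, c2⟩ := KZa.img hb.s2 k5
  obtain ⟨H₃, d1, d2⟩ := KZa.img hb.s2 k4
  obtain ⟨C₀, e1, -⟩ := KZa.img hb.s3 (bot_le : ⊥ ≤ V₀)
  have mA := hMA A hb.m1
  have mB := hMA B hb.m2
  have mC := hMA C hb.m3
  have k6 := hQM A B C β mA mB mC hb.eqv (hMB A B C β mA mB mC hb.eqv) (p₁ w) H₁ H₃ C₀
    (fun τ hτ => by
      obtain ⟨t, ht, rfl⟩ := hb.s2.sur τ
      exact (d1 t ht).2 ((b2 ⟨t, hB.le ht⟩).2 (z13 ((a2 ⟨t, hB.le ht⟩).1 ((c1 t ht).1 hτ)))))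
    (by rw [d2, b5, z3]) (by rw [c2, a5, z1]) (h.inv4 hb.s2 hB.nT c1 k3 k2)
    (fun τ hτ => by
      obtain ⟨t, ht, rfl⟩ := hb.s2.sur τ
      have e2 := mem_normalizer_conj (hB.nT hA.xM) ht
      rw [← hA.px, ← hb.s2.eqv x hA.xM t ht, ← hb.s2.add t ht _ e2, c1 _ (mul_mem ht e2)] at hτ
      exact (c1 t ht).2 (k1 t (hB.le ht) hτ))
    (h.inv4 hb.s3 h.s3.n2 e1 (hK.le.trans h.n0) (h.n0 hK.xK)) (h.c0 hb.s3 e1) (h.fs hb.s1 w4 w5)
    fun τ hτ => by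
      obtain ⟨t, ht, rfl⟩ := hb.s2.sur τ
      rw [hb.com w w4 t ht, e1 _ (w5 t (hB.le ht))]
      exact w2 t ((d1 t ht).1 hτ)
  have k7 : ¬ T ≤ S₃ := fun e => by
    have := relIndex_eq_one.2 e
    omega
  obtain ⟨t, t1, t2⟩ := SetLike.not_le_iff_exists.1 k7
  have := k6 (p₂ t)
  rw [hb.com w w4 t t1, e1 _ (w5 t (hB.le t1))] at this
  exact w3 t (hB.le t1) t2 this

end Cfsg.Lib.K35
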