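import Cfsg.Agent.K35.Loc
import Cfsg.Agent.P8.Bas2

/-!
# The 2-core of the centralizer of a triangle
-/

set_option autoImplicit false
set_option maxHeartbeats 400000

namespace Cfsg.Lib.K35

open Cfsg Subgroup Cfsg.Lib.Trans Cfsg.Lib.Gold
open Cfsg.Lib.P8 (A5 A6 S5 O2 Om Jt Phi EA SR4 Ch E9 Pj Ty Sec SecOK Mx)
open scoped commutatorElement

universe u

namespace KT

open Equiv

set_option synthInstance.maxSize 2000 in
theorem fin0 : ∀ σ : S6, σ 0 = 0 → σ 1 = 1 → σ 2 = 2 → σ ^ 3 = 1 ∨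
    ((swap 3 4 * swap 4 5 * σ * (swap 3 4 * swap 4 5)⁻¹ * σ⁻¹) ^ 3 = 1 ∧
      swap 3 4 * swap 4 5 * σ * (swap 3 4 * swap 4 5)⁻¹ * σ⁻¹ ≠ 1) := by decide +kernel

theorem fin1 {i j k : Fin 6} (hij : i ≠ j) (hjk : j ≠ k) (hik : i ≠ k) :
    ∃ τ : S6, Perm.sign τ = 1 ∧ τ i = i ∧ τ j = j ∧ τ k = k ∧ ∀ σ : S6, σ i = i → σ j = j → σ k = k →
      σ ^ 3 = 1 ∨ ((τ * σ * τ⁻¹ * σ⁻¹) ^ 3 = 1 ∧ τ * σ * τ⁻¹ * σ⁻¹ ≠ 1) := by
  obtain ⟨ρ, hρ⟩ := Perm.exists_extending_pair (f := (![0, 1, 2] : Fin 3 → Fin 6)) (g := ![i, j, k])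
    (by decide) (fun a b e => by fin_cases a <;> fin_cases b <;> simp_all [eq_comm])
  obtain rfl : ρ 0 = i := hρ 0
  obtain rfl : ρ 1 = j := hρ 1
  obtain rfl : ρ 2 = k := hρ 2
  refine ⟨ρ * (swap 3 4 * swap 4 5) * ρ⁻¹, ?_, ?_, ?_, ?_, fun σ h0 h1 h2 => ?_⟩
  · simp
  · simp only [Perm.mul_apply, Perm.coe_inv, symm_apply_apply]; congr 1
  · simp only [Perm.mul_apply, Perm.coe_inv, symm_apply_apply]; congr 1
  · simp only [Perm.mul_apply, Perm.coe_inv, symm_apply_apply]; congr 1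
  · obtain ⟨σ, rfl⟩ : ∃ σ', σ = ρ * σ' * ρ⁻¹ := ⟨ρ⁻¹ * σ * ρ, by group⟩
    simp only [Perm.mul_apply, Perm.coe_inv, symm_apply_apply, ρ.injective.eq_iff] at h0 h1 h2
    have e : ∀ c : S6, ρ * c * ρ⁻¹ * (ρ * σ * ρ⁻¹) * (ρ * c * ρ⁻¹)⁻¹ * (ρ * σ * ρ⁻¹)⁻¹ =
        ρ * (c * σ * c⁻¹ * σ⁻¹) * ρ⁻¹ := fun c => by group
    rw [e, conj_pow, conj_pow]
    simpa only [ne_eq, conj_eq_one_iff] using fin0 σ h0 h1 h2

variable {G : Type u} [Group G] {M V : Subgroup G} {π : G → S6} {e : Fin 6 → Fin 6 → G}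

theorem pi_one (h : P6 M V π) : π 1 = 1 := (h.ker 1 (one_mem _)).2 (one_mem _)

theorem pi_inv (h : P6 M V π) {a : G} (ha : a ∈ M) : π a⁻¹ = (π a)⁻¹ :=
  eq_inv_of_mul_eq_one_left (by rw [← h.mul _ (inv_mem ha) _ ha, inv_mul_cancel, pi_one h])

theorem pi_pow (h : P6 M V π) {a : G} (ha : a ∈ M) (n : ℕ) : π (a ^ n) = π a ^ n := by
  induction n with
  | zero => simpa using pi_one h
  | succ n ih => rw [pow_succ, h.mul _ (pow_mem ha n) _ ha, ih, pow_succ]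

theorem cube (h : P6 M V π) {O : Subgroup G} (hO : IsPGroup 2 O) {a : G} (ha : a ∈ O) (hM : a ∈ M)
    (h3 : π a ^ 3 = 1) : π a = 1 := by
  obtain ⟨n, hn⟩ := hO ⟨a, ha⟩
  have h1 : π a ^ 2 ^ n = 1 := by
    rw [← pi_pow h hM, show a ^ 2 ^ n = 1 from congrArg Subtype.val hn, pi_one h]
  exact (pow_eq_one_iff_of_coprime (Nat.Coprime.pow_left n (by norm_num : Nat.Coprime 2 3))).1
    ⟨h1, h3⟩

theorem e_mem (h : Cd M V π e) (i j : Fin 6) : e i j ∈ V := (h.mem _).2 ⟨i, j, rfl⟩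

theorem e_sq (h : Cd M V π e) (i j : Fin 6) : e i j * e i j = 1 := by
  rw [h.sym i j]; nth_rw 2 [h.sym j i]; rw [h.tri, h.dia]

theorem e_ne (h : Cd M V π e) {i j : Fin 6} (hij : i ≠ j) : e i j ≠ 1 := fun e1 => by
  rcases h.inj i j i i hij (e1.trans (h.dia i).symm) with h1 | h1 <;> exact hij h1.2.symm

theorem ord_e (h : Cd M V π e) {i j : Fin 6} (hij : i ≠ j) : orderOf (e i j) = 2 :=
  haveI : Fact (Nat.Prime 2) := ⟨Nat.prime_two⟩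
  orderOf_eq_prime (by rw [sq, e_sq h]) (e_ne h hij)

theorem mem_C1_iff (h : Cd M V π e) {m : G} (hm : m ∈ M) {i j : Fin 6} (hij : i ≠ j) :
    m ∈ C1 (e i j) ↔ (π m i = i ∧ π m j = j) ∨ (π m i = j ∧ π m j = i) := by
  rw [mem_C1, ← mul_inv_eq_iff_eq_mul, h.eqv m hm]
  refine ⟨h.inj _ _ _ _ ((π m).injective.ne hij), ?_⟩
  rintro (⟨h1, h2⟩ | ⟨h1, h2⟩) <;> rw [h1, h2]
  exact h.sym _ _

theorem V_le (h : EA V) {v : G} (hv : v ∈ V) : V ≤ C1 v := fun w hw =>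
  mem_C1.2 (congrArg Subtype.val (h.1.is_comm.comm (⟨w, hw⟩ : V) ⟨v, hv⟩))

end KT

theorem kt : StKT.{u} := by
  intro G _ _ M V π e h i j k hij hjk hik
  have : Fact (Nat.Prime 2) := ⟨Nat.prime_two⟩
  have hc := h.cd
  have hp := h.p6
  set D := C1 (e i j) ⊓ C1 (e j k) with hD
  have hVD : V ≤ D := le_inf (KT.V_le h.ea (KT.e_mem hc i j)) (KT.V_le h.ea (KT.e_mem hc j k))
  have hch : Local.CharP 2 D := by
    have h1 : Local.CharP 2 (C1 (e i j)) := (P8.Bas2H.chl h.c2 (P8.Bas2H.loc (KT.ord_e hc hij))).1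
    have h2 := h1.inf_centralizer (R := zpowers (e j k))
      (hp.two.to_le (zpowers_le.2 (KT.e_mem hc j k)))
      (zpowers_le.2 (KT.V_le h.ea (KT.e_mem hc i j) (KT.e_mem hc j k)))
    rwa [show centralizer (zpowers (e j k) : Set G) = C1 (e j k) from Cs_zpowers _] at h2
  have hO := Local.isPGroup_pCoreOf (p := 2) D
  have hOD : O2 D ≤ D := map_subtype_le _
  have hN := Local.le_normalizer_pCoreOf (p := 2) D
  obtain ⟨τ, hτ, t1, t2, t3, ht⟩ := KT.fin1 hij hjk hik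
  obtain ⟨m, hm, rfl⟩ := hp.alt τ hτ
  have hmD : m ∈ D := ⟨(KT.mem_C1_iff hc hm hij).2 (.inl ⟨t1, t2⟩),
    (KT.mem_C1_iff hc hm hjk).2 (.inl ⟨t2, t3⟩)⟩
  have key : ∀ r ∈ O2 D, r ∈ M → r ∈ V := fun r hr hM => by
    have h1 := (KT.mem_C1_iff hc hM hij).1 (hOD hr).1
    have h2 := (KT.mem_C1_iff hc hM hjk).1 (hOD hr).2
    have h3 : π r i = i ∧ π r j = j ∧ π r k = k := by
      rcases h1 with h1 | h1 <;> rcases h2 with h2 | h2
      · exact ⟨h1.1, h1.2, h2.2⟩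
      · exact absurd (h1.2.symm.trans h2.1) hjk
      · exact absurd (h1.2.symm.trans h2.1) hij
      · exact absurd (h1.2.symm.trans h2.1) hik
    rcases ht _ h3.1 h3.2.1 h3.2.2 with h4 | ⟨h4, h5⟩
    · exact (hp.ker r hM).1 (KT.cube hp hO hr hM h4)
    · have hx := mul_mem (mul_mem hm hM) (inv_mem hm)
      have e1 : π (m * r * m⁻¹ * r⁻¹) = π m * π r * (π m)⁻¹ * (π r)⁻¹ := by
        rw [hp.mul _ hx _ (inv_mem hM), hp.mul _ (mul_mem hm hM) _ (inv_mem hm), hp.mul _ hm _ hM,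
          KT.pi_inv hp hm, KT.pi_inv hp hM]
      exact absurd (e1 ▸ KT.cube hp hO (mul_mem (mem_normalizer_conj (hN hmD) hr) (inv_mem hr))
        (mul_mem hx (inv_mem hM)) (e1 ▸ h4)) h5
  have hOV : O2 D ≤ V := by
    by_contra hn
    have h1 : IsPGroup 2 (V ⊔ O2 D : Subgroup G) :=
      IsPGroup.to_sup_of_normal_right' hp.two hO (hVD.trans hN)
    obtain ⟨x, hx, hx1, hx2⟩ := Local.exists_mem_normalizer_of_lt h1
      (lt_of_le_of_ne le_sup_left fun e1 => hn (le_sup_right.trans e1.ge))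
    obtain ⟨v, hv, r, hr, rfl⟩ :=
      (coe_mul_of_left_le_normalizer_right V (O2 D) (hVD.trans hN)).le (SetLike.mem_coe.2 hx)
    have h2 : r ∈ M := by
      simpa using mul_mem (inv_mem (hp.le hv)) (h.nor.le hx2)
    exact hx1 (mul_mem hv (key r hr h2))
  exact le_antisymm hOV fun v hv => hch ⟨hVD hv, mem_centralizer_iff.2 fun w hw =>
    mem_C1.1 (KT.V_le h.ea hv (hOV hw))⟩

end Cfsg.Lib.K35
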