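import Cfsg.Agent.K35.Loc
import Cfsg.Agent.Gold.Cm
import Cfsg.Agent.Trans.Thompson
import Cfsg.Agent.Local.CharP

/-! Simple groups of order `2 ^ b * 3 ^ a * 5`: `Q T = S` and `Ω₁ Z(S)` is normal in `K`. -/

set_option autoImplicit false

namespace Cfsg.Lib.K35

open Cfsg Subgroup Cfsg.Lib.Trans Cfsg.Lib.Gold
open Cfsg.Lib.P8 (A5 A6 S5 O2 Om Jt Phi EA SR4 Ch E9 Pj Ty Sec SecOK Mx)
open scoped commutatorElement

universe u

namespace KU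

variable {G : Type u} [Group G]

theorem mem_Om {Q : Subgroup G} {x : G} : x ∈ Om Q ↔ x ∈ Q ∧ x ∈ Cs Q ∧ x * x = 1 := by
  rw [← pow_two]; exact TJ.mem_omegaOne_center_iff

theorem ns_Om {Q : Subgroup G} : Ns Q ≤ Ns (Om Q) :=
  TJ.normalizer_le_normalizer_omegaOne_center Q

theorem ns_bot (g : G) : g ∈ Ns (⊥ : Subgroup G) := by
  have : Ns (⊥ : Subgroup G) = ⊤ := normalizer_eq_top _
  rw [this]; trivial

theorem q8 {S Q : Subgroup G} (hQ : Q ≤ S) (f : S →* QuaternionGroup 2) (hf : Function.Surjective f)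
    (hk : f.ker = Q.subgroupOf S) :
    Q.relIndex S = 8 ∧ ∃ S₃, Q ≤ S₃ ∧ S₃ ≤ S ∧ S₃.relIndex S = 2 := by
  have c8 : Nat.card (QuaternionGroup 2) = 8 := by
    rw [Nat.card_eq_fintype_card, QuaternionGroup.card]
  refine ⟨?_, ((zpowers (QuaternionGroup.a 1)).comap f).map S.subtype, fun q hq => ?_,
    map_subtype_le _, ?_⟩
  · rw [relIndex, ← hk, index_ker, MonoidHom.range_eq_top.2 hf, card_top, c8]
  · refine ⟨⟨q, hQ hq⟩, ?_, rfl⟩
    have : (⟨q, hQ hq⟩ : S) ∈ f.ker := hk ▸ hq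
    change f _ ∈ zpowers _
    rw [MonoidHom.mem_ker.1 this]; exact one_mem _
  · rw [relIndex, subgroupOf, comap_map_eq_self_of_injective S.subtype_injective,
      index_comap_of_surjective _ hf]
    have := (zpowers (QuaternionGroup.a 1 : QuaternionGroup 2)).card_mul_index
    rw [Nat.card_zpowers, QuaternionGroup.orderOf_a_one, c8] at this
    omega

end KU

open KU in
theorem ku (hPhi : StPhi.{u}) (hFQ8 : StFQ8.{u}) : StKU.{u} := by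
  intro G _ _ M T S K π x a b k z hV
  obtain ⟨y, hy, oy⟩ : ∃ y ∈ M, orderOf y = 5 := by
    obtain ⟨s, hs, hs'⟩ : ∃ s ∈ S, s ∉ T := by
      by_contra! h
      have := b.idx
      rw [relIndex_eq_one.2 h] at this
      omega
    obtain ⟨m, hm, y, hy, oy⟩ := b.d10 s hs hs'
    refine ⟨y, (closure_le _).2 ?_ hy, oy⟩
    rintro _ (rfl | rfl)
    exacts [b.syl.le hs, mul_mem (mul_mem hm (b.syl.le hs)) (inv_mem hm)]
  have key : ∀ w ∈ T, w * w = 1 → ∀ D ≤ T, D.relIndex T ≤ 2 → w ∈ Cs D → w ∈ Cs T :=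
    fun w hw h2 D h1 h3 h4 => mem_Cs.2 fun t ht => by
      have := hPhi G T ⊥ D y w a.ty.two oy (b.nT hy) (a.fp y hy oy) bot_le (fun g _ => ns_bot g)
        (ns_bot y) hw
        (by simp [h2]) h1 h3 (fun d hd => by
          rw [mem_bot, commutatorElement_eq_one_iff_mul_comm]; exact (mem_Cs.1 h4 d hd).symm) t ht
      rw [mem_bot, commutatorElement_eq_one_iff_mul_comm] at this
      exact this.symm
  have nQ : K ≤ Ns (O2 K) := Local.le_normalizer_pCoreOf _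
  have nY : K ≤ Ns (Om (O2 K)) := nQ.trans ns_Om
  have nV : M ≤ Ns (Om T) := b.nT.trans ns_Om
  have h1 : O2 K ⊔ T = S := by
    refine (b.inv _ k.leQ (nQ k.xK)).resolve_left fun h => ?_
    have e := relIndex_mul_relIndex _ _ _ h b.le
    rw [b.idx] at e
    obtain ⟨u, z⟩ | ⟨c, d, z⟩ := z
    · rw [z.idx] at e; omega
    obtain ⟨f, hf, hk⟩ := z.q8
    rw [(q8 k.leQ f hf hk).1] at e
    have e2 : Om T = Om (O2 K) := le_antisymm
      (fun v hv => mem_Om.2 ⟨hV hv, Cs_anti h (mem_Om.1 hv).2.1, (mem_Om.1 hv).2.2⟩) fun w hw =>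
        mem_Om.2 ⟨h (mem_Om.1 hw).1, key w (h (mem_Om.1 hw).1) (mem_Om.1 hw).2.2 _ h (by omega)
          (mem_Om.1 hw).2.1, (mem_Om.1 hw).2.2⟩
    exact b.neV (k.nn _ (isPGroup_of_sq fun v hv => (mem_Om.1 hv).2.2) nV (e2 ▸ nY))
  refine ⟨h1, ?_⟩
  have hY : ∀ w ∈ Om (O2 K), w ∈ T := fun w hw =>
    b.cV.le ⟨b.syl.le (k.leQ (mem_Om.1 hw).1), Cs_anti hV (mem_Om.1 hw).2.1⟩
  have hZ : Om T ⊓ Cs S ≤ Om (O2 K) := fun v hv =>
    mem_Om.2 ⟨hV hv.1, Cs_anti k.leQ hv.2, (mem_Om.1 hv.1).2.2⟩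
  have key2 : ∀ w ∈ Om (O2 K), ∀ D : Subgroup G, D.relIndex S = 2 → w ∈ Cs D →
      w ∈ Cs T ∧ w ∈ Cs S := fun w hw D h2 h3 => by
    have := key w (hY w hw) (mem_Om.1 hw).2.2 (T ⊓ D) inf_le_left (by
      rw [inf_relIndex_left]
      exact (relIndex_le_of_le_right b.le (by omega)).trans h2.le) (Cs_anti inf_le_right h3)
    refine ⟨this, ?_⟩
    rw [← h1]
    exact le_Cs_comm.1 (sup_le (le_Cs_comm.1 (zpowers_le.2 (mem_Om.1 hw).2.1))
      (le_Cs_comm.1 (zpowers_le.2 this))) (mem_zpowers w)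
  obtain ⟨u, z⟩ | ⟨c, d, z⟩ := z
  · have e : Om T ⊓ Cs S = Om (O2 K) := le_antisymm hZ fun w hw => by
      obtain ⟨h2, h3⟩ := key2 w hw _ z.idx (mem_Om.1 hw).2.1
      exact ⟨mem_Om.2 ⟨hY w hw, h2, (mem_Om.1 hw).2.2⟩, h3⟩
    exact e ▸ nY
  by_cases h : ⁅Om (O2 K), closure {c, d}⁆ ≤ ⊥
  · intro g hg
    obtain ⟨s, hs, i, e, he, rfl⟩ := z.gen g hg
    refine mul_mem (mul_mem (Cs_le_Ns (le_Cs_comm.1 inf_le_right hs))
      (pow_mem (mem_Ns_inf (nV a.xM) (mem_Ns_Cs b.xN)) i)) (Cs_le_Ns (Cs_anti hZ ?_))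
    exact le_Cs_comm.1 (commutator_eq_bot_iff_le_centralizer.1 (le_bot_iff.1 h)) he
  obtain ⟨f, hf, hk⟩ := z.q8
  obtain ⟨-, S₃, s1, s2, s3⟩ := q8 k.leQ f hf hk
  obtain ⟨w, hw, w1, w2⟩ := (hFQ8 G S K ⊥ (Om (O2 K)) x c d k.le k.leQ b.syl.isPGroup z
    ⟨bot_le, fun v hv => (mem_Om.1 hv).1, fun g _ => ns_bot g, nY,
      (commutator_eq_bot_iff_le_centralizer.2 fun v hv => (mem_Om.1 hv).2.1).le,
      fun v hv => by rw [(mem_Om.1 hv).2.2]; exact one_mem _⟩ h).2 S₃ s1 s2 s3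
  obtain ⟨t, ht, ht'⟩ : ∃ t ∈ S, t ∉ S₃ := by
    by_contra! h
    rw [relIndex_eq_one.2 h] at s3
    omega
  refine absurd ?_ (w2 t ht ht')
  rw [mem_bot, commutatorElement_eq_one_iff_mul_comm]
  refine (mem_Cs.1 (key2 w hw S₃ s3 (mem_Cs.2 fun s hs => ?_)).2 t ht).symm
  exact (commutatorElement_eq_one_iff_mul_comm.1 (mem_bot.1 (w1 s hs))).symm

end Cfsg.Lib.K35
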