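import Cfsg.Agent.K35.KCk
import Cfsg.Agent.Gold.Cm
import Cfsg.Agent.Solv.FrattiniP

/-!
# Simple groups of order `2 ^ b * 3 ^ a * 5`: the 2-core of the centralizer of a duad
-/

set_option autoImplicit false

namespace Cfsg.Lib.K35

open Cfsg Subgroup Cfsg.Lib.Trans Cfsg.Lib.Gold
open Cfsg.Lib.P8 (A5 A6 S5 O2 Om Jt Phi EA SR4 Ch E9 Pj Ty Sec SecOK Mx)
open scoped commutatorElement

universe u

namespace KX

open Equiv KCk

abbrev L4 : List S6 := [1, swap 2 3 * swap 4 5, swap 2 4 * swap 3 5, swap 2 5 * swap 3 4]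

abbrev L8 : List S6 := L4 ++ L4.map (swap 0 1 * ·)

abbrev xi : S6 := swap 3 4 * swap 4 5

theorem tr : ∀ i j : Fin 6, i ≠ j → ∃ τ : S6, τ 0 = i ∧ τ 1 = j ∧ Perm.sign τ = 1 := by
  decide +kernel

theorem f8 : ∀ σ : S6, ((σ 0 = 0 ∧ σ 1 = 1) ∨ (σ 0 = 1 ∧ σ 1 = 0)) → σ * σ = 1 →
    ((∀ k, k ≠ 0 → k ≠ 1 → σ k = k) ∨ ∀ k, k ≠ 0 → k ≠ 1 → σ k ≠ k) →
    σ ∈ L8 ∧ (Perm.sign σ = 1 → σ ∈ L4) := by decide +kernel

theorem f2 : ∀ σ ∈ L8, σ ∈ [1, swap 0 1] ∨ ∃ m : Fin 6, ¬ m.1 < 2 ∧ ¬ D (σ 2) (σ m) 2 m := by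
  decide +kernel

set_option synthInstance.maxSize 2000 in
theorem f4 : ∀ σ ∈ L4, (∀ p q : Fin 6, (p.1 < 2 ↔ q.1 < 2) →
    D (σ p) (σ q) p q ∨ R p q 0 1 (σ p) (σ q)) ∧ (σ ∈ [1, swap 0 1] → σ = 1) ∧ (σ ≠ 1 →
      xi * (xi * σ * xi⁻¹) * xi⁻¹ = σ * (xi * σ * xi⁻¹) ∧ ∀ p q : Fin 6, (p.1 < 2 ↔ q.1 < 2) →
        D (σ p) (σ q) p q → D ((xi * σ * xi⁻¹) p) ((xi * σ * xi⁻¹) q) p q → p = q ∨ D p q 0 1) := by
  decide +kernel

theorem aux {G : Type*} [Group G] {A B z : G} (h1 : B * (A * A) = A * A * z * B)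
    (h2 : A * (B * B) = B * B * z * A) (zA : A * z = z * A) (a4 : A * A * (A * A) = 1)
    (b4 : B * B * (B * B) = 1) (w2 : A * B * (A * B) * (A * B * (A * B)) = 1) :
    A * (A * B * (A * B)) = A * B * (A * B) * A := by
  have : A * B * (A * B) * (B * A * (B * A)) = 1 :=
    calc _ = A * B * (A * (B * B)) * (A * (B * A)) := by simp only [mul_assoc]
      _ = A * B * (B * B) * (z * A * A * B) * A := by rw [h2]; simp only [mul_assoc]
      _ = A * B * (B * B) * (B * (A * A)) * A := by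
        rw [h1, ← zA, mul_assoc A z, ← zA, ← mul_assoc A A]
      _ = A * (B * B * (B * B)) * (A * A * A) := by simp only [mul_assoc]
      _ = 1 := by rw [b4, mul_one, ← a4]; simp only [mul_assoc]
  conv_lhs => rw [mul_left_cancel (w2.trans this.symm)]
  simp only [mul_assoc]

theorem esp {Q : Type*} [Group Q] [Finite Q] (hQ : IsPGroup 2 Q) {z : Q} (oz : orderOf z = 2)
    (hz : z ∈ center Q) (hc : ∀ g ∈ center Q, g = 1 ∨ g = z) (hs : ∀ g : Q, g * g = 1 ∨ g * g = z)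
    {a b : Q} (ab : a * b ≠ b * a) : IsExtraspecial 2 Q := by
  have e : center Q = zpowers z := le_antisymm (fun g hg => by
    rcases hc g hg with rfl | rfl
    exacts [one_mem _, mem_zpowers _]) (zpowers_le.2 hz)
  have l1 := Solv.commutator_le_frattini_of_isPGroup hQ
  have l2 : frattini Q ≤ center Q := by
    rw [Solv.frattini_eq_closure_sq hQ, closure_le]
    rintro _ ⟨g, rfl⟩
    rcases hs g with k | k <;> simp only [pow_two, k]
    exacts [one_mem (center Q), hz]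
  have l3 : center Q ≤ _root_.commutator Q := by
    have k : ⁅a, b⁆ ∈ _root_.commutator Q := commutator_mem_commutator trivial trivial
    rw [e, zpowers_le, ← (hc _ (l2 (l1 k))).resolve_left
      fun k => ab (commutatorElement_eq_one_iff_mul_comm.1 k)]
    exact k
  exact ⟨⟨hQ, le_antisymm l2 (l3.trans l1), le_antisymm (l1.trans l2) l3⟩,
    by rw [e, Nat.card_zpowers, oz]⟩

variable {G : Type u} [Group G] {M V : Subgroup G} {π : G → S6} {e : Fin 6 → Fin 6 → G}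

theorem relabel (h : EG M V π e) {τ : S6} (s : Perm.sign τ = 1) :
    EG M V (fun g => τ⁻¹ * π g * τ) fun i j => e (τ i) (τ j) := by
  obtain ⟨m, hm, k⟩ := h.p6.alt τ s
  refine ⟨⟨h.p6.le, h.p6.two, fun a ha b hb => ?_, fun a ha => ?_, fun σ s => ?_, h.p6.ch, h.p6.ne,
    h.p6.fp⟩, ⟨fun _ _ _ => h.cd.tri _ _ _, fun _ => h.cd.dia _, fun _ _ => h.cd.sym _ _, ?_,
      fun a ha i j => ?_, fun v => ?_, fun i j k l n q => ?_⟩, h.ea, h.card, h.nor, h.c2⟩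
  · rw [h.p6.mul a ha b hb]; group
  · rw [← h.p6.ker a ha, mul_assoc, inv_mul_eq_one, right_eq_mul]
  · obtain ⟨a, ha, k⟩ := h.p6.alt (τ * σ * τ⁻¹) (by simp [s])
    exact ⟨a, ha, by rw [k]; group⟩
  · rw [← k, ← h.cd.eqv m hm, ← h.cd.eqv m hm, ← h.cd.eqv m hm, conj_mul, conj_mul, h.cd.rel]
    simp
  · simp [h.cd.eqv a ha]
  · exact (h.cd.mem v).trans ⟨fun ⟨i, j, k⟩ => ⟨τ.symm i, τ.symm j, by simpa using k⟩,
      fun ⟨_, _, k⟩ => ⟨_, _, k⟩⟩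
  · simpa using h.cd.inj _ _ _ _ (τ.injective.ne n) q

theorem cardle [Finite G] (h : P6 M V π) {Q : Subgroup G} (hQ : Q ≤ M) {l : List S6}
    (hl : ∀ r ∈ Q, π r ∈ l) : Nat.card Q ≤ Nat.card ↥(V ⊓ Q) * l.length := by
  let f : Q →* S6 := MonoidHom.mk' (fun m => π m) fun a b => h.mul a (hQ a.2) b (hQ b.2)
  have k : f.ker = (V ⊓ Q).subgroupOf Q := Subgroup.ext fun m =>
    (h.ker m (hQ m.2)).trans (and_iff_left m.2).symm
  rw [← card_mul_index f.ker, index_ker, k, Nat.card_congr (subgroupOfEquivOfLe inf_le_right).toEquiv]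
  refine Nat.mul_le_mul_left _ (le_trans ?_ l.toFinset_card_le)
  rw [← Set.ncard_coe_finset, ← Nat.card_coe_set_eq]
  exact Nat.card_mono (Set.toFinite _) (by rintro _ ⟨r, rfl⟩; exact List.mem_toFinset.2 (hl r r.2))

theorem main [Finite G] (h : EG M V π e) {Q : Subgroup G} (two : IsPGroup 2 Q) (le : Q ≤ C1 (e 0 1))
    (nor : C1 (e 0 1) ≤ Ns Q) (QM : Q ≤ M) (VQ : ¬ V ≤ Q)
    (k1 : ∀ k l : Fin 6, k ≠ 0 → k ≠ 1 → l ≠ 0 → l ≠ 1 → e k l ∈ Q)
    (k2 : ∀ r ∈ Q, π r ∈ L8 ∧ (Perm.sign (π r) = 1 → π r ∈ L4)) :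
    Nat.card Q ≤ 64 ∧ (Phi Q).relIndex Q ≤ 32 ∧ ((∀ m ∈ M, Perm.sign (π m) = 1) →
      Nat.card Q ≤ 32 ∧ (Nat.card Q = 32 → IsExtraspecial 2 Q)) := by
  have zQ : e 0 1 ∈ Q := mul_eq h (i := 2) (j := 3) (k := 4) (l := 5) (p := 0) (q := 1) (by decide) ▸
    mul_mem (k1 _ _ (by decide) (by decide) (by decide) (by decide))
      (k1 _ _ (by decide) (by decide) (by decide) (by decide))
  have i2 : ∀ a b : Fin 6, (a.1 < 2 ↔ b.1 < 2) → e a b ∈ Q := fun a b k => by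
    rcases (by decide : ∀ a b : Fin 6, (a.1 < 2 ↔ b.1 < 2) → a = b ∨ D a b 0 1 ∨
      (a ≠ 0 ∧ a ≠ 1 ∧ b ≠ 0 ∧ b ≠ 1)) a b k with rfl | k | k
    · exact h.cd.dia a ▸ one_mem Q
    · exact (eq_iff h).2 k ▸ zQ
    · exact k1 a b k.1 k.2.1 k.2.2.1 k.2.2.2
  have o2 : ∀ p q : Fin 6, e p q ∈ Q → (p.1 < 2 ↔ q.1 < 2) := fun p q k => by
    by_contra n
    have : ∀ a, e a q ∈ Q := fun a => by
      by_cases c : a.1 < 2 ↔ q.1 < 2
      · exact i2 a q c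
      · exact h.cd.tri a p q ▸ mul_mem (i2 a p (by tauto)) k
    refine VQ fun v hv => ?_
    obtain ⟨a, b, rfl⟩ := (h.cd.mem v).1 hv
    exact h.cd.tri a q b ▸ mul_mem (this a) (h.cd.sym b q ▸ this b)
  have c8 : Nat.card ↥(V ⊓ Q) ≤ 8 := by
    have l := card_lt_of_lt (inf_lt_left.2 VQ)
    obtain ⟨k, hk⟩ := card_dvd_of_le (inf_le_left : V ⊓ Q ≤ V)
    rw [h.card] at l hk
    rcases k with _ | _ | k <;> nlinarith
  have cl := fun l hl => (cardle h.p6 QM (l := l) hl).trans (Nat.mul_le_mul_right _ c8)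
  have c64 := cl L8 fun r hr => (k2 r hr).1
  have nc : ∀ r ∈ Q, π r ∈ [1, swap 0 1] ∨ ∃ v ∈ Q, r * v ≠ v * r := fun r hr =>
    (f2 _ (k2 r hr).1).imp_right fun ⟨m, m1, m2⟩ =>
      ⟨_, i2 2 m (iff_of_false (by decide) m1), fun k => m2 ((comm_iff h (QM hr)).1 k)⟩
  refine ⟨c64, ?_, fun ev => ?_⟩
  · have c := card_mul_relIndex (map_subtype_le (frattini Q))
    by_cases k : ∀ r ∈ Q, π r ∈ [1, swap 0 1]
    · have := cl _ k
      have : 0 < Nat.card (Phi Q) := Nat.card_pos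
      simp only [List.length] at *
      nlinarith
    · push Not at k
      obtain ⟨r, hr, k⟩ := k
      obtain ⟨v, hv, k⟩ := (nc r hr).resolve_left k
      have : 1 < Nat.card (Phi Q) := (one_lt_card_iff_ne_bot _).2 fun n => k
        (commutatorElement_eq_one_iff_mul_comm.1 (n.le (Solv.commutator_le_map_frattini two
          (commutator_mem_commutator hr hv))))
      have : Nat.card Q ≤ 64 := c64
      nlinarith
  have k4 := fun r hr => f4 _ ((k2 r hr).2 (ev r (QM hr)))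
  refine ⟨cl L4 fun r hr => (k2 r hr).2 (ev r (QM hr)), fun c32 => ?_⟩
  obtain ⟨x, xM, hx⟩ := h.p6.alt xi (by decide)
  have xz : x * e 0 1 = e 0 1 * x := (comm_iff h xM).2 (by rw [hx]; decide)
  have xQ : ∀ {r}, r ∈ Q → x * r * x⁻¹ ∈ Q := mem_normalizer_conj (nor (mem_C1.2 xz))
  have xb : ∀ {g}, x * g * x⁻¹ = 1 ∨ x * g * x⁻¹ = e 0 1 → g = 1 ∨ g = e 0 1 := fun k =>
    k.imp conj_eq_one_iff.1 fun k => by
      rwa [mul_inv_eq_iff_eq_mul, ← xz, mul_left_cancel_iff] at k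
  have F1 : ∀ r ∈ Q, ∀ v ∈ Q, v ∈ V → r * v = v * r ∨ r * v = v * e 0 1 * r := fun r hr v hv k => by
    obtain ⟨p, q, rfl⟩ := (h.cd.mem v).1 k
    exact ((k4 r hr).1 p q (o2 p q hv)).imp (comm_iff h (QM hr)).2 fun k => by
      rw [mul_eq h k, ← h.cd.eqv r (QM hr), inv_mul_cancel_right]
  have F2 : ∀ A ∈ Q, π A ≠ 1 → ∀ v ∈ Q, v ∈ V → A * v = v * A →
      x * A * x⁻¹ * v = v * (x * A * x⁻¹) → v = 1 ∨ v = e 0 1 := fun A hA n v hv k a b => by
    obtain ⟨p, q, rfl⟩ := (h.cd.mem v).1 k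
    rw [comm_iff h (QM (xQ hA)), pi_conj h xM (QM hA), hx] at b
    exact (((k4 A hA).2.2 n).2 p q (o2 p q hv) ((comm_iff h (QM hA)).1 a) b).imp (eq_one_iff h).2
      (eq_iff h).2
  have sV : ∀ r ∈ Q, r * r ∈ V := fun r hr => by
    rw [← h.p6.ker _ (QM (mul_mem hr hr)), h.p6.mul _ (QM hr) _ (QM hr)]
    exact (by decide +kernel : ∀ σ ∈ L8, σ * σ = 1) _ (k2 r hr).1
  have sq2 : ∀ A ∈ Q, A * A = 1 ∨ A * A = e 0 1 := fun A hA => by
    by_contra n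
    have n1 : π A ≠ 1 := fun k => n (.inl (sq h ((h.p6.ker A (QM hA)).1 k)))
    have hB := xQ hA
    have hC := xQ hB
    have hAB := mul_mem hA hB
    have h1 := (F1 _ hB _ (mul_mem hA hA) (sV A hA)).resolve_left fun k =>
      n (F2 A hA n1 _ (mul_mem hA hA) (sV A hA) (mul_assoc _ _ _).symm k)
    have h2 := (F1 _ hA _ (mul_mem hB hB) (sV _ hB)).resolve_left fun k => n (xb (conj_mul (b := x) (a := A) ▸
      F2 A hA n1 _ (mul_mem hB hB) (sV _ hB) k (mul_assoc _ _ _).symm))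
    have h3 := aux h1 h2 (mem_C1.1 (le hA)) (sq h (sV A hA)) (sq h (sV _ hB)) (sq h (sV _ hAB))
    have h4 := F2 A hA n1 _ (mul_mem hAB hAB) (sV _ hAB) h3 (mul_left_cancel (a := A) (by
      rw [← mul_assoc A (_ * _ * _) (x * A * x⁻¹), h3]; simp only [mul_assoc]))
    have hv := mem_of_pi_eq h (QM hC) (QM hAB) (by
      rw [h.p6.mul _ (QM hA) _ (QM hB), pi_conj h xM (QM hB), pi_conj h xM (QM hA), hx,
        ((k4 A hA).2.2 n1).1])
    have h5 := F1 _ hC _ (mul_mem (inv_mem hC) hAB) hv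
    have v2 := sq h hv
    have zC := mem_C1.1 (le hC)
    refine n (xb (xb ?_))
    rw [← conj_mul (a := A), ← conj_mul (a := x * A * x⁻¹)]
    generalize x * (x * A * x⁻¹) * x⁻¹ = C at *
    obtain ⟨v, k⟩ : ∃ v, A * (x * A * x⁻¹) = C * v := ⟨_, (mul_inv_cancel_left _ _).symm⟩
    rw [k, inv_mul_cancel_left] at h5 v2
    rw [k] at h4
    rcases h5 with h5 | h5
    · rwa [mul_assoc, ← mul_assoc v, ← h5, mul_assoc, v2, mul_one] at h4
    · have : C * v * (C * v) = C * C * e 0 1 := by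
        conv_lhs => rw [mul_assoc, h5, ← mul_assoc v, ← mul_assoc v, v2, one_mul, ← zC, ← mul_assoc]
      rw [this] at h4
      exact h4.symm.imp mul_eq_right.1 fun k => (eq_inv_of_mul_eq_one_left k).trans
        (inv_eq h (mem h 0 1))
  obtain ⟨A, hA, n⟩ : ∃ A ∈ Q, π A ≠ 1 := by
    by_contra! k
    have := cl [1] (by simpa using k)
    rw [c32] at this
    exact absurd this (by decide)
  obtain ⟨v, hv, k⟩ := (nc A hA).resolve_left fun k => n ((k4 A hA).2.1 k)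
  refine esp two (z := ⟨_, zQ⟩) ?_ (mem_center_iff.2 fun g => Subtype.ext (mem_C1.1 (le g.2)))
    (fun g hg => ?_) (fun g => (sq2 g g.2).imp Subtype.ext Subtype.ext) (a := ⟨A, hA⟩) (b := ⟨v, hv⟩)
    fun q => k (congrArg Subtype.val q)
  · rw [← orderOf_coe]
    exact orderOf_eq_prime (h.ea.2 _ (mem h 0 1)) fun k => absurd ((eq_one_iff h).1 k) (by decide)
  · have c := fun r hr => congrArg Subtype.val (mem_center_iff.1 hg ⟨r, hr⟩)
    exact (F2 A hA n g g.2 ((h.p6.ker _ (QM g.2)).1 ((k4 g g.2).2.1 ((nc g g.2).resolve_right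
      fun ⟨v, hv, k⟩ => k (c v hv).symm))) (c A hA) (c _ (xQ hA))).imp Subtype.ext Subtype.ext

end KX

open KX in
theorem kx (hKZ : StKZ.{u}) : StKX.{u} := by
  intro G _ _ M V π e h z hz z1 QM VQ
  obtain ⟨i, j, rfl⟩ := (h.cd.mem z).1 hz
  obtain ⟨τ, rfl, rfl, s⟩ := tr i j fun k => z1 ((KCk.eq_one_iff h).2 k)
  obtain ⟨k1, k2⟩ := hKZ G M V _ _ (relabel h s) 0 1 (by decide)
  have := main (relabel h s) (Local.MSS.isPGroup_pCoreOf _) (Local.MSS.pCoreOf_le _)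
    (Local.MSS.self_le_normalizer_pCoreOf _) QM VQ k1 fun r hr =>
      let ⟨a, b, c⟩ := k2 r ⟨hr, QM hr⟩; f8 _ b a c
  exact ⟨this.1, this.2.1, fun ev => this.2.2 fun m hm => by simp [ev m hm]⟩

end Cfsg.Lib.K35
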