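import Cfsg.Agent.K35.Loc
import Cfsg.Agent.P8.Bas2
import Cfsg.Agent.S0028

/-!
# The 2-core of the centralizer of a duad
-/

set_option autoImplicit false

namespace Cfsg.Lib.K35

open Cfsg Subgroup Cfsg.Lib.Trans Cfsg.Lib.Gold
open Cfsg.Lib.P8 (A5 A6 S5 O2 Om Jt Phi EA SR4 Ch E9 Pj Ty Sec SecOK Mx)
open scoped commutatorElement

universe u

namespace KZ

open Equiv

/-- The three-cycle `(2 3 4)`. -/
abbrev s3 : S6 := swap 2 3 * swap 3 4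

theorem fin : ∀ a b : Fin 6, (a = 0 ∧ b = 1 ∨ a = 1 ∧ b = 0) → ∀ c d e f : Fin 6,
    (∀ x, (![a, b, c, d, e, f])^[16] x = x) →
    (∀ x, (fun y => ![a, b, c, d, e, f] (s3 (![a, b, c, d, e, f] (s3⁻¹ y))))^[16] x = x) →
    (∀ x, ![a, b, c, d, e, f] (![a, b, c, d, e, f] x) = x) ∧
      ((∀ k, k ≠ 0 → k ≠ 1 → ![a, b, c, d, e, f] k = k) ∨
        ∀ k, k ≠ 0 → k ≠ 1 → ![a, b, c, d, e, f] k ≠ k) := by decide +kernel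

theorem p16 {ρ : S6} {k : ℕ} (h : ρ ^ 2 ^ k = 1) (x : Fin 6) : ρ^[16] x = x := by
  have h1 : orderOf ρ ∣ 16 * 45 := by
    simpa [Fintype.card_perm, Nat.factorial] using orderOf_dvd_card (x := ρ)
  rw [Perm.iterate_eq_pow, orderOf_dvd_iff_pow_eq_one.1 ((Nat.Coprime.coprime_dvd_left
    (orderOf_dvd_of_pow_eq_one h) (Nat.Coprime.pow_left k (by norm_num))).dvd_of_dvd_mul_right h1)]
  rfl

theorem fin' {ρ : S6} (h : ρ 0 = 0 ∧ ρ 1 = 1 ∨ ρ 0 = 1 ∧ ρ 1 = 0) {k l : ℕ} (h1 : ρ ^ 2 ^ k = 1)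
    (h2 : (ρ * (s3 * ρ * s3⁻¹)) ^ 2 ^ l = 1) :
    ρ * ρ = 1 ∧ ((∀ k, k ≠ 0 → k ≠ 1 → ρ k = k) ∨ ∀ k, k ≠ 0 → k ≠ 1 → ρ k ≠ k) := by
  have e : ![ρ 0, ρ 1, ρ 2, ρ 3, ρ 4, ρ 5] = ρ := funext fun i => by fin_cases i <;> rfl
  have := fin _ _ h (ρ 2) (ρ 3) (ρ 4) (ρ 5)
  rw [e] at this
  exact (this (p16 h1) (p16 h2)).imp_left fun a => Equiv.ext a

theorem even (τ : S6) (a b : Fin 6) (h : a ≠ b) : Perm.sign τ = 1 ∨ Perm.sign (τ * swap a b) = 1 :=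
  (Int.units_eq_one_or _).imp_right fun e => by rw [map_mul, e, Perm.sign_swap h]; rfl

theorem tr2 {i j : Fin 6} (h : i ≠ j) : ∃ τ : S6, Perm.sign τ = 1 ∧ τ 0 = i ∧ τ 1 = j := by
  have : ∀ i j : Fin 6, i ≠ j → (swap 0 i * swap 1 (swap 0 i j)) 0 = i ∧
    (swap 0 i * swap 1 (swap 0 i j)) 1 = j := by decide +kernel
  rcases even (swap 0 i * swap 1 (swap 0 i j)) 2 3 (by decide) with e | e
  exacts [⟨_, e, this i j h⟩, ⟨_, e, this i j h⟩]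

theorem tr4 {k l k' l' : Fin 6} (h : k ≠ l ∧ k ≠ 0 ∧ k ≠ 1 ∧ l ≠ 0 ∧ l ≠ 1)
    (h' : k' ≠ l' ∧ k' ≠ 0 ∧ k' ≠ 1 ∧ l' ≠ 0 ∧ l' ≠ 1) : ∃ τ : S6, Perm.sign τ = 1 ∧
      (τ 0 = 0 ∧ τ 1 = 1 ∨ τ 0 = 1 ∧ τ 1 = 0) ∧ τ k = k' ∧ τ l = l' := by
  have : ∀ k l k' l' : Fin 6, k ≠ l ∧ k ≠ 0 ∧ k ≠ 1 ∧ l ≠ 0 ∧ l ≠ 1 →
    k' ≠ l' ∧ k' ≠ 0 ∧ k' ≠ 1 ∧ l' ≠ 0 ∧ l' ≠ 1 → ∀ b : Bool,
    let τ := swap k k' * swap l (swap k k' l') * (if b then swap 0 1 else 1)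
    (τ 0 = 0 ∧ τ 1 = 1 ∨ τ 0 = 1 ∧ τ 1 = 0) ∧ τ k = k' ∧ τ l = l' := by decide +kernel
  rcases even (swap k k' * swap l (swap k k' l')) 0 1 (by decide) with e | e
  exacts [⟨_, e, this k l k' l' h h' false⟩, ⟨_, e, this k l k' l' h h' true⟩]

variable {G : Type u} [Group G] [Finite G] {M V : Subgroup G} {π : G → S6} {e : Fin 6 → Fin 6 → G}

omit [Finite G] in
theorem rel (h : EG M V π e) {τ : S6} (hτ : Perm.sign τ = 1) :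
    EG M V (fun g => τ⁻¹ * π g * τ) fun a b => e (τ a) (τ b) := by
  have p := h.p6
  have c := h.cd
  refine ⟨⟨p.le, p.two, fun a ha b hb => by rw [p.mul a ha b hb]; group, fun a ha => ?_,
    fun σ hσ => ?_, p.ch, p.ne, p.fp⟩, ⟨fun _ _ _ => c.tri _ _ _, fun _ => c.dia _,
    fun _ _ => c.sym _ _, ?_, fun g hg i j => by simp [c.eqv g hg], fun v => ⟨fun hv => ?_,
    fun ⟨_, _, hv⟩ => (c.mem v).2 ⟨_, _, hv⟩⟩, fun i j k l n a => ?_⟩, h.ea, h.card, h.nor, h.c2⟩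
  · rw [← p.ker a ha, mul_assoc, inv_mul_eq_one, right_eq_mul]
  · obtain ⟨m, hm, a⟩ := p.alt (τ * σ * τ⁻¹) (by simp [hτ, hσ])
    exact ⟨m, hm, by rw [a]; group⟩
  · obtain ⟨m, hm, rfl⟩ := p.alt τ hτ
    rw [← c.eqv m hm, ← c.eqv m hm, ← c.eqv m hm, conj_mul, conj_mul, c.rel]; simp
  · obtain ⟨i, j, rfl⟩ := (c.mem v).1 hv
    exact ⟨τ⁻¹ i, τ⁻¹ j, by simp⟩
  · simpa using c.inj _ _ _ _ (τ.injective.ne n) a

omit [Finite G] in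
theorem hom (h : EG M V π e) : ∃ f : M →* S6, ∀ g (hg : g ∈ M), π g = f ⟨g, hg⟩ :=
  ⟨MonoidHom.mk' (fun a => π a) fun a b => h.p6.mul a a.2 b b.2, fun _ _ => rfl⟩

omit [Finite G] in
theorem cen (h : EG M V π e) {m : G} (hm : m ∈ M)
    (k : π m 0 = 0 ∧ π m 1 = 1 ∨ π m 0 = 1 ∧ π m 1 = 0) : m ∈ C1 (e 0 1) :=
  mem_C1.2 (mul_inv_eq_iff_eq_mul.1 (by
    rw [h.cd.eqv m hm]
    rcases k with ⟨a, b⟩ | ⟨a, b⟩ <;> rw [a, b]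
    exact h.cd.sym _ _))

theorem p2 (h : EG M V π e) {r : G} (hr : r ∈ O2 (C1 (e 0 1)) ⊓ M) :
    π r * π r = 1 ∧ ((π r 0 = 0 ∧ π r 1 = 1) ∨ (π r 0 = 1 ∧ π r 1 = 0)) ∧
      ((∀ k, k ≠ 0 → k ≠ 1 → π r k = k) ∨ ∀ k, k ≠ 0 → k ≠ 1 → π r k ≠ k) := by
  obtain ⟨f, hf⟩ := hom h
  have tw : ∀ g (hg : g ∈ O2 (C1 (e 0 1)) ⊓ M), ∃ k, π g ^ 2 ^ k = 1 := fun g hg => by
    obtain ⟨k, hk⟩ := Local.isPGroup_pCoreOf _ ⟨g, hg.1⟩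
    exact ⟨k, by rw [hf g hg.2, ← map_pow, ← map_one f]; congr 1; exact Subtype.ext congr(($hk).1)⟩
  have a := h.cd.inj 0 1 (π r 0) (π r 1) (by decide) (by
    rw [← h.cd.eqv r hr.2, mem_C1.1 (Local.pCoreOf_le _ hr.1), mul_inv_cancel_right])
  replace a : π r 0 = 0 ∧ π r 1 = 1 ∨ π r 0 = 1 ∧ π r 1 = 0 :=
    a.imp (fun a => ⟨a.1.symm, a.2.symm⟩) fun a => ⟨a.2.symm, a.1.symm⟩
  obtain ⟨m, hm, b⟩ := h.p6.alt s3 (by decide)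
  obtain ⟨k, hk⟩ := tw r hr
  have m1 := mul_mem (mul_mem hm hr.2) (inv_mem hm)
  obtain ⟨l, hl⟩ := tw _ (mul_mem hr (mem_inf.2 ⟨mem_normalizer_conj (Local.le_normalizer_pCoreOf _
    (cen h hm (by rw [b]; decide))) hr.1, m1⟩))
  rw [h.p6.mul _ hr.2 _ m1, h.p6.mul _ (mul_mem hm hr.2) _ (inv_mem hm), h.p6.mul _ hm _ hr.2,
    show π m⁻¹ = (π m)⁻¹ by rw [hf _ hm, ← map_inv]; exact hf _ _, b] at hl
  exact ⟨(fin' a hk hl).1, a, (fin' a hk hl).2⟩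

theorem p1 (hKT : StKT.{u}) (h : EG M V π e) :
    ∃ k l, (k ≠ l ∧ k ≠ 0 ∧ k ≠ 1 ∧ l ≠ 0 ∧ l ≠ 1) ∧ e k l ∈ O2 (C1 (e 0 1)) := by
  have : Fact (Nat.Prime 2) := ⟨Nat.prime_two⟩
  have : Fact (Nat.Prime 3) := ⟨Nat.prime_three⟩
  have c := h.cd
  have mV : ∀ i j, e i j ∈ V := fun i j => (c.mem _).2 ⟨i, j, rfl⟩
  obtain ⟨x, hx, px, ox⟩ : ∃ x ∈ M, π x = s3 ∧ orderOf x = 3 := by
    obtain ⟨f, hf⟩ := hom h
    obtain ⟨m, hm, b⟩ := h.p6.alt s3 (by decide)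
    have a : ∀ n : ℕ, π (m ^ n) = s3 ^ n := fun n => by
      rw [← b, hf _ hm, ← map_pow]; exact hf _ _
    refine ⟨m ^ 4, pow_mem hm 4, by rw [a]; decide, orderOf_eq_prime ?_ fun k => ?_⟩
    · rw [← pow_mul, show 4 * 3 = 3 * 2 * 2 from rfl, pow_mul, pow_mul,
        h.ea.2 _ ((h.p6.ker _ (pow_mem hm 3)).1 (by rw [a]; decide)), one_pow]
    · exact absurd ((a 4).symm.trans ((h.p6.ker _ (pow_mem hm 4)).2 (k ▸ one_mem V))) (by decide)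
  have xz := cen h hx (by rw [px]; decide)
  have oz : orderOf (e 0 1) = 2 := orderOf_eq_prime (h.ea.2 _ (mV _ _)) fun k => by
    simpa using c.inj 0 1 0 0 (by decide) (k.trans (c.dia 0).symm)
  have le : closure {e 0 1, e 1 5} ≤ V := (closure_le _).2 (by rintro _ (rfl | rfl) <;> exact mV _ _)
  obtain ⟨r, hr, r1, r2⟩ : ∃ r ∈ O2 (C1 (e 0 1)), r ∈ C1 (e 1 5) ∧ r ∉ C1 x := by
    by_contra! k
    have a := (P8.Bas2H.chl h.c2 (P8.Bas2H.loc oz)).1 ⟨xz, Agent.S0028.result 2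
      (closure {e 0 1, e 1 5}) (zpowers x) (O2 (C1 (e 0 1))) (h.p6.two.to_le le)
      (by rw [Nat.card_zpowers, ox]; norm_num) (Local.isPGroup_pCoreOf _)
      ((closure_le _).2 ?_) (le.trans fun v hv => Local.le_normalizer_pCoreOf _ (mem_C1.2
        congr(($(h.ea.1.is_comm.comm ⟨v, hv⟩ ⟨_, mV 0 1⟩)).1)))
      (zpowers_le.2 (Local.le_normalizer_pCoreOf _ xz))
      (fun r hr => (Cs_zpowers x).ge (k r hr.1 (Cs_le_C1 (subset_closure (by simp)) hr.2)))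
      (mem_zpowers x)⟩
    · obtain ⟨n, hn⟩ := P8.Bas1H.ord_pow (Local.isPGroup_pCoreOf _) a
      exact absurd ((Nat.prime_three.dvd_of_dvd_pow (m := 2) (n := n) (by rw [← hn, ox]))) (by decide)
    · rintro _ (rfl | rfl) <;> refine (Cs_zpowers x).ge (mem_C1.2 (mul_inv_eq_iff_eq_mul.1 ?_).symm) <;>
        rw [c.eqv x hx, px] <;> rfl
  have rM : r ∈ M := by
    rw [← h.nor, ← hKT G M V π e h 0 1 5 (by decide) (by decide) (by decide)]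
    exact Local.le_normalizer_pCoreOf _ ⟨Local.pCoreOf_le _ hr, r1⟩
  obtain ⟨-, a1, a2⟩ := p2 h ⟨hr, rM⟩
  have a3 := c.inj 1 5 (π r 1) (π r 5) (by decide) (by
    rw [← c.eqv r rM, mem_C1.1 r1, mul_inv_cancel_right])
  obtain ⟨p, q, rfl⟩ := (c.mem r).1 ((h.p6.ker r rM).1 (Equiv.ext fun i => by
    rcases a3 with ⟨b1, b5⟩ | ⟨-, b1⟩
    · by_cases i0 : i = 0
      · exact i0 ▸ (a1.resolve_right fun a => by simp [a.2] at b1).1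
      by_cases i1 : i = 1
      · exact i1 ▸ b1.symm
      exact a2.resolve_right (fun a => a 5 (by decide) (by decide) b5.symm) i i0 i1
    · rcases a1 with a | a <;> simp [a.2] at b1))
  have b := mul_mem hr (mem_normalizer_conj (Local.le_normalizer_pCoreOf _ xz) hr)
  have n : e (s3 p) (s3 q) ≠ e p q := fun k => r2 (mem_C1.2 (mul_inv_eq_iff_eq_mul.1 (by
    rw [c.eqv x hx, px, k])).symm)
  have mv : ∀ p, s3 p ≠ p → p ≠ s3 p ∧ p ≠ 0 ∧ p ≠ 1 ∧ s3 p ≠ 0 ∧ s3 p ≠ 1 := by decide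
  rw [c.eqv x hx, px] at b
  by_cases hp : s3 p = p <;> by_cases hq : s3 q = q
  · exact (n (by rw [hp, hq])).elim
  · exact ⟨q, _, mv q hq, by rwa [hp, c.sym p q, c.tri] at b⟩
  · exact ⟨p, _, mv p hp, by rwa [hq, c.sym (s3 p) q, c.tri] at b⟩
  · exact ⟨p, q, ⟨fun k => n (by rw [k, c.dia, c.dia]), (mv p hp).2.1, (mv p hp).2.2.1,
      (mv q hq).2.1, (mv q hq).2.2.1⟩, hr⟩

theorem p3 (hKT : StKT.{u}) (h : EG M V π e) {k l : Fin 6} (h1 : k ≠ 0) (h2 : k ≠ 1) (h3 : l ≠ 0)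
    (h4 : l ≠ 1) : e k l ∈ O2 (C1 (e 0 1)) := by
  by_cases n : k = l
  · rw [n, h.cd.dia]; exact one_mem _
  obtain ⟨p, q, a, b⟩ := p1 hKT h
  obtain ⟨τ, t1, t2, rfl, rfl⟩ := tr4 a ⟨n, h1, h2, h3, h4⟩
  obtain ⟨m, hm, rfl⟩ := h.p6.alt τ t1
  rw [← h.cd.eqv m hm]
  exact mem_normalizer_conj (Local.le_normalizer_pCoreOf _ (cen h hm t2)) b

end KZ

open KZ in
theorem kz (hKT : StKT.{u}) : StKZ.{u} := fun G _ _ M V π e h i j n => by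
  obtain ⟨τ, t1, rfl, rfl⟩ := tr2 n
  have h' := rel h t1
  have ne : ∀ {k a : Fin 6}, k ≠ τ a → τ⁻¹ k ≠ a := fun a b => a (by rw [← b]; simp)
  have eq : ∀ {r : G} {a b : Fin 6}, (τ⁻¹ * π r * τ) a = b ↔ π r (τ a) = τ b := by
    intro r a b
    rw [Equiv.Perm.mul_apply, Equiv.Perm.mul_apply, Equiv.Perm.inv_eq_iff_eq]
  refine ⟨fun k l a b c d => by simpa using p3 hKT h' (ne a) (ne b) (ne c) (ne d), fun r hr => ?_⟩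
  obtain ⟨a, b, c⟩ := p2 h' hr
  simp only [eq, ne_eq] at b c
  refine ⟨?_, b, c.imp (fun c k k0 k1 => ?_) fun c k k0 k1 => ?_⟩
  · rw [← mul_left_inj τ, ← mul_right_inj τ⁻¹, one_mul, inv_mul_cancel, ← a]; group
  · simpa using c _ (ne k0) (ne k1)
  · simpa using c _ (ne k0) (ne k1)

end Cfsg.Lib.K35
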