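import Cfsg.Agent.K35.KZq

/-!
# Simple groups of order `2 ^ b * 3 ^ a * 5`: the top of `T` in the type `3 × S₃`
-/

set_option autoImplicit false

namespace Cfsg.Lib.K35

open Cfsg Subgroup Cfsg.Lib.Trans Cfsg.Lib.Gold
open Cfsg.Lib.P8 (A5 A6 S5 O2 Om Jt Phi EA SR4 Ch E9 Pj Ty Sec SecOK Mx)
open scoped commutatorElement

universe u

namespace KZa

variable {G : Type u} [Group G] [Finite G] {M T S K V₀ U W : Subgroup G} {π : G → A5} {x u : G}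

theorem ne0 (A B : Subgroup G) : A.relIndex B ≠ 0 := index_ne_zero_of_finite

namespace Cx

variable (h : Cx M T S K π x V₀ U W) (hZ : TZ S K x u)
include h hZ

theorem i2 : (O2 K).relIndex T = 2 := by
  have h1 := relIndex_le_of_le_right (H := O2 K) h.b.le (ne0 _ _)
  have h2 := ne0 (O2 K) T
  have h3 : (O2 K).relIndex T ≠ 1 := fun e => by
    have := relIndex_eq_one.2 (h.c.sup.ge.trans (sup_le le_rfl (relIndex_eq_one.1 e)))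
    rw [hZ.idx] at this
    omega
  rw [hZ.idx] at h1
  omega

theorem i4 : T.relIndex (O2 K) = 4 := by
  have h1 := relIndex_mul_relIndex _ _ _ (inf_le_left : T ⊓ O2 K ≤ T) h.b.le
  have h2 := relIndex_mul_relIndex _ _ _ (inf_le_right : T ⊓ O2 K ≤ O2 K) h.k.leQ
  rw [inf_relIndex_left, h.i2 hZ, h.b.idx] at h1
  rw [inf_relIndex_right, hZ.idx] at h2
  omega

theorem ext : ∃ t ∈ T, t ∉ O2 K := SetLike.not_le_iff_exists.1 fun e => by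
  have := relIndex_eq_one.2 e
  rw [h.i2 hZ] at this
  omega

omit [Finite G] h in
theorem uu : u * u = u⁻¹ := eq_inv_of_mul_eq_one_left (by
  rw [← pow_three', ← hZ.ou, pow_orderOf_eq_one])

theorem key1 {v : G} (hv : v ∈ Om T) (h1 : u * v * u⁻¹ ∈ Om T) : v ∈ V₀ := by
  obtain ⟨t, t1, t2⟩ := h.ext hZ
  have h2 := mem_normalizer_conj' (h.s3.n2 (h.SM (h.k.leQ (hZ.inv t (h.b.le t1) t2))))
    (mem_normalizer_conj (h.s3.n2 (h.a.ty.le t1)) h1)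
  rw [show (t * u * t⁻¹ * u)⁻¹ * (t * (u * v * u⁻¹) * t⁻¹) * (t * u * t⁻¹ * u) =
    u⁻¹ * (t * v * t⁻¹) * u by group, ← h.cV hv t1, mul_inv_cancel_right] at h2
  refine (h.v v).2 fun k hk => ?_
  obtain ⟨s, hs, i, j, rfl⟩ := hZ.gen k hk
  have h3 : u ^ j * v * (u ^ j)⁻¹ ∈ Om T := by
    rw [← pow_mod_orderOf, hZ.ou]
    rcases (show j % 3 = 0 ∨ j % 3 = 1 ∨ j % 3 = 2 by omega) with e | e | e <;> rw [e]
    · simpa using hv
    · simpa using h1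
    · rwa [sq, uu hZ, inv_inv]
  have := mem_normalizer_conj (h.s3.n2 (mul_mem (h.SM hs) (pow_mem h.a.xM i))) h3
  rwa [show s * x ^ i * (u ^ j * v * (u ^ j)⁻¹) * (s * x ^ i)⁻¹ =
    s * x ^ i * u ^ j * v * (s * x ^ i * u ^ j)⁻¹ by group] at this

theorem key2 {v t : G} (hv : v ∈ Om T) (h1 : v ∈ U) (t1 : t ∈ T) (t2 : t ∉ O2 K)
    (h2 : ⁅u * v * u⁻¹, t⁆ ∈ V₀) : u * v * u⁻¹ ∈ Om T := by
  have h3 := mul_mem h2 (flip (((h.u _).1 (mem_normalizer_conj' (h.nU hZ.uK) h1)).2.2.1 _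
    (hZ.inv t (h.b.le t1) t2)))
  have e : ⁅u * v * u⁻¹, t⁆ * ⁅t * u * t⁻¹ * u, u⁻¹ * v * u⁆ = u * v * u⁻¹ * (u⁻¹ * v * u)⁻¹ := by
    calc _ = u * v * u⁻¹ * (t * u * (v⁻¹ * (t⁻¹ * (v * t))) * u⁻¹ * t⁻¹) * (u⁻¹ * v * u)⁻¹ := by
          simp only [commutatorElement_def]; group
      _ = _ := by rw [h.cV hv t1]; group
  rw [e] at h3
  have h4 := mul_mem (h.V0V (mem_normalizer_conj (h.n0 hZ.uK) h3)) hv
  rw [show u * (u * v * u⁻¹ * (u⁻¹ * v * u)⁻¹) * u⁻¹ * v = u * u * v * (u * u)⁻¹ by group, uu hZ,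
    inv_inv] at h4
  have := mul_mem (h.V0V h3) h4
  rwa [inv_mul_cancel_right] at this

end Cx

end KZa

open KZa in
theorem kza (hPhi : StPhi.{u}) (hBil : StBil.{u}) (hMA : StMA.{u}) (hMB : StMB.{u}) (hCore : StCore.{u}) (hZM : StZM.{u}) : StKZa.{u} := by
  intro G _ _ M T S K π x u hA hB hK hZ hC
  obtain ⟨V₀, U, W, h⟩ := exCx hA hB hK hC
  have nQ : K ≤ Ns (O2 K) := Cx.nQ
  have i2 := h.i2 hZ
  obtain ⟨V₁, hV₁⟩ := exU (Q := S) (C := Om T) (hK.le.trans h.n0)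
  have m1 : ∀ v ∈ Om T, (∀ s ∈ S, ⁅v, s⁆ ∈ V₀) → v ∈ V₁ := fun v v1 v2 =>
    (hV₁ v).2 ⟨hB.le (h.s3.leQ v1), by rw [mem_bot.1 (h.s3.sq v v1)]; exact one_mem _, v2, v1⟩
  have m2 : ∀ v ∈ V₁, v ∈ Om T := fun v hv => ((hV₁ v).1 hv).2.2.2
  have m3 : ∀ v ∈ V₁, v ∈ U := fun v hv => h.VU (m2 v hv) ((hV₁ v).1 hv).2.2.1
  have m4 : ∀ v ∈ V₁, u * v * u⁻¹ ∈ W ∧ ∀ s ∈ S, ⁅u * v * u⁻¹, s⁆ ∈ Om T := fun v hv =>
    h.phi hPhi (mem_normalizer_conj (h.nU hZ.uK) (m3 v hv)) (D := T ⊓ O2 K) inf_le_left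
      (by rw [inf_relIndex_left, i2]) fun d hd =>
        h.V0V (((h.u _).1 (mem_normalizer_conj (h.nU hZ.uK) (m3 v hv))).2.2.1 d hd.2)
  obtain ⟨v, v1, v2, v3⟩ := h.exv
  have v4 := m1 v v1 v3
  have v5 : u * v * u⁻¹ ∉ Om T := fun e => v2 (h.key1 hZ v1 e)
  have k1 : T ⊓ Cs W ≤ O2 K := fun t ht => not_not.1 fun e => v5 (h.key2 hZ v1 (m3 v v4) ht.1 e (by
    rw [commutatorElement_eq_one_iff_mul_comm.2 (ht.2 _ (m4 v v4).1)]
    exact one_mem _))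
  obtain ⟨C, hCm⟩ := exC M (O2 K)
  have k2 : T ⊓ Cs W ≤ C := fun t ht =>
    (hCm t).2 fun m hm => k1 (mem_normalizer_conj (h.s2.n1 hm) ht)
  obtain ⟨A, B, C', _, _, _, _, _, _, _, _, _, p₁, p₂, p₃, β, hb⟩ := h.bil hBil
  obtain ⟨H, c1, c2⟩ := img hb.s2 k1
  obtain ⟨H', d1, d2⟩ := img hb.s2 k2
  obtain ⟨C₀, e1, -⟩ := img hb.s3 (bot_le : ⊥ ≤ V₀)
  have mA := hMA A hb.m1
  have mB := hMA B hb.m2
  have mC := hMA C' hb.m3
  have h4 := h.inv4 hb.s2 hB.nT c1 (hK.le.trans nQ) (nQ hK.xK)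
  have k3 : ∀ t ∈ T, t ∈ C ↔ ∀ g : A5, g • p₂ t ∈ H := fun t ht => by
    rw [hCm]
    refine ⟨fun e g => ?_, fun e m hm => ?_⟩
    · obtain ⟨m, hm, rfl⟩ := hA.ty.sur g
      rw [← hb.s2.eqv m hm t ht, c1 _ (mem_normalizer_conj (hB.nT hm) ht)]
      exact e m hm
    · rw [← c1 _ (mem_normalizer_conj (hB.nT hm) ht), hb.s2.eqv m hm t ht]
      exact e _
  have i16 := (hCore B mB H H' (c2.trans i2) h4 fun τ => by
    obtain ⟨t, ht, rfl⟩ := hb.s2.sur τ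
    rw [d1 t ht, k3 t ht]).1
  have k4 : ∀ w ∈ W, ∀ t ∈ T, β (p₁ w) (p₂ t) = 0 ↔ t ∈ C1 w := fun w hw t ht => by
    rw [hb.com w hw t ht, hb.s3.zero _ (((h.w w).1 hw).2.2 t ht), mem_bot,
      commutatorElement_eq_one_iff_mul_comm, mem_centralizer_singleton_iff, eq_comm]
  have k5 : ∀ w ∈ W, Nat.card (H.map (β (p₁ w))) = (C1 w).relIndex (O2 K ⊓ T) := fun w hw => by
    obtain ⟨L, l1, l2⟩ := img hb.s2 (D := C1 w ⊓ O2 K) fun t ht =>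
      ⟨mem_centralizer_singleton_iff.2 (ht.2 w hw).symm, k1 ht⟩
    have l3 : L = (β (p₁ w)).ker ⊓ H := AddSubgroup.ext fun τ => by
      obtain ⟨t, ht, rfl⟩ := hb.s2.sur τ
      rw [l1 t ht, AddSubgroup.mem_inf, AddMonoidHom.mem_ker, k4 w hw t ht, c1 t ht, mem_inf]
    have l4 := AddSubgroup.relIndex_mul_index (l3.le.trans inf_le_right)
    rw [l2, ← relIndex_inf_mul_relIndex, c2, i2, l3, AddSubgroup.inf_relIndex_right,
      AddSubgroup.relIndex_ker] at l4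
    omega
  have k6 : ∀ v ∈ Om T, cj u T ≤ C1 (u * v * u⁻¹) := fun v hv => cj_le_iff.2 fun t ht =>
    mem_centralizer_singleton_iff.2 (by rw [conj_mul, conj_mul, h.cV hv ht])
  have k7 : (cj u T).relIndex (O2 K) = 4 := by
    rw [← cj_eq_of_mem_normalizer (nQ hZ.uK), relIndex_cj, h.i4 hZ]
  have k8 : ∀ w : G, (C1 w).relIndex (O2 K ⊓ T) ≤ (C1 w).relIndex (O2 K) := fun w =>
    relIndex_le_of_le_right inf_le_left (ne0 _ _)
  have k9 : ∀ v ∈ Om T, (C1 (u * v * u⁻¹)).relIndex (O2 K) ≤ 4 := fun v hv =>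
    k7 ▸ relIndex_le_of_le_left (k6 v hv) (ne0 _ _)
  let Ψ : AddSubgroup A :=
    { carrier := {a | ∃ v ∈ V₁, p₁ (u * v * u⁻¹) = a}
      zero_mem' := ⟨1, one_mem _, by simpa using P8.BrgH.p_one hb.s1.add⟩
      add_mem' := by
        rintro _ _ ⟨a, ha, rfl⟩ ⟨b, hb', rfl⟩
        exact ⟨a * b, mul_mem ha hb', by rw [← conj_mul, hb.s1.add _ (m4 a ha).1 _ (m4 b hb').1]⟩
      neg_mem' := by
        rintro _ ⟨a, ha, rfl⟩
        exact ⟨a⁻¹, inv_mem ha, by rw [← conj_inv, P8.BrgH.p_inv hb.s1.add (m4 a ha).1]⟩ }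
  obtain ⟨z1, z2⟩ := hZM A B C' β mA mB mC hb.eqv (hMB A B C' β mA mB mC hb.eqv) Ψ H C₀
    (c2.trans i2) h4 (h.c0 hb.s3 e1) (by
      rintro _ ⟨a, ha, rfl⟩
      refine ⟨h.fs hb.s1 (m4 a ha).1 (m4 a ha).2, x * a * x⁻¹, m1 _
        (mem_normalizer_conj (h.s3.n2 hA.xM) (m2 a ha)) fun s hs => ?_, ?_⟩
      · have := mem_normalizer_conj (h.n0 hK.xK)
          (((hV₁ a).1 ha).2.2.1 _ (mem_normalizer_conj' hB.xN hs))
        rwa [show x * ⁅a, x⁻¹ * s * x⁆ * x⁻¹ = ⁅x * a * x⁻¹, s⁆ by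
          simp only [commutatorElement_def]; group] at this
      · rw [← hA.px, ← hb.s1.eqv x hA.xM _ (m4 a ha).1]
        congr 1
        calc u * (x * a * x⁻¹) * u⁻¹ = u * x * a * (u * x)⁻¹ := by group
          _ = _ := by rw [hZ.ux]; group) (by
      rintro _ ⟨a, ha, rfl⟩ a0 τ hτ e
      obtain ⟨t, ht, rfl⟩ := hb.s2.sur τ
      rw [hb.com _ (m4 a ha).1 t ht, e1 _ ((m4 a ha).2 t (hB.le ht))] at e
      exact a0 ((hb.s1.zero _ (m4 a ha).1).2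
        (h.key2 hZ (m2 a ha) (m3 a ha) ht (fun e => hτ ((c1 t ht).2 e)) e))) (by
      rintro _ ⟨a, ha, rfl⟩
      rw [k5 _ (m4 a ha).1]
      exact (k8 _).trans (k9 a (m2 a ha))) _ ⟨v, v4, rfl⟩
    fun e => v5 ((hb.s1.zero _ (m4 v v4).1).1 e)
  rw [k5 _ (m4 v v4).1] at z1
  have z3 : C1 (u * v * u⁻¹) ⊓ O2 K ≤ cj u T := by
    have a1 := relIndex_inf_mul_relIndex (cj u T) (C1 (u * v * u⁻¹)) (O2 K)
    have a2 := k8 (u * v * u⁻¹)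
    have a3 := k9 v v1
    rw [inf_eq_left.2 (k6 v v1), k7, show (C1 (u * v * u⁻¹)).relIndex (O2 K) = 4 by omega] at a1
    exact relIndex_eq_one.1 (by omega)
  have z4 : C ⊓ T ≤ C1 (u * v * u⁻¹) ⊓ O2 K ⊓ T := fun g hg =>
    ⟨⟨(k4 _ (m4 v v4).1 g hg.2).1 (z2 _ ((k3 g hg.2).1 hg.1)),
      by simpa using (hCm g).1 hg.1 1 (one_mem _)⟩, hg.2⟩
  have z5 : ∀ g, g ∈ C1 (u * v * u⁻¹) ⊓ O2 K ⊓ T ↔ g ∈ T ∧ g ∈ O2 K ∧ u⁻¹ * g * u ∈ T := fun g =>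
    ⟨fun e => ⟨e.2, e.1.2, mem_cj.1 (z3 e.1)⟩, fun e => ⟨⟨k6 v v1 (mem_cj.2 e.2.2), e.2.1⟩, e.1⟩⟩
  have n1 : T ≤ Ns (C1 (u * v * u⁻¹) ⊓ O2 K ⊓ T) := ns fun t ht g hg =>
    ⟨⟨mem_centralizer_singleton_iff.2 (by
      have a1 := h.cV (flip ((m4 v v4).2 _ (inv_mem (hB.le ht)))) hg.2
      have a2 := mem_centralizer_singleton_iff.1 hg.1.1
      generalize u * v * u⁻¹ = w at a1 a2 ⊢
      calc t * g * t⁻¹ * w = t * (g * ⁅t⁻¹, w⁆) * w * t⁻¹ := by rw [commutatorElement_def]; group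
        _ = t * ⁅t⁻¹, w⁆ * (g * w) * t⁻¹ := by rw [← a1]; group
        _ = _ := by rw [a2, commutatorElement_def]; group),
      mem_normalizer_conj (nQ (hK.le (hB.le ht))) hg.1.2⟩, mem_normalizer_conj (le_normalizer ht) hg.2⟩
  have QT : O2 K ≤ Ns T := (hK.leQ.trans h.SM).trans hB.nT
  refine ⟨C ⊓ T, C1 (u * v * u⁻¹) ⊓ O2 K ⊓ T, fun g => by rw [mem_inf, hCm, and_comm], fun e => ?_,
    z4, fun g hg => ⟨hg.2, hg.1.2⟩, ?_, fun k hk => ?_⟩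
  · exact hB.neV (eq_bot_iff.2 fun y hy => e.le ⟨(hCm y).2 fun m hm =>
      hC.le (mem_normalizer_conj (h.s3.n2 hm) hy), h.s3.leQ hy⟩)
  · have a1 := relIndex_mul_relIndex _ _ _ z4 inf_le_right
    rw [inf_relIndex_right, inf_relIndex_right (H := C) (K := T), ← d2, i16,
      ← relIndex_inf_mul_relIndex (C1 _) (O2 K) T, z1, i2] at a1
    omega
  · obtain ⟨s, hs, i, j, rfl⟩ := hZ.gen k hk
    refine mul_mem (mul_mem (sup_le (ns fun q hq g hg => ?_) n1 (hC.sup.ge hs))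
      (pow_mem (mem_normalizer_fintype fun g hg => ?_) i))
      (pow_mem (mem_normalizer_fintype fun g hg => ?_) j)
    all_goals obtain ⟨g1, g2, g3⟩ := (z5 g).1 hg
    · refine (z5 _).2 ⟨mem_normalizer_conj (QT hq) g1, mem_normalizer_conj (le_normalizer hq) g2, ?_⟩
      have := mem_normalizer_conj (QT (mem_normalizer_conj' (nQ hZ.uK) hq)) g3
      rwa [show u⁻¹ * q * u * (u⁻¹ * g * u) * (u⁻¹ * q * u)⁻¹ = u⁻¹ * (q * g * q⁻¹) * u by group]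
        at this
    · refine (z5 _).2 ⟨mem_normalizer_conj (hB.nT hA.xM) g1, mem_normalizer_conj (nQ hK.xK) g2, ?_⟩
      have := mem_normalizer_conj (hB.nT hA.xM) g3
      rwa [show x * (u⁻¹ * g * u) * x⁻¹ = u⁻¹ * (u * x) * u⁻¹ * g * u * (u * x)⁻¹ * u by group,
        hZ.ux, show u⁻¹ * (x * u) * u⁻¹ * g * u * (x * u)⁻¹ * u = u⁻¹ * (x * g * x⁻¹) * u by group]
        at this
    · obtain ⟨t, t1, t2⟩ := h.ext hZ
      have a1 := mem_normalizer_conj' (le_normalizer t1) (mem_normalizer_conj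
        (QT (hZ.inv t (hB.le t1) t2)) ((z5 _).1 (mem_normalizer_conj (n1 t1) hg)).2.2)
      rw [show t⁻¹ * (t * u * t⁻¹ * u * (u⁻¹ * (t * g * t⁻¹) * u) * (t * u * t⁻¹ * u)⁻¹) * t =
        u * g * u⁻¹ by group] at a1
      exact (z5 _).2 ⟨a1, mem_normalizer_conj (nQ hZ.uK) g2, by simpa [mul_assoc] using g1⟩

end Cfsg.Lib.K35
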