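import Cfsg.Agent.K35.Loc
import Cfsg.Agent.P8.PjB
import Cfsg.Agent.P8.Brg
import Cfsg.Agent.Solv.PGroupNormal

/-!
# Simple groups of order `2 ^ b * 3 ^ a * 5`: common tools for the two amalgam types
-/

set_option autoImplicit false

namespace Cfsg.Lib.K35

open Cfsg Subgroup Cfsg.Lib.Trans Cfsg.Lib.Gold
open Cfsg.Lib.P8 (A5 A6 S5 O2 Om Jt Phi EA SR4 Ch E9 Pj Ty Sec SecOK Mx)
open scoped commutatorElement Pointwise

universe u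

namespace KZa

variable {G : Type u} [Group G]

theorem exC (K V : Subgroup G) : ∃ C : Subgroup G, ∀ v, v ∈ C ↔ ∀ k ∈ K, k * v * k⁻¹ ∈ V :=
  ⟨{ carrier := {v | ∀ k ∈ K, k * v * k⁻¹ ∈ V}
     one_mem' := fun k _ => by simp
     mul_mem' := fun {a b} ha hb k hk => by
       have := mul_mem (ha k hk) (hb k hk)
       rwa [conj_mul] at this
     inv_mem' := fun {a} ha k hk => by
       have := inv_mem (ha k hk)
       rwa [conj_inv] at this }, fun _ => Iff.rfl⟩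

theorem ns [Finite G] {K C : Subgroup G} (h : ∀ k ∈ K, ∀ c ∈ C, k * c * k⁻¹ ∈ C) : K ≤ Ns C :=
  fun k hk => mem_normalizer_fintype (h k hk)

theorem nsC [Finite G] {K V C : Subgroup G} (h : ∀ v, v ∈ C ↔ ∀ k ∈ K, k * v * k⁻¹ ∈ V) :
    K ≤ Ns C := ns fun k hk c hc => (h _).2 fun l hl => by
  have := (h c).1 hc _ (mul_mem hl hk)
  rwa [mul_inv_rev, show l * k * c * (k⁻¹ * l⁻¹) = l * (k * c * k⁻¹) * l⁻¹ by group] at this

theorem ns_inf {K A B : Subgroup G} [Finite G] (h1 : K ≤ Ns A) (h2 : K ≤ Ns B) : K ≤ Ns (A ⊓ B) :=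
  ns fun _ hk _ hc => ⟨mem_normalizer_conj (h1 hk) hc.1, mem_normalizer_conj (h2 hk) hc.2⟩

theorem flip {V : Subgroup G} {a b : G} (h : ⁅a, b⁆ ∈ V) : ⁅b, a⁆ ∈ V := by
  rw [← commutatorElement_inv]
  exact inv_mem h

theorem exU {Q V C : Subgroup G} (h : Q ≤ Ns V) : ∃ U : Subgroup G, ∀ w, w ∈ U ↔
    w ∈ Q ∧ w * w ∈ V ∧ (∀ q ∈ Q, ⁅w, q⁆ ∈ V) ∧ w ∈ C :=
  ⟨{ carrier := {w | w ∈ Q ∧ w * w ∈ V ∧ (∀ q ∈ Q, ⁅w, q⁆ ∈ V) ∧ w ∈ C}
     one_mem' := ⟨one_mem _, by simp, fun q _ => by simp, one_mem _⟩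
     mul_mem' := fun {a b} ⟨a1, a2, a3, a4⟩ ⟨b1, b2, b3, b4⟩ => ⟨mul_mem a1 b1, by
         have := mul_mem (mul_mem a2 (flip (b3 _ (inv_mem a1)))) b2
         rwa [show a * a * ⁅a⁻¹, b⁆ * (b * b) = a * b * (a * b) by
           rw [commutatorElement_def]; group] at this, fun q hq => by
         have := mul_mem (mem_normalizer_conj (h a1) (b3 q hq)) (a3 q hq)
         rwa [show a * ⁅b, q⁆ * a⁻¹ * ⁅a, q⁆ = ⁅a * b, q⁆ by
           simp only [commutatorElement_def]; group] at this, mul_mem a4 b4⟩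
     inv_mem' := fun {a} ⟨a1, a2, a3, a4⟩ => ⟨inv_mem a1, by
         rw [← mul_inv_rev]; exact inv_mem a2, fun q hq => by
         have := mem_normalizer_conj' (h a1) (flip (a3 q hq))
         rwa [show a⁻¹ * ⁅q, a⁆ * a = ⁅a⁻¹, q⁆ by
           simp only [commutatorElement_def]; group] at this, inv_mem a4⟩ }, fun _ => Iff.rfl⟩

/-- The common configuration. -/
structure Cx (M T S K : Subgroup G) (π : G → A5) (x : G) (V₀ U W : Subgroup G) : Prop where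
  a : SA M T S π x
  b : SB M T S x
  k : KK M S K x
  c : KA T S K
  v : ∀ v, v ∈ V₀ ↔ ∀ k ∈ K, k * v * k⁻¹ ∈ Om T
  u : ∀ w, w ∈ U ↔ w ∈ O2 K ∧ w * w ∈ V₀ ∧ (∀ q ∈ O2 K, ⁅w, q⁆ ∈ V₀) ∧
    ∀ k ∈ K, k * w * k⁻¹ ∈ Cs (Om T)
  w : ∀ w, w ∈ W ↔ w ∈ T ∧ w * w ∈ Om T ∧ ∀ t ∈ T, ⁅w, t⁆ ∈ Om T
  s1 : SecOK M T (Om T) W
  s2 : SecOK M T (T ⊓ Cs W) T
  s3 : SecOK M T ⊥ (Om T)

variable [Finite G] {M T S K V₀ U W : Subgroup G} {π : G → A5} {x : G}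

theorem exCx (a : SA M T S π x) (b : SB M T S x) (k : KK M S K x) (c : KA T S K) :
    ∃ V₀ U W, Cx M T S K π x V₀ U W := by
  obtain ⟨V₀, hv⟩ := exC K (Om T)
  obtain ⟨C, hC⟩ := exC K (Cs (Om T))
  obtain ⟨U, hU⟩ := exU (Q := O2 K) (C := C) ((k.leQ.trans k.le).trans (nsC hv))
  obtain ⟨W, h1, h2, h3, h4⟩ := b.wb
  exact ⟨V₀, U, W, a, b, k, c, hv, fun w => by rw [hU, hC], h1, h2, h3, h4⟩

namespace Cx

variable (h : Cx M T S K π x V₀ U W)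
include h

omit [Finite G] in
theorem SM : S ≤ M := h.b.syl.1

omit [Finite G] in
theorem cV {v t : G} (hv : v ∈ Om T) (ht : t ∈ T) : v * t = t * v :=
  commutatorElement_eq_one_iff_mul_comm.1 (h.s3.cen (commutator_mem_commutator hv ht))

omit [Finite G] h in
theorem nQ : K ≤ Ns (O2 K) := le_normalizer.trans (Solv.normalizer_le_normalizer_map_pCore 2 K)

omit [Finite G] in
theorem V0V : V₀ ≤ Om T := fun v hv => by simpa using (h.v v).1 hv 1 (one_mem _)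

theorem n0 : K ≤ Ns V₀ := nsC h.v

theorem exv : ∃ v ∈ Om T, v ∉ V₀ ∧ ∀ s ∈ S, ⁅v, s⁆ ∈ V₀ := by
  have h2 : IsPGroup 2 (Om T) := h.a.ty.two.to_le h.s3.leQ
  obtain ⟨v, v1, v2, -, -, v3⟩ := Solv.PG.exists_step_elt h.b.syl.2.1 h2 (h.k.le.trans h.n0)
    (h.SM.trans h.s3.n2) (lt_of_le_of_ne h.V0V fun e => h.b.neV
      (h.k.nn _ h2 h.s3.n2 (e ▸ h.n0)))
  exact ⟨v, v1, v2, fun s hs => v3 s (mem_sup_left hs)⟩

omit [Finite G] in
theorem VU {v : G} (hv : v ∈ Om T) (h1 : ∀ s ∈ S, ⁅v, s⁆ ∈ V₀) : v ∈ U :=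
  (h.u v).2 ⟨h.c.le hv, by rw [mem_bot.1 (h.s3.sq v hv)]; exact one_mem _,
    fun q hq => h1 q (h.k.leQ hq), fun k hk => h.c.com k hk (conj_mem_cj.2 hv)⟩

theorem nU : K ≤ Ns U := ns fun k hk w hw => by
  obtain ⟨a1, a2, a3, a4⟩ := (h.u w).1 hw
  refine (h.u _).2 ⟨mem_normalizer_conj (nQ hk) a1, ?_, fun q hq => ?_, fun l hl => ?_⟩
  · rw [conj_mul]
    exact mem_normalizer_conj (h.n0 hk) a2
  · have := mem_normalizer_conj (h.n0 hk) (a3 _ (mem_normalizer_conj' (nQ hk) hq))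
    rwa [show k * ⁅w, k⁻¹ * q * k⁆ * k⁻¹ = ⁅k * w * k⁻¹, q⁆ by
      simp only [commutatorElement_def]; group] at this
  · have := a4 _ (mul_mem hl hk)
    rwa [mul_inv_rev, show l * k * w * (k⁻¹ * l⁻¹) = l * (k * w * k⁻¹) * l⁻¹ by group] at this

omit [Finite G] in
theorem UT : U ≤ T := fun w hw => h.b.cV.le ⟨h.SM (h.k.leQ ((h.u w).1 hw).1),
  by simpa using ((h.u w).1 hw).2.2.2 1 (one_mem _)⟩

theorem secU : SecOK K (O2 K) V₀ U :=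
  ⟨fun _ hv => h.VU (h.V0V hv) fun s hs => by
      rw [commutatorElement_def, mul_assoc, mul_assoc, ← mul_assoc s]
      exact mul_mem hv (mem_normalizer_conj (h.n0 (h.k.le hs)) (inv_mem hv)),
    fun w hw => ((h.u w).1 hw).1, h.n0, h.nU,
    commutator_le.2 fun w hw => ((h.u w).1 hw).2.2.1, fun w hw => ((h.u w).1 hw).2.1⟩

omit [Finite G] in
theorem dec {s : G} (hs : s ∈ S) : ∃ q ∈ O2 K, ∃ t ∈ T, q * t = s := by
  have : s ∈ (O2 K : Set G) * (T : Set G) := by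
    rw [← coe_mul_of_left_le_normalizer_right _ _ ((h.k.leQ.trans h.SM).trans h.b.nT), h.c.sup]
    exact hs
  exact this

theorem phi (hPhi : StPhi.{u}) {w : G} (hw : w ∈ U) {D : Subgroup G} (hD : D ≤ T)
    (hi : D.relIndex T ≤ 2) (hc : ∀ d ∈ D, ⁅w, d⁆ ∈ Om T) : w ∈ W ∧ ∀ s ∈ S, ⁅w, s⁆ ∈ Om T := by
  have : Fact (Nat.Prime 5) := ⟨Nat.prime_five⟩
  obtain ⟨σ, hσ⟩ := exists_prime_orderOf_dvd_card' (G := A5) 5 (by
    rw [Nat.card_eq_fintype_card, card_alternatingGroup]; decide)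
  obtain ⟨m, hm, rfl⟩ := h.a.ty.sur σ
  obtain ⟨y, y1, -, y2⟩ := P8.PjBH.odd h.a.ty.toPj m hm (by rw [hσ]; decide)
  have y3 : y ∈ M := zpowers_le.2 hm y1
  rw [hσ] at y2
  have w2 := h.V0V ((h.u w).1 hw).2.1
  have h1 := hPhi G T (Om T) D y w h.a.ty.two y2 (h.b.nT y3) (h.a.fp y y3 y2) h.s3.leQ
    (h.a.ty.le.trans h.s3.n2) (h.s3.n2 y3) (h.UT hw) w2 hD hi hc
  refine ⟨(h.w w).2 ⟨h.UT hw, w2, h1⟩, fun s hs => ?_⟩
  obtain ⟨q, hq, t, ht, rfl⟩ := h.dec hs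
  have := mul_mem (h.V0V (((h.u w).1 hw).2.2.1 q hq))
    (mem_normalizer_conj (h.s3.n2 (h.SM (h.k.leQ hq))) (h1 t ht))
  rwa [show ⁅w, q⁆ * (q * ⁅w, t⁆ * q⁻¹) = ⁅w, q * t⁆ by
    simp only [commutatorElement_def]; group] at this

theorem bil (hBil : StBil.{u}) :
    ∃ (A B C : Type u) (_ : AddCommGroup A) (_ : AddCommGroup B) (_ : AddCommGroup C) (_ : Finite A)
      (_ : Finite B) (_ : Finite C) (_ : DistribMulAction A5 A) (_ : DistribMulAction A5 B)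
      (_ : DistribMulAction A5 C) (p₁ : G → A) (p₂ : G → B) (p₃ : G → C) (β : A →+ B →+ C),
      Bl M (Om T) W (T ⊓ Cs W) T ⊥ (Om T) π p₁ p₂ p₃ β :=
  hBil G A5 M T π h.a.ty.toPj h.a.fp _ _ _ _ _ _ h.s1 h.s2 h.s3 h.s1.cen h.s3.cen
    (commutator_le.2 fun w hw _ ht => commutatorElement_eq_one_iff_mul_comm.2 (ht.2 w hw))

variable {A : Type u} [AddCommGroup A] [DistribMulAction A5 A] {p : G → A}

omit [Finite G] in
theorem fs (hp : Sec M (Om T) W π p) {w : G} (hw : w ∈ W) (hc : ∀ s ∈ S, ⁅w, s⁆ ∈ Om T) :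
    FS (p w) := fun g g1 g2 => by
  obtain ⟨m, hm, rfl⟩ := h.a.ty.sur g
  have h1 := flip (hc m ((h.a.memS m).2 ⟨hm, g1, g2⟩))
  rw [← hp.eqv m hm w hw, show m * w * m⁻¹ = ⁅m, w⁆ * w by rw [commutatorElement_def]; group,
    hp.add _ (h.s1.le h1) w hw, (hp.zero _ (h.s1.le h1)).2 h1, zero_add]

omit [Finite G] in
theorem c0 (hp : Sec M ⊥ (Om T) π p) {C : AddSubgroup A} (hC : ∀ a ∈ Om T, p a ∈ C ↔ a ∈ V₀)
    (c : A) (hc : FS c) : c ∈ C := by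
  obtain ⟨v, hv, rfl⟩ := hp.sur c
  have h1 : v ∈ Om T ⊓ Cs S := ⟨hv, fun s hs => by
    obtain ⟨s1, s2, s3⟩ := (h.a.memS s).1 hs
    have := (P8.BrgH.p_eq hp.add hp.zero (mem_normalizer_conj (h.s3.n2 s1) hv) hv).1
      ((hp.eqv s s1 v hv).trans (hc _ s2 s3))
    exact mul_inv_eq_iff_eq_mul.1 (inv_mul_eq_one.1 (mem_bot.1 this))⟩
  exact (hC v hv).2 ((h.v v).2 fun k hk => (mem_normalizer_conj (h.c.zn hk) h1).1)

omit [Finite G] in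
theorem inv4 {U₁ U₂ D : Subgroup G} (hp : Sec M U₁ U₂ π p) (hU : M ≤ Ns U₂) {H : AddSubgroup A}
    (hH : ∀ a ∈ U₂, p a ∈ H ↔ a ∈ D) (h1 : S ≤ Ns D) (h2 : x ∈ Ns D) : Inv4 H := by
  intro g hg m hm
  obtain ⟨a, ha, rfl⟩ := hp.sur m
  obtain ⟨n, hn, rfl⟩ := h.a.ty.sur g
  let L : Subgroup G :=
    { carrier := {l | l ∈ M ∧ (π l : S5) 4 = 4}
      one_mem' := ⟨one_mem _, by rw [P8.PjBH.one h.a.ty.toPj]; rfl⟩
      mul_mem' := fun {a b} ha hb => ⟨mul_mem ha.1 hb.1, by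
        rw [h.a.ty.mul a ha.1 b hb.1, coe_mul, Equiv.Perm.mul_apply, hb.2, ha.2]⟩
      inv_mem' := fun {a} ha => ⟨inv_mem ha.1, by
        rw [P8.PjBH.inv h.a.ty.toPj ha.1, coe_inv, Equiv.Perm.inv_eq_iff_eq, ha.2]⟩ }
  have h3 : L ≤ S ⊔ zpowers x := (h.b.ovr L (fun s hs => ⟨h.SM hs, ((h.a.memS s).1 hs).2.2⟩)
    fun _ hl => hl.1).resolve_right fun e => by
      obtain ⟨l, l1, l2⟩ := h.a.ty.sur ⟨Equiv.swap 4 0 * Equiv.swap 0 1,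
        Equiv.Perm.mem_alternatingGroup.2 (by decide)⟩
      have := (e.ge l1).2
      rw [l2] at this
      exact absurd this (by decide)
  rw [← hp.eqv n hn a ha, hH _ (mem_normalizer_conj (hU hn) ha)]
  exact mem_normalizer_conj (sup_le h1 (zpowers_le.2 h2) (h3 ⟨hn, hg⟩)) ((hH a ha).1 hm)

end Cx

omit [Finite G] in
theorem img {X : Type} [Group X] {π : G → X} {A : Type u} [AddCommGroup A] [DistribMulAction X A]
    {p : G → A} {U₁ U₂ D : Subgroup G} (hp : Sec M U₁ U₂ π p) (h1 : U₁ ≤ D) :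
    ∃ H : AddSubgroup A, (∀ a ∈ U₂, p a ∈ H ↔ a ∈ D) ∧ H.index = D.relIndex U₂ := by
  let f : Additive U₂ →+ A := AddMonoidHom.mk' (fun a => p (a.toMul : U₂)) fun a b =>
    hp.add _ a.toMul.2 _ b.toMul.2
  have hf : Function.Surjective f := fun m => by
    obtain ⟨a, ha, rfl⟩ := hp.sur m
    exact ⟨Additive.ofMul ⟨a, ha⟩, rfl⟩
  have hk : f.ker ≤ Subgroup.toAddSubgroup (D.subgroupOf U₂) := fun a ha =>
    h1 ((hp.zero _ a.toMul.2).1 ha)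
  refine ⟨(Subgroup.toAddSubgroup (D.subgroupOf U₂)).map f, fun a ha => ⟨fun e => ?_, fun e =>
    ⟨Additive.ofMul ⟨a, ha⟩, e, rfl⟩⟩, ?_⟩
  · exact (AddSubgroup.comap_map_eq_self hk).le (x := Additive.ofMul ⟨a, ha⟩) e
  · rw [AddSubgroup.index_map_eq _ hf hk, index_toAddSubgroup]
    rfl

end KZa

end Cfsg.Lib.K35
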