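import Cfsg.Agent.K35.Loc
import Cfsg.Agent.P8.M3a
import Cfsg.Agent.P8.M3b
import Cfsg.Agent.P8.MdA

/-! Simple groups of order `2 ^ b * 3 ^ a * 5`: pure submodules for A6. -/

set_option autoImplicit false
set_option linter.unusedSectionVars false
set_option linter.unusedVariables false

namespace Cfsg.Lib.K35

open Cfsg Subgroup Cfsg.Lib.Trans Cfsg.Lib.Gold
open Cfsg.Lib.P8 (A5 A6 S5 O2 Om Jt Phi EA SR4 Ch E9 Pj Ty Sec SecOK Mx)
open scoped commutatorElement

universe u

namespace M6a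
open Equiv Equiv.Perm Cfsg.Lib.P8.M3hH

variable {M : Type u} [AddCommGroup M]

theorem nl_sum [DistribMulAction A6 M] (h : M5 A6 M) {σ : A6} (hσ : σ * σ * σ * σ * σ = 1 ∧ σ ≠ 1)
    (g : A6) (m : M) : ((nl σ g).map (· • m)).sum = 0 := by
  have := h.fp _ (ord5 hσ) _ (P8.MdAH.nfix (pow_orderOf_eq_one σ) (g • m))
  rw [ord5 hσ] at this
  simpa [Finset.sum_range_succ, pow_succ, nl, mul_smul, add_assoc] using this

theorem fix2 [Finite M] [DistribMulAction A6 M] (h : M5 A6 M) (hM : Nontrivial M) (S : Subgroup A6)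
    (hS : IsPGroup 2 S) : ∃ m : M, m ≠ 0 ∧ ∀ s ∈ S, s • m = m := by
  haveI : Fact (Nat.Prime 2) := ⟨Nat.prime_two⟩
  obtain ⟨a, a0⟩ := exists_ne (0 : M)
  have : 2 ∣ Nat.card M := by
    rw [← addOrderOf_eq_prime (p := 2) ((two_nsmul a).trans (h.two a)) a0]
    exact addOrderOf_dvd_natCard a
  obtain ⟨b, hb, n⟩ := hS.exists_fixed_point_of_prime_dvd_card_of_fixed_point M this (a := 0)
    fun s => smul_zero s
  exact ⟨b, fun e => n e.symm, fun s hs => hb ⟨s, hs⟩⟩

open Cfsg.Lib.P8.M3aH in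
theorem m3a [Finite M] [DistribMulAction A6 M] (h : M5 A6 M) (hM : Nontrivial M) : ∃ m : M, m ≠ 0 ∧
      ((∀ g : A6, ((g : Perm (Fin 6)) 4).val / 2 = 2 → ((g : Perm (Fin 6)) 5).val / 2 = 2 → g • m = m) ∨
       (∀ g : A6, (∀ i j : Fin 6, i.val / 2 = j.val / 2 →
          ((g : Perm (Fin 6)) i).val / 2 = ((g : Perm (Fin 6)) j).val / 2) → g • m = m)) := by
  obtain ⟨m, m0, hm⟩ := fix2 h hM ((C1 δ ⊓ C1 τ).subgroupOf (alternatingGroup (Fin 6)))
    (fun g => ⟨2, Subtype.ext (Subtype.ext (by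
      have := exp4 g.1.1 (mem_C1.1 g.2.1) (mem_C1.1 g.2.2)
      simpa [pow_succ, mul_assoc] using this))⟩)
  have hr : ∀ g k : A6, rl g k = true → g • m = k • m := fun g k e => by
    simp only [rl, Bool.and_eq_true, decide_eq_true_eq] at e
    have c : ∀ s : Perm (Fin 6), (g : Perm (Fin 6)) * s * (g : Perm (Fin 6))⁻¹ =
        (k : Perm (Fin 6)) * s * (k : Perm (Fin 6))⁻¹ → ((k⁻¹ * g : A6) : Perm (Fin 6)) ∈ C1 s :=
      fun s e => mem_C1.2 (by
        rw [Subgroup.coe_mul, Subgroup.coe_inv]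
        calc _ = (k : Perm (Fin 6))⁻¹ * ((g : Perm (Fin 6)) * s * (g : Perm (Fin 6))⁻¹) * g := by group
          _ = _ := by rw [e]; group)
    have := hm (k⁻¹ * g) ⟨c _ e.1, c _ e.2⟩
    rw [mul_smul, inv_smul_eq_iff] at this
    exact this
  have k1 : ∀ a g : A6, ((tl a g).map (· • m)).sum = g • (m + a • m + (a * a) • m) := fun a g => by
    simp [tl, mul_smul, add_assoc]
  have k2 : ∀ a g : A6, red rl (tl (a : Perm (Fin 6)) g ++ tl (a : Perm (Fin 6)) 1) = [] →
      g • (m + a • m + (a * a) • m) = m + a • m + (a * a) • m := fun a g e => by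
    have := sum_zero h.two (fun g : A6 => (g : Perm (Fin 6))) hr (l := tl a g ++ tl a 1) e
    rw [List.map_append, List.sum_append, k1, k1, one_smul, ← h.two (m + a • m + (a * a) • m)] at this
    exact add_right_cancel this
  by_cases e1 : m + el 6 4489216 • m + (el 6 4489216 * el 6 4489216) • m = 0
  swap
  · exact ⟨_, e1, .inl fun g h1 h2 => k2 _ g (par1 g h1 h2)⟩
  by_cases e2 : m + el 6 11413072 • m + (el 6 11413072 * el 6 11413072) • m = 0
  swap
  · exact ⟨_, e2, .inr fun g h1 => k2 _ g (par2 g h1)⟩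
  have := sum_zero h.two (fun g : A6 => (g : Perm (Fin 6))) hr cert
  rw [List.map_cons, List.sum_cons, List.map_append, List.sum_append, List.map_append, List.sum_append,
    sum_flatMap fun p hp => nl_sum h (five p hp) _ m,
    sum_flatMap fun c _ => by rw [k1, e1, smul_zero],
    sum_flatMap fun c _ => by rw [k1, e2, smul_zero], one_smul, add_zero, add_zero, add_zero] at this
  exact (m0 this).elim

open Cfsg.Lib.P8.M3bH in
/-- The duad family. -/
theorem duad [DistribMulAction A6 M] (h : M5 A6 M) (m : M)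
    (hm : ∀ g : A6, ((g : Perm (Fin 6)) 4).val / 2 = 2 → ((g : Perm (Fin 6)) 5).val / 2 = 2 → g • m = m) :
    ∃ c : Fin 6 → Fin 6 → M, c 4 5 = m ∧ (∀ i, c i i = 0) ∧ (∀ i j k, c i j + c j k = c i k) ∧
      c 0 1 + c 2 3 + c 4 5 = 0 ∧
      ∀ (g : A6) i j, g • c i j = c ((g : Perm (Fin 6)) i) ((g : Perm (Fin 6)) j) := by
  have hr : ∀ g k : A6, rl (id g) (id k) = true → g • m = k • m := fun g k e => by
    simp only [rl, decide_eq_true_eq, id] at e
    have : (k⁻¹ * g) • m = m := by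
      refine hm _ ?_ ?_ <;> rw [Subgroup.coe_mul, Subgroup.coe_inv, Perm.mul_apply] <;>
        rcases e with e | e <;> simp [e.1, e.2]
    rwa [mul_smul, inv_smul_eq_iff] at this
  classical
  obtain ⟨c, c0, hc⟩ : ∃ c : Fin 6 → Fin 6 → M, (∀ i, c i i = 0) ∧
      ∀ g : A6, c ((g : Perm (Fin 6)) 4) ((g : Perm (Fin 6)) 5) = g • m := by
    refine ⟨fun i j => if h : ∃ g : A6, (g : Perm (Fin 6)) 4 = i ∧ (g : Perm (Fin 6)) 5 = j then
      h.choose • m else 0, fun i => dif_neg ?_, fun g => ?_⟩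
    · rintro ⟨g, h1, h2⟩
      exact absurd ((g : Perm (Fin 6)).injective (h1.trans h2.symm)) (by decide)
    · have e : ∃ k : A6, (k : Perm (Fin 6)) 4 = (g : Perm (Fin 6)) 4 ∧
        (k : Perm (Fin 6)) 5 = (g : Perm (Fin 6)) 5 := ⟨g, rfl, rfl⟩
      beta_reduce
      rw [dif_pos e]
      exact hr _ _ (decide_eq_true (.inl e.choose_spec))
  have eqv : ∀ (g : A6) i j, g • c i j = c ((g : Perm (Fin 6)) i) ((g : Perm (Fin 6)) j) := by
    intro g i j
    by_cases e : i = j
    · rw [e, c0, c0, smul_zero]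
    obtain ⟨k, rfl, rfl⟩ := tr2 e
    rw [hc, ← mul_smul, ← hc]
    rfl
  have sym : ∀ i j, c i j = c j i := by
    intro i j
    by_cases e : i = j
    · rw [e]
    obtain ⟨k, rfl, rfl⟩ := tr2 e
    obtain ⟨l, h1, h2⟩ := tr2 (Ne.symm e)
    rw [hc, ← h1, ← h2, hc]
    exact hr _ _ (decide_eq_true (.inr ⟨h2.symm, h1.symm⟩))
  have v : ∀ (n : ℕ) (i j : Fin 6), (el 6 n : Perm (Fin 6)) 4 = i ∧ (el 6 n : Perm (Fin 6)) 5 = j →
      el 6 n • m = c i j := fun n i j e => by rw [← hc, e.1, e.2]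
  have b1 := sum_zero h.two id hr cert1
  have b2 := sum_zero h.two id hr cert2
  rw [List.map_cons, List.map_cons, List.map_cons, List.sum_cons, List.sum_cons, List.sum_cons] at b1 b2
  rw [sum_flatMap fun p hp => nl_sum h (five1 p hp) _ m, add_zero, v _ 4 5 (by decide +kernel),
    v _ 5 0 (by decide +kernel), v _ 0 4 (by decide +kernel)] at b1
  rw [sum_flatMap fun p hp => nl_sum h (five2 p hp) _ m, add_zero, v _ 0 1 (by decide +kernel),
    v _ 2 3 (by decide +kernel), v _ 4 5 (by decide +kernel), ← add_assoc] at b2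
  refine ⟨c, by simpa using hc 1, c0, fun i j k => ?_, b2, eqv⟩
  by_cases e1 : i = j
  · rw [e1, c0, zero_add]
  by_cases e2 : j = k
  · rw [e2, c0, add_zero]
  by_cases e3 : i = k
  · rw [e3, c0, sym k j, h.two]
  obtain ⟨g, rfl, rfl, rfl⟩ := tr3 e1 e2 e3
  have := congrArg (g • ·) b1
  simp only [smul_add, smul_zero, eqv] at this
  rw [← add_assoc, sym _ ((g : Perm (Fin 6)) 4), ← h.two (c ((g : Perm (Fin 6)) 4) ((g : Perm (Fin 6)) 0))] at this
  exact add_right_cancel this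

theorem orb : ∀ g : S6, g * g * g = 1 → (∀ i, g i ≠ i) → ∀ i j : Fin 6,
    [i, g i, g (g i)].Perm [j, g j, g (g j)] ∨
      [i, g i, g (g i), j, g j, g (g j)].Perm [0, 1, 2, 3, 4, 5] := by decide +kernel

theorem fx2 : ∀ g : S6, g * g * g = 1 → (∃ i, g i = i) → ∃ i j, i ≠ j ∧ g i = i ∧ g j = j := by
  decide +kernel

theorem syn : ∀ g : S6, g * g * g = 1 → g ≠ 1 →
    (∀ i j : Fin 6, i.val / 2 = j.val / 2 → (g i).val / 2 = (g j).val / 2) → ∀ i, g i ≠ i := by
  decide +kernel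

theorem o3 {X : Type*} [Group X] {g : X} (h : orderOf g = 3) : g * g * g = 1 ∧ g ≠ 1 :=
  ⟨by rw [← pow_three', ← h, pow_orderOf_eq_one], by rintro rfl; simp at h⟩

theorem case1 [DistribMulAction A6 M] (h : M5 A6 M) (m : M) (m0 : m ≠ 0)
    (hm : ∀ g : A6, ((g : Perm (Fin 6)) 4).val / 2 = 2 → ((g : Perm (Fin 6)) 5).val / 2 = 2 → g • m = m) :
    ∃ K : AddSubgroup M, K ≠ ⊥ ∧ (∀ g : A6, ∀ m ∈ K, g • m ∈ K) ∧
      ∀ g : A6, orderOf g = 3 → (∀ i, (g : S6) i ≠ i) → ∀ m ∈ K, g • m = m → m = 0 := by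
  obtain ⟨c, c45, c0, tri, rel, eqv⟩ := duad h m hm
  have cc : ∀ i j, c i j = c 0 i + c 0 j := fun i j => by
    have h1 := tri 0 i j
    rw [← h1, ← add_assoc, h.two, zero_add]
  refine ⟨AddSubgroup.closure {v | ∃ i j, v = c i j}, fun e => m0 ?_, fun g v hv => ?_,
    fun g ho hf v hv e => ?_⟩
  · rw [← AddSubgroup.mem_bot, ← e]
    exact AddSubgroup.subset_closure ⟨4, 5, c45.symm⟩
  · induction hv using AddSubgroup.closure_induction with
    | mem x hx =>
      obtain ⟨i, j, rfl⟩ := hx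
      exact AddSubgroup.subset_closure ⟨_, _, eqv g i j⟩
    | zero => rw [smul_zero]; exact zero_mem _
    | add a b _ _ ha hb => rw [smul_add]; exact add_mem ha hb
    | neg a _ ha => rw [smul_neg]; exact neg_mem ha
  · have key : v + g • v + g • g • v = 0 := by
      clear e
      induction hv using AddSubgroup.closure_induction with
      | mem x hx =>
        obtain ⟨i, j, rfl⟩ := hx
        rw [eqv, eqv, cc i j, cc ((g : S6) i), cc ((g : S6) ((g : S6) i))]
        have g3 : (g : S6) * g * g = 1 := congrArg Subtype.val (o3 ho).1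
        rcases orb g g3 hf i j with p | p
        · have := (p.map (c 0)).sum_eq
          simp only [List.map_cons, List.map_nil, List.sum_cons, List.sum_nil, add_zero] at this
          have t := h.two (c 0 j + (c 0 ((g : S6) j) + c 0 ((g : S6) ((g : S6) j))))
          rw [← t]
          nth_rewrite 1 [← this]
          abel
        · have := (p.map (c 0)).sum_eq
          simp only [List.map_cons, List.map_nil, List.sum_cons, List.sum_nil, add_zero] at this
          rw [cc 0 1, cc 2 3, cc 4 5] at rel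
          calc _ = c 0 0 + (c 0 1 + (c 0 2 + (c 0 3 + (c 0 4 + c 0 5)))) := by rw [← this]; abel
            _ = 0 := by rw [← rel]; abel
      | zero => simp
      | add a b _ _ ha hb =>
        simp only [smul_add]
        calc _ = (a + g • a + g • g • a) + (b + g • b + g • g • b) := by abel
          _ = 0 := by rw [ha, hb, add_zero]
      | neg a _ ha =>
        simp only [smul_neg]
        calc _ = -(a + g • a + g • g • a) := by abel
          _ = 0 := by rw [ha, neg_zero]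
    rwa [e, e, h.two, zero_add] at key

end M6a

open M6a in
theorem m6a (hOut : StOut) : StM6a.{u} := by
  intro M _ _ inst h hM
  obtain ⟨m, m0, hm | hm⟩ := m3a h hM
  · obtain ⟨K, k1, k2, k3⟩ := case1 h m m0 hm
    exact ⟨K, k1, k2, Or.inr k3⟩
  obtain ⟨α, hα⟩ := P8.M3bH.aut
  have h' : @M5 A6 M _ _ (DistribMulAction.compHom M α.toMonoidHom) :=
    @M5.mk _ _ _ _ (DistribMulAction.compHom M α.toMonoidHom) h.two
      (fun g hg m e => h.fp (α g) (by rw [α.orderOf_eq]; exact hg) m e)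
  obtain ⟨K, k1, k2, k3⟩ := @case1 M _ (DistribMulAction.compHom M α.toMonoidHom) h' m m0
    (fun g h1 h2 => hm (α g) (hα g h1 h2))
  refine ⟨K, k1, fun g v hv => ?_, Or.inl fun g ho hf v hv e => ?_⟩
  · have : α (α.symm g) • v ∈ K := k2 (α.symm g) v hv
    rwa [α.apply_symm_apply] at this
  · have o' : orderOf (α.symm g) = 3 := by rw [α.symm.orderOf_eq]; exact ho
    refine k3 (α.symm g) o' (fun i hi => ?_) v hv ?_
    · obtain ⟨a, b, hab, ha, hb⟩ := fx2 (α.symm g : A6) (congrArg Subtype.val (o3 o').1) ⟨i, hi⟩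
      obtain ⟨k, rfl, rfl⟩ := P8.M3bH.tr2 hab
      have o2 : orderOf (α (k⁻¹ * α.symm g * k)) = 3 := by
        rw [α.orderOf_eq, ← o']
        simpa using (MulAut.conj k⁻¹).orderOf_eq (α.symm g)
      have hs := hα (k⁻¹ * α.symm g * k)
        (by simp [Equiv.Perm.mul_apply, ha]) (by simp [Equiv.Perm.mul_apply, hb])
      have := syn _ (congrArg Subtype.val (o3 o2).1) (fun e => (o3 o2).2 (Subtype.ext e)) hs
      obtain ⟨j, hj⟩ := hf
      apply this (((α k)⁻¹ : A6).1 j)
      rw [map_mul, map_mul, α.apply_symm_apply, map_inv]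
      simp [Equiv.Perm.mul_apply, hj]
    · change α (α.symm g) • v = v
      rwa [α.apply_symm_apply]

end Cfsg.Lib.K35
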