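import Cfsg.Agent.K35.Loc
import Cfsg.Agent.P8.Bas2

/-! Simple groups of order `2 ^ b * 3 ^ a * 5`: choice of the maximal 2-local subgroup. -/

set_option autoImplicit false
set_option linter.unusedSectionVars false
set_option linter.unusedVariables false

namespace Cfsg.Lib.K35

open Cfsg Subgroup Cfsg.Lib.Trans Cfsg.Lib.Gold
open Cfsg.Lib.P8 (A5 A6 S5 O2 Om Jt Phi EA SR4 Ch E9 Pj Ty Sec SecOK Mx)
open scoped commutatorElement

universe u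

theorem nc : StNC.{u} := by
  intro G _ _ hG
  haveI : Fact (Nat.Prime 2) := ⟨Nat.prime_two⟩
  obtain ⟨N₀, hN₀, hs₀⟩ := hG.ns
  let P := {p : Subgroup G × Subgroup G //
    IsTwoLocal p.1 ∧ ¬ Group.IsSolvable p.1 ∧ p.2 ≤ p.1 ∧ IsPGroup 2 p.2}
  haveI : Nonempty P := ⟨⟨(N₀, ⊥), hN₀, hs₀, bot_le, IsPGroup.of_bot⟩⟩
  obtain ⟨⟨⟨N, T⟩, hN, hs, hTN, hT⟩, hmax⟩ := Finite.exists_max (fun p : P => Nat.card p.1.2)
  let Q := {M : Subgroup G // IsTwoLocal M ∧ N ≤ M}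
  haveI : Nonempty Q := ⟨⟨N, hN, le_rfl⟩⟩
  obtain ⟨⟨M, hM, hNM⟩, hmx⟩ := Finite.exists_max (fun q : Q => Nat.card q.1)
  obtain ⟨S₀, hS₀, hTS⟩ := exists_isSylowIn_ge hT (hTN.trans hNM)
  obtain ⟨hch, hne⟩ := P8.Bas2H.chl hG.c2 hM
  refine ⟨M, S₀, ⟨⟨hM, fun N' hN' hle => ?_⟩, rfl, hch, hne⟩, fun hsol => hs ?_, hS₀, ?_⟩
  · exact (Subgroup.eq_of_le_of_card_ge hle (hmx ⟨N', hN', hNM.trans hle⟩)).symm
  · exact solvable_of_solvable_injective (f := Subgroup.inclusion hNM) (Subgroup.inclusion_injective hNM)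
  · by_cases h : IsSylowIn 2 S₀ ⊤
    · exact Or.inl h
    right
    intro C hC hne' hle
    by_contra hns
    obtain ⟨S₁, hS₁, h01⟩ := exists_isSylowIn_ge hS₀.isPGroup (le_top (a := S₀))
    have hlt : S₀ < S₁ := lt_of_le_of_ne h01 (fun e => h (e ▸ hS₁))
    have h2 := lt_inf_normalizer hS₁.isPGroup hlt
    have h3 := hmax ⟨(Ns C, S₁ ⊓ normalizer (S₀ : Set G)), ⟨C, hC, hne', rfl⟩, hns,
      inf_le_right.trans hle, hS₁.isPGroup.to_inf_left⟩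
    have h4 := card_lt_of_lt h2
    have h5 := Trans.card_le_of_le hTS
    exact absurd (h3.trans h5) (not_le.2 h4)

end Cfsg.Lib.K35
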