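import Cfsg.Agent.K35.Loc
import Cfsg.Agent.P8.Bas2

/-!
# Simple groups of order `2 ^ b * 3 ^ a * 5`: the local analysis assembled
-/

set_option autoImplicit false

namespace Cfsg.Lib.K35

open Cfsg Subgroup Cfsg.Lib.Trans Cfsg.Lib.Gold
open Cfsg.Lib.P8 (A5 A6 S5 O2 Om Jt Phi EA SR4 Ch E9 Pj Ty Sec SecOK Mx)

universe u

theorem no (hNC : StNC.{u}) (hB : StB.{u}) (hA0 : StA0.{u}) (hSB : StSB.{u}) (hK0 : StK0.{u})
    (hKB1 : StKB1.{u}) (hKB2 : StKB2.{u}) (hKU : StKU.{u}) (hKZa : StKZa.{u}) (hKZb : StKZb.{u})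
    (hKQ : StKQ.{u}) : StNo.{u} := by
  intro G _ _ gl
  obtain ⟨M, S, mx, hns, hS, h⟩ := hNC G gl
  have hS' : IsSylowIn 2 S ⊤ := h.elim id (hB G gl M S mx hns hS)
  obtain ⟨a3, π, x, sa⟩ := hA0 G gl M S mx hns hS.1 hS'
  have sb := hSB G M _ S π x sa
  obtain ⟨K, kk, tzq⟩ := hK0 G gl M _ S x mx hS' sb sa.xM sa.ox a3
  have hV : Om (O2 M) ≤ O2 K := by
    by_contra hV
    exact gl.n4 (P8.pf_Bas2.sr hS' (hKB1 G M _ S K π x sa sb kk tzq hV))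
  obtain ⟨h1, h2⟩ := hKU G M _ S K π x sa sb kk tzq hV
  have ka : KA (O2 M) S K := ⟨hV, hKB2 G M _ S K π x sa sb kk tzq hV, h1, h2⟩
  rcases tzq with ⟨v, tz⟩ | ⟨a, b, tq⟩
  · obtain ⟨A, E, tp⟩ := hKZa G M _ S K π x v sa sb kk tz ka
    exact hKZb G M _ S K A E π x v sa sb kk tz h1 tp
  · exact hKQ G M _ S K π x a b sa sb kk tq ka

end Cfsg.Lib.K35
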