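import Cfsg.Agent.K35.Loc
import Cfsg.Agent.P8.Bas2

/-!
# Simple groups of order `2 ^ b * 3 ^ a * 5`: the hyperplane lemma
-/

set_option autoImplicit false

namespace Cfsg.Lib.K35

open Cfsg Subgroup Cfsg.Lib.Trans Cfsg.Lib.Gold
open Cfsg.Lib.P8 (A5 A6 S5 O2 Om Jt Phi EA SR4 Ch E9 Pj Ty Sec SecOK Mx)
open scoped commutatorElement

universe u

namespace Phi

variable {G : Type u} [Group G] [Finite G]

theorem cm5 {σ τ g : G} (o : orderOf σ = 5) (hτ : τ ∈ zpowers σ) (o' : orderOf τ = 5)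
    (e : g * τ = τ * g) : g * σ = σ * g := by
  have : zpowers τ = zpowers σ := eq_of_le_of_card_ge (zpowers_le.2 hτ) (by
    rw [Nat.card_zpowers, Nat.card_zpowers, o, o'])
  obtain ⟨k, hk⟩ := mem_zpowers_iff.1 (this ▸ mem_zpowers σ : σ ∈ zpowers τ)
  exact hk ▸ (Commute.zpow_right e k).eq

theorem norm {Q : Subgroup G} {σ g : G} (h : ∀ g ∈ Q, g * σ = σ * g → g = 1) (hσ : σ ∈ Ns Q)
    (o : orderOf σ = 5) (hg : g ∈ Q) :
    σ ^ 0 * g * (σ ^ 0)⁻¹ * (σ ^ 1 * g * (σ ^ 1)⁻¹) * (σ ^ 2 * g * (σ ^ 2)⁻¹) *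
      (σ ^ 3 * g * (σ ^ 3)⁻¹) * (σ ^ 4 * g * (σ ^ 4)⁻¹) = 1 := by
  have inj : Function.Injective fun a : Q =>
      (⟨(a : G)⁻¹ * (σ * a * σ⁻¹), mul_mem (inv_mem a.2) (mem_normalizer_conj hσ a.2)⟩ : Q) := by
    intro a b e
    have e' : (a : G)⁻¹ * (σ * a * σ⁻¹) = (b : G)⁻¹ * (σ * b * σ⁻¹) := congrArg Subtype.val e
    have := h _ (mul_mem b.2 (inv_mem a.2)) (by
      calc b * (a : G)⁻¹ * σ = b * ((a : G)⁻¹ * (σ * a * σ⁻¹)) * σ * (a : G)⁻¹ := by group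
        _ = _ := by rw [e']; group)
    exact Subtype.ext (mul_inv_eq_one.1 this).symm
  obtain ⟨a, ha⟩ := Finite.injective_iff_surjective.1 inj ⟨g, hg⟩
  have e : (a : G)⁻¹ * (σ * a * σ⁻¹) = g := congrArg Subtype.val ha
  have s5 : σ ^ 5 = 1 := o ▸ pow_orderOf_eq_one σ
  calc _ = (a : G)⁻¹ * (σ ^ 5 * a * (σ ^ 5)⁻¹) := by
        rw [← e]; simp only [pow_succ, pow_zero, one_mul, mul_inv_rev, inv_one, mul_one, mul_assoc,
          inv_mul_cancel_left, mul_inv_cancel_left, inv_inv]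
    _ = 1 := by rw [s5]; group

open scoped IsMulCommutative in
theorem r5 {Q : Subgroup G} {σ w y : G} (h : ∀ g ∈ Q, g * σ = σ * g → g = 1)
    (hQ : IsPGroup 2 Q) (hσ : σ ∈ Ns Q)
    (o : orderOf σ = 5) (hw : w ∈ Q) (hy : y ∈ Q) (hc : Q ≤ C1 y) (y2 : y * y = 1)
    (e : ∀ q ∈ Q, ⁅w, q⁆ ∈ zpowers y) : Q ≤ C1 w := by
  have : Fact (Nat.Prime 2) := ⟨Nat.prime_two⟩
  have : Fact (Nat.Prime 5) := ⟨Nat.prime_five⟩
  have s5 : σ ^ 5 = 1 := o ▸ pow_orderOf_eq_one σ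
  have zp : ∀ x ∈ zpowers y, x = 1 ∨ x = y := fun x hx => by
    obtain ⟨m, rfl⟩ := mem_zpowers_iff.1 hx
    have h2 : y ^ (2 : ℤ) = 1 := by rw [zpow_two, y2]
    rcases Int.even_or_odd' m with ⟨j, rfl | rfl⟩
    · left; rw [zpow_mul, h2, one_zpow]
    · right; rw [zpow_add, zpow_mul, h2, one_zpow, one_mul, zpow_one]
  by_cases y1 : y = 1
  · exact fun q hq => mem_C1.2 (commutatorElement_eq_one_iff_mul_comm.1
      ((zp _ (e q hq)).elim id fun k => k.trans y1)).symm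
  have cm : IsMulCommutative ↥(Q ⊓ Cs Q) := ⟨⟨fun a b => Subtype.ext (mem_Cs.1 b.2.2 a a.2.1)⟩⟩
  have yZ : y ∈ Q ⊓ Cs Q := ⟨hy, mem_Cs.2 fun g hg => mem_C1.1 (hc hg)⟩
  have nZ : ∀ j : ℕ, ∀ z ∈ Q ⊓ Cs Q, σ ^ j * z * (σ ^ j)⁻¹ ∈ Q ⊓ Cs Q := fun j z hz =>
    mem_normalizer_conj (pow_mem (mem_Ns_inf hσ (mem_Ns_Cs hσ)) j) hz
  have cj' : ∀ (j : ℕ) (q : G), ⁅σ ^ j * w * (σ ^ j)⁻¹, q⁆ =
      σ ^ j * ⁅w, (σ ^ j)⁻¹ * q * σ ^ j⁆ * (σ ^ j)⁻¹ := fun j q => by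
    simp only [commutatorElement_def]; group
  have mq : ∀ j : ℕ, ∀ q ∈ Q, ⁅w, (σ ^ j)⁻¹ * q * σ ^ j⁆ ∈ zpowers y := fun j q hq =>
    e _ (mem_normalizer_conj' (pow_mem hσ j) hq)
  have uZ : ∀ j : ℕ, ∀ q ∈ Q, ⁅σ ^ j * w * (σ ^ j)⁻¹, q⁆ ∈ Q ⊓ Cs Q := fun j q hq =>
    cj' j q ▸ nZ j _ (zpowers_le.2 yZ (mq j q hq))
  have ml : ∀ q ∈ Q, ∀ a ∈ Q, ∀ b : G, ⁅b, q⁆ ∈ Q ⊓ Cs Q → ⁅a * b, q⁆ = ⁅a, q⁆ * ⁅b, q⁆ :=
    fun q hq a ha b hb => by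
      calc ⁅a * b, q⁆ = a * ⁅b, q⁆ * (q * a⁻¹ * q⁻¹) := by simp only [commutatorElement_def]; group
        _ = ⁅b, q⁆ * ⁅a, q⁆ := by rw [mem_Cs.1 hb.2 a ha, commutatorElement_def a]; group
        _ = _ := (mem_Cs.1 hb.2 _ (mul_mem (mul_mem (mul_mem ha hq) (inv_mem ha)) (inv_mem hq))).symm
  have key : ∀ q ∈ Q ⊓ C1 w, σ⁻¹ * q * σ⁻¹⁻¹ ∈ Q ⊓ C1 w := fun q hq => by
    have wj : ∀ j : ℕ, σ ^ j * w * (σ ^ j)⁻¹ ∈ Q := fun j => mem_normalizer_conj (pow_mem hσ j) hw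
    have := P8.Bas2H.five (A := ↥(Q ⊓ Cs Q)) (fun j => ⟨_, nZ j y yZ⟩) (fun j => ⟨_, uZ j q hq.1⟩)
      (fun j => Subtype.ext (by
        change σ ^ (j : ℕ) * y * (σ ^ (j : ℕ))⁻¹ * (σ ^ (j : ℕ) * y * (σ ^ (j : ℕ))⁻¹) = 1
        rw [conj_mul, y2]; group))
      (fun i j k => by
        have k' : σ ^ (i : ℕ) * y * (σ ^ (i : ℕ))⁻¹ = σ ^ (j : ℕ) * y * (σ ^ (j : ℕ))⁻¹ :=
          congrArg Subtype.val k
        by_contra ij
        refine y1 (h y hy (cm5 o (τ := (σ ^ (j : ℕ))⁻¹ * σ ^ (i : ℕ))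
          (mul_mem (inv_mem (npow_mem_zpowers σ j)) (npow_mem_zpowers σ i)) (orderOf_eq_prime ?_
          fun e1 => ij (Fin.ext (pow_injOn_Iio_orderOf (x := σ) (by rw [o]; exact i.2)
            (by rw [o]; exact j.2) (inv_mul_eq_one.1 e1).symm))) ?_))
        · rw [((Commute.refl σ).pow_pow _ _).inv_left.mul_pow, inv_pow, ← pow_mul, ← pow_mul,
            mul_comm (i : ℕ) 5, mul_comm (j : ℕ) 5, pow_mul, pow_mul, s5]
          simp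
        · calc y * ((σ ^ (j : ℕ))⁻¹ * σ ^ (i : ℕ)) = (σ ^ (j : ℕ))⁻¹ *
                (σ ^ (j : ℕ) * y * (σ ^ (j : ℕ))⁻¹) * σ ^ (i : ℕ) := by group
            _ = _ := by rw [← k']; group)
      (fun j k => y1 (conj_eq_one_iff.1 (congrArg Subtype.val k)))
      (by rw [Fin.prod_univ_five]; exact Subtype.ext (norm h hσ o hy))
      (by
        rw [Fin.prod_univ_five]
        refine Subtype.ext ?_
        change ⁅σ ^ 0 * w * (σ ^ 0)⁻¹, q⁆ * ⁅σ ^ 1 * w * (σ ^ 1)⁻¹, q⁆ * ⁅σ ^ 2 * w * (σ ^ 2)⁻¹, q⁆ *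
          ⁅σ ^ 3 * w * (σ ^ 3)⁻¹, q⁆ * ⁅σ ^ 4 * w * (σ ^ 4)⁻¹, q⁆ = 1
        rw [← ml q hq.1 _ (wj 0) _ (uZ 1 q hq.1),
          ← ml q hq.1 _ (mul_mem (wj 0) (wj 1)) _ (uZ 2 q hq.1),
          ← ml q hq.1 _ (mul_mem (mul_mem (wj 0) (wj 1)) (wj 2)) _ (uZ 3 q hq.1),
          ← ml q hq.1 _ (mul_mem (mul_mem (mul_mem (wj 0) (wj 1)) (wj 2)) (wj 3)) _ (uZ 4 q hq.1),
          norm h hσ o hw, commutatorElement_one_left])
      (fun j => (zp _ (mq j q hq.1)).imp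
        (fun k => Subtype.ext ((cj' j q).trans (by rw [k]; simp)))
        fun k => Subtype.ext ((cj' j q).trans (by rw [k])))
      (Subtype.ext (by
        change ⁅σ ^ 0 * w * (σ ^ 0)⁻¹, q⁆ = 1
        simpa [commutatorElement_eq_one_iff_mul_comm] using (mem_C1.1 hq.2).symm))
    have k : ⁅σ ^ 1 * w * (σ ^ 1)⁻¹, q⁆ = 1 := congrArg Subtype.val this
    rw [cj', conj_eq_one_iff, pow_one, commutatorElement_eq_one_iff_mul_comm] at k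
    exact ⟨mem_normalizer_conj (inv_mem hσ) hq.1, mem_C1.2 (by rw [inv_inv]; exact k.symm)⟩
  have nK : σ ∈ Ns (Q ⊓ C1 w) := inv_mem_iff.1 (mem_normalizer_of_cj_le (cj_le_iff.2 key))
  intro q hq
  by_contra nq
  obtain ⟨b, hb, e', k⟩ := P8.Bas2H.idx2 hQ hσ nK (by rw [o]; decide) (by
    refine (P8.Bas1H.cidx (I := zpowers y) fun d hd => ?_).trans
      (by rw [Nat.card_zpowers, orderOf_eq_prime (p := 2) (by rw [pow_two, y2]) y1])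
    rw [← commutatorElement_inv]; exact inv_mem (e d hd)) hq nq
  rw [h _ hb e', mul_one, inv_mem_iff] at k
  exact nq k

theorem core {Q : Subgroup G} {σ w : G} (h : ∀ g ∈ Q, g * σ = σ * g → g = 1)
    (hQ : IsPGroup 2 Q) (hσ : σ ∈ Ns Q) (o : orderOf σ = 5) (hw : w ∈ Q) (w2 : w * w = 1)
    (hd : ∀ a ∈ Q, ∀ b ∈ Q, a ∈ C1 w ∨ b ∈ C1 w ∨ a * b ∈ C1 w) : Q ≤ C1 w := by
  intro t ht
  by_contra nt
  have wi : w⁻¹ = w := inv_eq_of_mul_eq_one_right w2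
  have c0 : ∀ q ∈ C1 w, q * w * q⁻¹ = w := fun q hq => mul_inv_eq_iff_eq_mul.2 (mem_C1.1 hq)
  have c1 : ∀ q ∈ Q, q ∉ C1 w → q * w * q⁻¹ = t * w * t⁻¹ := fun q hq nq => by
    have := c0 _ (((hd _ (inv_mem ht) q hq).resolve_left fun k => nt (inv_mem_iff.1 k)).resolve_left nq)
    calc q * w * q⁻¹ = t * (t⁻¹ * q * w * (t⁻¹ * q)⁻¹) * t⁻¹ := by group
      _ = _ := by rw [this]
  have c2 : ∀ q ∈ Q, q * (t * w * t⁻¹) * q⁻¹ = q * t * w * (q * t)⁻¹ := fun q _ => by group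
  have c3 : ∀ q ∈ Q, q ∈ C1 w → q * (t * w * t⁻¹) * q⁻¹ = t * w * t⁻¹ := fun q hq k => by
    rw [c2 q hq, c1 _ (mul_mem hq ht) fun k' => nt ((mul_mem_cancel_left k).1 k')]
  have hw' : t * w * t⁻¹ ∈ Q := mul_mem (mul_mem ht hw) (inv_mem ht)
  have cw : w * (t * w * t⁻¹) = t * w * t⁻¹ * w :=
    mul_inv_eq_iff_eq_mul.1 (c3 w hw (mem_C1.2 rfl))
  have w3 : t * w * t⁻¹ * (t * w * t⁻¹) = 1 := by rw [conj_mul, w2, mul_one, mul_inv_cancel]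
  generalize t * w * t⁻¹ = w' at c1 c2 c3 hw' cw w3
  refine nt (r5 (y := w * w') h hQ hσ o hw (mul_mem hw hw') (fun q hq => ?_) ?_ (fun q hq => ?_) ht)
  · refine mem_C1.2 (mul_inv_eq_iff_eq_mul.1 ?_)
    rw [← conj_mul]
    by_cases k : q ∈ C1 w
    · rw [c0 q k, c3 q hq k]
    · rw [c1 q hq k, c2 q hq, c0 _ (((hd q hq t ht).resolve_left k).resolve_left nt), cw]
  · calc w * w' * (w * w') = w * (w' * w) * w' := by group
      _ = w * w * (w' * w') := by rw [← cw]; group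
      _ = 1 := by rw [w2, w3, mul_one]
  · have e : ⁅w, q⁆ = w * (q * w * q⁻¹) := by rw [commutatorElement_def, wi]; group
    by_cases k : q ∈ C1 w
    · rw [e, c0 q k, w2]; exact one_mem _
    · rw [e, c1 q hq k]; exact mem_zpowers _

end Phi

theorem phi : StPhi.{u} := fun G _ _ T V D y w hT o yT fp le nV yV hw w2 hD hi hc t ht => by
  have := Fact.mk Nat.prime_five
  by_cases h1 : D.relIndex T = 1
  · exact hc t (relIndex_eq_one.1 h1 ht)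
  have i2 : D.relIndex T = 2 := by
    have h0 : D.relIndex T ≠ 0 := index_ne_zero_of_finite
    omega
  let f := QuotientGroup.mk' (V.subgroupOf (Ns V))
  have hf : ∀ a : Ns V, f a = 1 ↔ (a : G) ∈ V := fun a => QuotientGroup.eq_one_iff a
  have cf : ∀ a b : Ns V, f b ∈ C1 (f a) ↔ ⁅(a : G), (b : G)⁆ ∈ V := fun a b => by
    rw [mem_C1, eq_comm, ← commutatorElement_eq_one_iff_mul_comm, ← map_commutatorElement, hf]
    rfl
  have lf : ∀ a ∈ T, ⁅a, y⁆ ∈ V → a ∈ V := fun a ha e => by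
    obtain ⟨b, hb, e1, e2⟩ := P8.Bas2H.lift hT le nV yV (by rw [o]; decide) ha e
    rwa [mem_bot.1 (fp.le ⟨hb, mem_C1.2 e1⟩), mul_one, inv_mem_iff] at e2
  refine (cf ⟨w, nV hw⟩ ⟨t, nV ht⟩).1 (Phi.core (Q := (T.subgroupOf (Ns V)).map f) (σ := f ⟨y, yV⟩)
    ?_ ((isPGroup_subgroupOf hT _).map f) ?_ ?_ (mem_map_of_mem f hw) ?_ ?_ (mem_map_of_mem f ht))
  · rintro _ ⟨a, ha, rfl⟩ e
    exact (hf a).2 (lf a ha ((cf a ⟨y, yV⟩).1 (mem_C1.2 e.symm)))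
  · refine mem_normalizer_fintype ?_
    rintro _ ⟨a, ha, rfl⟩
    rw [← map_inv, ← map_mul, ← map_mul]
    exact mem_map_of_mem f (mem_normalizer_conj yT ha : y * a * y⁻¹ ∈ T)
  · refine orderOf_eq_prime (by
      rw [← map_pow, hf, SubmonoidClass.coe_pow, ← o, pow_orderOf_eq_one]; exact one_mem _) fun e => ?_
    have := mem_bot.1 (fp.le ⟨le ((hf _).1 e), mem_C1.2 rfl⟩)
    rw [show y = 1 from this, orderOf_one] at o
    exact absurd o (by decide)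
  · rw [← map_mul, hf]; exact w2
  · rintro _ ⟨a, ha, rfl⟩ _ ⟨b, hb, rfl⟩
    rw [← map_mul, cf, cf, cf]
    have := mul_mem_iff_of_index_two (H := D.subgroupOf T) i2 (a := ⟨a, ha⟩) (b := ⟨b, hb⟩)
    by_cases k1 : (a : G) ∈ D
    · exact .inl (hc _ k1)
    by_cases k2 : (b : G) ∈ D
    · exact .inr (.inl (hc _ k2))
    · exact .inr (.inr (hc _ (this.2 (iff_of_false k1 k2))))

end Cfsg.Lib.K35
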