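import Cfsg.Agent.K35.Loc
import Cfsg.Agent.P8.A5F
import Cfsg.Agent.P8.Bas1
import Cfsg.Agent.P8.Bas2
import Cfsg.Agent.P8.BasJ
import Cfsg.Agent.P8.PjB
import Cfsg.Agent.Local.InvolCount
import Mathlib.GroupTheory.SpecificGroups.Alternating.Simple

/-!
# First consequences of the type `A₅`
-/

set_option autoImplicit false

namespace Cfsg.Lib.K35

open Cfsg Subgroup Cfsg.Lib.Trans Cfsg.Lib.Gold
open Cfsg.Lib.P8 (A5 A6 S5 O2 Om Jt Phi EA SR4 Ch E9 Pj Ty Sec SecOK Mx)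
open scoped commutatorElement

universe u

namespace SB

open P8.A5FH

theorem g1 : ∀ a : A5, a.1 4 = 4 ∧ a * a = 1 →
    ((x0 * a * x0⁻¹).1 4 = 4 ∧ x0 * a * x0⁻¹ * (x0 * a * x0⁻¹) = 1) ∧
    (a ≠ 1 → ∀ b : A5, b.1 4 = 4 ∧ b * b = 1 →
      b = 1 ∨ b = a ∨ b = x0 * a * x0⁻¹ ∨ b = x0⁻¹ * a * x0⁻¹⁻¹) := by decide +kernel

theorem g2 : ∀ g : A5, g.1 4 = 4 → g * g = 1 ∨ ((g * x0).1 4 = 4 ∧ g * x0 * (g * x0) = 1) ∨
    ((g * x0⁻¹).1 4 = 4 ∧ g * x0⁻¹ * (g * x0⁻¹) = 1) := by decide +kernel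

theorem g3 : ∃ a b : A5, a * b ≠ b * a ∧ a ^ 5 = 1 ∧ a ≠ 1 :=
  ⟨⟨finRotate 5, Equiv.Perm.mem_alternatingGroup.2 (by decide)⟩, x0, by decide +kernel⟩

theorem card5 : Nat.card A5 = 60 := by rw [nat_card_alternatingGroup]; simp [Nat.factorial]

theorem cardV : Nat.card (V 4) = 4 :=
  (Nat.card_eq_fintype_card (α := {y : A5 // y.1 4 = 4 ∧ y * y = 1})).trans (f4 4)

theorem top {K : Subgroup A5} (h : V 4 ≤ K) {g : A5} (hg : g ∈ K) (n : g.1 4 ≠ 4) : K = ⊤ := by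
  have := Fact.mk Nat.prime_five
  by_contra hK
  obtain ⟨y, m, -, y', m', r1, r2⟩ := f6 4 g n
  have h5 := orderOf_dvd_natCard K (mul_mem (h m') (mul_mem (mul_mem hg (h m)) (inv_mem hg)))
  have h4 := card_dvd_of_le h
  rw [orderOf_eq_prime r1 r2] at h5
  rw [cardV] at h4
  have h1 := Local.card_dvd_factorial_index hK
  have h2 := K.card_mul_index
  obtain ⟨c, hc⟩ := Nat.Coprime.mul_dvd_of_dvd_of_dvd (by norm_num) h4 h5
  rw [card5] at h1 h2
  have h3 : K.index ≤ 3 := by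
    rw [hc] at h2
    rcases c with _ | c
    · omega
    · nlinarith
  have := Nat.le_of_dvd (Nat.factorial_pos _) h1
  have := Nat.factorial_le h3
  simp only [Nat.factorial] at this
  omega

end SB

open SB P8.A5FH P8.BrgH in
theorem sb : StSB.{u} := by
  intro G _ _ M T S π x h
  have := Fact.mk Nat.prime_five
  haveI := P8.pf_Bas1.{u}
  haveI := P8.pf_Bas2.{u}
  haveI J := P8.pf_BasJ.{u}
  haveI P := P8.pf_PjB.{u, 0}
  have R := P8.pf_Brg.{u, 0}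
  have pj := h.ty.toPj
  obtain ⟨h1, h2, -, nT, h5⟩ := P.one pj
  have sM : S ≤ M := fun g hg => ((h.memS g).1 hg).1
  have mS : ∀ {g}, g ∈ M → (g ∈ S ↔ π g ∈ V 4) := fun {g} hg =>
    (h.memS g).trans ⟨fun k => ⟨k.2.2, k.2.1⟩, fun k => ⟨hg, k.2, k.1⟩⟩
  have le : T ≤ S := fun t ht => (mS (pj.le ht)).2 ((pj.ker t (pj.le ht)).2 ht ▸ one_mem _)
  have sur : ∀ v ∈ V 4, ∃ s ∈ S, π s = v := fun v hv => by
    obtain ⟨m, hm, rfl⟩ := pj.sur v
    exact ⟨m, (mS hm).2 hv, rfl⟩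
  have idx : T.relIndex S = 4 := by
    obtain ⟨B, hB, c⟩ := P.im pj S sM
    rw [← c, show B = V 4 from ext fun y => (hB y).trans
      ⟨fun ⟨a, ha, e⟩ => e ▸ (mS (sM ha)).1 ha, sur y⟩, cardV]
  have sq : ∀ s ∈ S, s * s ∈ T := fun s hs => by
    rw [← pj.ker _ (sM (mul_mem hs hs)), pj.mul _ (sM hs) _ (sM hs)]
    exact ((h.memS s).1 hs).2.1
  obtain ⟨-, -, o1, o2, o3, o4, -⟩ := J.leT T
  have nV : M ≤ Ns (Om T) := nT.trans o2
  have neV := (J.ne pj.two h.ty.ne).2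
  have tV : T ≤ Ns (Om T) := pj.le.trans nV
  have five : ∀ c ∈ M, π c ^ 5 = 1 → π c ≠ 1 → ∃ b ∈ zpowers c, orderOf b = 5 := fun c hc a b => by
    have o := orderOf_eq_prime a b
    obtain ⟨y, hy, -, e⟩ := P.odd pj c hc (by rw [o]; decide)
    exact ⟨y, hy, e.trans o⟩
  refine ⟨⟨sM, fun s => ?_, fun d => ?_⟩, le, idx, sq, ?_, nT, ?_, neV, fun hs => ?_,
    fun H k1 k2 => ?_, fun Y k1 k2 => ?_, fun a ha na => ?_, Oq T (Om T) tV,
    fun w => ⟨fun k => ⟨k.1.1, k.2, k.1.2⟩, fun k => ⟨⟨k.1, k.2.2⟩, k.2.1⟩⟩, ?_, ?_, R.om nT⟩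
  · obtain ⟨k, hk⟩ := pj.two ⟨_, sq s s.2⟩
    refine ⟨k + 1, Subtype.ext ?_⟩
    rw [pow_succ', pow_mul, coe_pow, pow_two]
    exact congrArg Subtype.val hk
  · have e := relIndex_mul_relIndex T S M le sM
    rw [idx, (P.card pj).2.1, card5] at e
    omega
  · refine mem_normalizer_fintype fun s hs => ?_
    rw [SetLike.mem_coe, mS (mul_mem (mul_mem h.xM (sM hs)) (inv_mem h.xM)),
      P8.PjBH.cj pj h.xM (sM hs), h.px]
    exact (g1 _ ((mS (sM hs)).1 hs)).1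
  · refine le_antisymm ?_ (le_inf pj.le o4)
    obtain ⟨B, hB, -⟩ := P.im pj (M ⊓ Cs (Om T)) inf_le_left
    have nB : B.Normal := ⟨fun b hb g => by
      obtain ⟨c, hc, rfl⟩ := (hB b).1 hb
      obtain ⟨m, hm, rfl⟩ := pj.sur g
      exact (hB _).2 ⟨_, mem_normalizer_conj
        (Solv.le_normalizer_inf_centralizer le_normalizer nV hm) hc, P8.PjBH.cj pj hm hc.1⟩⟩
    rcases nB.eq_bot_or_eq_top with e | e
    · exact fun c hc => (pj.ker c hc.1).1 (mem_bot.1 (e ▸ (hB _).2 ⟨c, hc, rfl⟩))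
    · obtain ⟨a, -, -, a1, a2⟩ := g3
      obtain ⟨c, hc, rfl⟩ := (hB a).1 (e ▸ mem_top _)
      obtain ⟨b, hb, ob⟩ := five c hc.1 a1 a2
      have hb' := zpowers_le.2 hc hb
      refine absurd (le_bot_iff.1 ((le_inf o1 fun v hv => ?_).trans (h.fp b hb'.1 ob).le)) neV
      exact mem_C1.2 (mem_Cs.1 hb'.2 v hv)
  · obtain ⟨a, b, n, -⟩ := g3
    exact n (IsSimpleGroup.comm_iff_isSolvable.2 ((P.card pj).2.2.2.1 hs) a b)
  · by_cases k : ∀ g ∈ H, (π g).1 4 = 4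
    · refine Or.inl fun g hg => ?_
      have k' : ∀ {w}, w ∈ zpowers x → π g * π w ∈ V 4 → g ∈ S ⊔ zpowers x := fun {w} hw s => by
        have wH := zpowers_le.2 h.xM hw
        have : g * w ∈ S := by rwa [mS (mul_mem (k2 hg) wH), pj.mul _ (k2 hg) _ wH]
        simpa using mul_mem_sup this (inv_mem hw)
      rcases g2 _ (k g hg) with r | r | r
      · exact mem_sup_left ((mS (k2 hg)).2 ⟨k g hg, r⟩)
      · exact k' (mem_zpowers x) (h.px ▸ r)
      · exact k' (inv_mem (mem_zpowers x)) (by rw [h2 _ h.xM, h.px]; exact r)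
    · push Not at k
      obtain ⟨g, hg, n⟩ := k
      obtain ⟨B, hB, -⟩ := P.im pj H k2
      have e := top (K := B) (fun v hv => by
        obtain ⟨s, hs, e⟩ := sur v hv
        exact (hB v).2 ⟨s, k1 hs, e⟩) ((hB _).2 ⟨g, hg, rfl⟩) n
      refine Or.inr (le_antisymm k2 fun m hm => ?_)
      obtain ⟨a, ha, e'⟩ := (hB (π m)).1 (e ▸ mem_top _)
      simpa using mul_mem ha (k1 (le ((h5 a (k2 ha) m hm).1 e')))
  · by_cases k : Y ≤ T
    · exact Or.inl k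
    obtain ⟨y, hy, n⟩ := SetLike.not_le_iff_exists.1 k
    have yM := sM (k1 hy)
    refine Or.inr (le_antisymm (sup_le k1 le) fun s hs => ?_)
    have k' : ∀ y' ∈ Y, π s = π y' → s ∈ Y ⊔ T := fun y' hy' e => by
      simpa using mul_mem_sup hy' ((h5 y' (sM (k1 hy')) s (sM hs)).1 e.symm)
    rcases (g1 _ ((mS yM).1 (k1 hy))).2 (fun e => n ((pj.ker y yM).1 e)) _ ((mS (sM hs)).1 hs)
      with r | r | r | r
    · exact k' 1 (one_mem _) (r.trans h1.symm)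
    · exact k' y hy r
    · exact k' _ (mem_normalizer_conj k2 hy) (by rw [P8.PjBH.cj pj h.xM yM, h.px, r])
    · exact k' _ (mem_normalizer_conj (inv_mem k2) hy)
        (by rw [P8.PjBH.cj pj (inv_mem h.xM) yM, h2 _ h.xM, h.px, r])
  · obtain ⟨-, g, r1, r2⟩ := f7 (π a) ⟨fun e => na ((pj.ker a (sM ha)).1 e), ((h.memS a).1 ha).2.1⟩
    obtain ⟨m, hm, rfl⟩ := pj.sur g
    have c := mul_mem (mul_mem hm (sM ha)) (inv_mem hm)
    rw [← P8.PjBH.cj pj hm (sM ha), ← pj.mul _ (sM ha) _ c] at r1 r2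
    obtain ⟨b, hb, ob⟩ := five _ (mul_mem (sM ha) c) r1 r2
    exact ⟨m, hm, b, zpowers_le.2 (mul_mem (subset_closure (by simp)) (subset_closure (by simp))) hb,
      ob⟩
  all_goals
    have nW : M ≤ Ns (Oq T (Om T) tV) := fun g hg => by
      refine mem_normalizer_of_cj_le (cj_le_iff.2 fun a ha =>
        ⟨⟨mem_normalizer_conj (nT hg) ha.1.1, fun q hq => ?_⟩, ?_⟩)
      · rw [show ⁅g * a * g⁻¹, q⁆ = g * ⁅a, g⁻¹ * q * g⁆ * g⁻¹ by
          simp only [commutatorElement_def]; group]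
        exact mem_normalizer_conj (nV hg) (ha.1.2 _ (mem_normalizer_conj' (nT hg) hq))
      · rw [conj_mul]
        exact mem_normalizer_conj (nV hg) ha.2
  · exact ⟨fun a ha => ⟨⟨o1 ha, fun q hq => le_normalizer_iff_commutator_le_left.1 tV
      (commutator_mem_commutator ha hq)⟩, mul_mem ha ha⟩, fun a ha => ha.1.1, nV, nW,
      commutator_le.2 fun a ha b hb => ha.1.2 b hb, fun a ha => ha.2⟩
  · have cw : ∀ w ∈ Oq T (Om T) tV, ∀ t ∈ T, ∃ v ∈ Om T, w * t * w⁻¹ = v * t := fun w hw t ht =>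
      ⟨_, hw.1.2 t ht, by simp only [commutatorElement_def, inv_mul_cancel_right]⟩
    have cm : ∀ v ∈ Om T, ∀ t ∈ T, Commute v t := fun v hv t ht => mem_Cs.1 (o4 ht) v hv
    refine ⟨inf_le_left, le_rfl, Solv.le_normalizer_inf_centralizer nT nW, nT,
      commutator_le.2 fun a ha b hb => ⟨commutator_le_self T (commutator_mem_commutator ha hb),
        mem_Cs.2 fun w hw => ?_⟩, fun a ha => ⟨mul_mem ha ha, mem_Cs.2 fun w hw => ?_⟩⟩
    · obtain ⟨v, hv, e⟩ := cw w hw a ha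
      obtain ⟨v', hv', e'⟩ := cw w hw b hb
      rw [← mul_inv_eq_iff_eq_mul, conjugate_commutatorElement, e, e', commutatorElement_def,
        commutatorElement_def, (cm v' hv' b hb).eq, mul_inv_rev, mul_inv_rev, mul_assoc v,
        mul_assoc v, mul_assoc v, (cm v hv _ ?_).eq]
      · have c1 := (cm v' hv' _ (mul_mem (inv_mem ha) (inv_mem (o1 hv)))).eq
        have c2 := (cm v hv _ (inv_mem hb)).inv_left.eq
        calc a * (b * v') * (a⁻¹ * v⁻¹) * (v'⁻¹ * b⁻¹) * v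
            = a * b * (v' * (a⁻¹ * v⁻¹)) * v'⁻¹ * b⁻¹ * v := by simp only [mul_assoc]
          _ = a * b * a⁻¹ * (v⁻¹ * b⁻¹) * v := by
            rw [c1]; simp only [mul_assoc, mul_inv_cancel_left]
          _ = _ := by rw [c2]; simp only [mul_assoc, inv_mul_cancel, mul_one]
      · exact mul_mem (mul_mem (mul_mem ha (mul_mem hb (o1 hv'))) (mul_mem (inv_mem ha)
          (inv_mem (o1 hv)))) (mul_mem (inv_mem (o1 hv')) (inv_mem hb))
    · obtain ⟨v, hv, e⟩ := cw w hw a ha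
      rw [← mul_inv_eq_iff_eq_mul, ← conj_mul, e, (cm v hv a ha).symm.mul_mul_mul_comm, ← pow_two,
        o3.2 v hv, one_mul]

end Cfsg.Lib.K35
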