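import Cfsg.Agent.K35.Loc
import Cfsg.Agent.P8.PjB

/-!
# Simple groups of order `2 ^ b * 3 ^ a * 5`: the overgroups of a Sylow subgroup in `A₅` and `S₅`
-/

set_option autoImplicit false

namespace Cfsg.Lib.K35

open Cfsg Subgroup Cfsg.Lib.Trans Cfsg.Lib.Gold
open Cfsg.Lib.P8 (A5 A6 S5 O2 Om Jt Phi EA SR4 Ch E9 Pj Ty Sec SecOK Mx)
open scoped commutatorElement

universe u

namespace Um

open Equiv

/-- The even involutions fixing a point. -/
def Dl (l : Fin 5) (a : S5) : Prop := a l = l ∧ a * a = 1 ∧ Perm.sign a = 1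

instance (l : Fin 5) (a : S5) : Decidable (Dl l a) := by unfold Dl; infer_instance

theorem mul0 : ∀ a, Dl 0 a → ∀ b, Dl 0 b → Dl 0 (a * b) := by decide +kernel

theorem tr : ∀ i j l : Fin 5, j ≠ i → l = i ∨ ∃ d, Dl i d ∧ d j = l := by decide +kernel

theorem two : ∀ s : S5, Perm.sign s = 1 → ∃ l a, Dl l a ∧ ∃ m, Dl m (a * s) := by decide +kernel

theorem mv : ∀ i : Fin 5, ∃ r : S5, Perm.sign r = 1 ∧ r i ≠ i := by decide +kernel

theorem Dl.cj {l : Fin 5} {a : S5} (h : Dl l a) (x : S5) : Dl (x l) (x * a * x⁻¹) :=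
  ⟨by simp [h.1], by rw [conj_mul, h.2.1]; simp, by simp [h.2.2]⟩

/-- A four-group. -/
def D0 : Subgroup S5 where
  carrier := {a | Dl 0 a}
  mul_mem' ha hb := mul0 _ ha _ hb
  one_mem' := ⟨rfl, mul_one _, Perm.sign_one⟩
  inv_mem' ha := by rwa [inv_eq_of_mul_eq_one_right ha.2.1]

theorem core {R P : Subgroup S5} (hA : alternatingGroup (Fin 5) ≤ R) (hP : IsSylowIn 2 P R) :
    ∃ i, ∀ K : Subgroup S5, P ≤ K → K ≤ R → (∃ k ∈ K, k i ≠ i) → R ≤ K := by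
  have := Fact.mk Nat.prime_two
  obtain ⟨x, -, hx⟩ := hP.exists_cj_le (Q := D0)
    (fun a => ⟨1, Subtype.ext (by simpa [pow_two] using a.2.2.1)⟩) fun a ha => hA ha.2.2
  refine ⟨x 0, fun K h1 h2 ⟨k, hk, n⟩ => ?_⟩
  have k1 : ∀ l g, g ∈ K → (∀ a, Dl l a → a ∈ K) → ∀ a, Dl (g l) a → a ∈ K := fun l g hg h a ha => by
    have := mul_mem (mul_mem hg (h _ (by simpa using ha.cj g⁻¹ : Dl l (g⁻¹ * a * g)))) (inv_mem hg)
    simpa [mul_assoc] using this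
  have k2 : ∀ a, Dl (x 0) a → a ∈ K := fun a ha => h1 (hx (by
    have h0 : Dl 0 (x⁻¹ * a * x) := by simpa using ha.cj x⁻¹
    have := conj_mem_cj (g := x).2 (show _ ∈ D0 from h0)
    simpa [mul_assoc] using this))
  have k3 : ∀ l a, Dl l a → a ∈ K := fun l => by
    rcases tr _ _ l n with rfl | ⟨d, hd, rfl⟩
    exacts [k2, k1 _ d (k2 d hd) (k1 _ k hk k2)]
  have k4 : ∀ s, Perm.sign s = 1 → s ∈ K := fun s hs => by
    obtain ⟨l, a, ha, m, hb⟩ := two s hs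
    exact (mul_mem_cancel_left (k3 l a ha)).1 (k3 m _ hb)
  intro r hr
  rcases Int.units_eq_one_or (Perm.sign r) with e | e
  · exact k4 r e
  have h3 : swap (0 : Fin 5) 1 ∈ R := (mul_mem_cancel_right hr).1 (hA (by
    rw [Perm.mem_alternatingGroup, Perm.sign_mul, e, Perm.sign_swap (by decide)]; rfl))
  obtain ⟨y, -, hy⟩ := hP.exists_cj_le (Q := zpowers (swap (0 : Fin 5) 1))
    (IsPGroup.of_card (n := 1) (by
      rw [Nat.card_zpowers]; exact orderOf_eq_prime (by decide) (by decide))) (zpowers_le.2 h3)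
  exact (mul_mem_cancel_right (h1 (hy (conj_mem_cj.2 (mem_zpowers _))))).1 (k4 _ (by
    simp [e]))

variable {G : Type u} [Group G] [Finite G] {H Q S : Subgroup G}

theorem main (φ : H →* S5) (hA : alternatingGroup (Fin 5) ≤ φ.range)
    (hker : φ.ker = Q.subgroupOf H) (hQ : Q ≤ S) (hS : IsSylowIn 2 S H) : Um S H := by
  obtain ⟨i, hi⟩ := core hA (φ.range_eq_map ▸ hS.subgroupOf_top.map φ)
  refine ⟨((MulAction.stabilizer S5 i).comap φ).map H.subtype, (map_subtype_le _).lt_of_ne fun e => ?_,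
    fun K h1 h2 k hk => ⟨⟨k, h2.le hk⟩, by_contra fun n => h2.not_ge fun h hh => ?_, rfl⟩⟩
  · obtain ⟨r, hr, n⟩ := mv i
    obtain ⟨h, rfl⟩ := hA hr
    obtain ⟨h', h1, e'⟩ := e.ge h.2
    exact n (Subtype.ext e' ▸ h1 : h ∈ (MulAction.stabilizer S5 i).comap φ)
  · obtain ⟨a, ha, e⟩ := hi ((K.subgroupOf H).map φ) (map_mono (comap_mono h1)) (map_le_range _ _)
      ⟨_, ⟨⟨k, h2.le hk⟩, hk, rfl⟩, n⟩ ⟨⟨h, hh⟩, rfl⟩
    have : a⁻¹ * ⟨h, hh⟩ ∈ Q.subgroupOf H := by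
      rw [← hker, MonoidHom.mem_ker, map_mul, map_inv, e, inv_mul_cancel]
    exact (mul_mem_cancel_left (inv_mem ha : (a : G)⁻¹ ∈ K)).1 (h1 (hQ this))

end Um

theorem um : StUm.{u} := fun G _ _ H S h hS => by
  have := Fact.mk Nat.prime_two
  rcases h with ⟨π, h⟩ | ⟨π, h⟩ <;> obtain ⟨f, -, h1, h2⟩ := P8.PjBH.hom h.toPj <;>
    have h3 := hS.le_of_normal h.two h.le (P8.PjBH.nor h.toPj)
  · refine Um.main ((alternatingGroup (Fin 5)).subtype.comp f) (fun s hs => ?_)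
      (by rw [← h2, ← MonoidHom.comap_ker, ker_subtype, MonoidHom.comap_bot]) h3 hS
    obtain ⟨a, ha⟩ := h1 ⟨s, hs⟩
    exact ⟨a, congrArg Subtype.val ha⟩
  · exact Um.main f (fun s _ => h1 s) h2 h3 hS

end Cfsg.Lib.K35
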