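import Cfsg.Agent.K35.ChK
import Cfsg.Agent.LieP.Gen

/-! Simple groups of order `2 ^ a * 3 * 5 * q ^ b`: the 13-subgroups in degree 64. -/

set_option autoImplicit false
set_option linter.unusedSectionVars false
set_option linter.unusedVariables false

namespace Cfsg.Lib.K35

open Cfsg Subgroup Cfsg.Lib.Char
open scoped commutatorElement

universe u

namespace P3a

theorem sum13 {f : ℕ → ℂ} {d : ℂ} (h : ∀ b, 0 < b → b < 13 → f b = d) :
    ∑ b ∈ Finset.range 13, f b = f 0 + 12 * d := by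
  rw [Finset.sum_range_succ', Finset.sum_congr rfl (g := fun _ => d) fun b hb =>
    h _ (Nat.succ_pos b) (by have := Finset.mem_range.1 hb; omega)]
  simp [add_comm]

theorem num {ι : Type u} [Fintype ι] (ε η : ι → ℂ) (h1 : ∀ i, η i ^ 13 = 1)
    (h2 : ∀ i, η i = 1 → ε i ^ 13 = 1) (hc : (Fintype.card ι : ℂ) = 64) {c d : ℤ}
    (hd : ∀ b, 0 < b → b < 13 → ∑ i, η i ^ b = d)
    (he : ∀ a b, 0 < a → a < 13 → b < 13 → ∑ i, ε i ^ a * η i ^ b = c)
    (hm : (13 : ℤ) ∣ c - 64) : d = 64 := by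
  classical
  set n := (Finset.univ.filter fun i => η i = 1).card with hn
  set r := (Finset.univ.filter fun i => η i = 1 ∧ ε i = 1).card with hr
  have c64 : Fintype.card ι = 64 := by exact_mod_cast hc
  have n64 : n ≤ 64 := c64 ▸ Finset.card_le_univ _
  have e1 : ∑ b ∈ Finset.range 13, ∑ i, η i ^ b = 13 * n := by
    rw [Finset.sum_comm, Finset.sum_congr rfl fun i _ => ChK.geom (h1 i), ← Finset.sum_filter]
    simp [hn, mul_comm]
  have e2 : ∑ b ∈ Finset.range 13, ∑ i, η i ^ b = 64 + 12 * d := by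
    rw [sum13 (f := fun b => ∑ i, η i ^ b) hd]
    simp [hc]
  have e3 : ∑ a ∈ Finset.range 13, ∑ b ∈ Finset.range 13, ∑ i, ε i ^ a * η i ^ b = 169 * r := by
    have : ∀ i, ∑ a ∈ Finset.range 13, ∑ b ∈ Finset.range 13, ε i ^ a * η i ^ b =
        if η i = 1 ∧ ε i = 1 then (169 : ℂ) else 0 := fun i => by
      rw [← Finset.sum_mul_sum, ChK.geom (h1 i)]
      by_cases e : η i = 1
      · rw [ChK.geom (h2 i e)]
        by_cases e' : ε i = 1 <;> simp [e, e']
        norm_num
      · simp [e]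
    rw [Finset.sum_congr rfl fun a _ => Finset.sum_comm, Finset.sum_comm,
      Finset.sum_congr rfl fun i _ => this i, ← Finset.sum_filter]
    simp [hr, mul_comm]
  have e4 : ∑ a ∈ Finset.range 13, ∑ b ∈ Finset.range 13, ∑ i, ε i ^ a * η i ^ b =
      13 * n + 12 * (13 * c) := by
    rw [sum13 (f := fun a => ∑ b ∈ Finset.range 13, ∑ i, ε i ^ a * η i ^ b) (d := 13 * c)]
    · simp only [pow_zero, one_mul]
      rw [e1]
    · intro a ha ha'
      rw [Finset.sum_congr rfl (g := fun _ => (c : ℂ)) fun b hb =>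
        he a b ha ha' (Finset.mem_range.1 hb)]
      simp
  have f1 : (13 * n : ℤ) = 64 + 12 * d := by exact_mod_cast e1.symm.trans e2
  have f2 : (169 * r : ℤ) = 13 * n + 12 * (13 * c) := by exact_mod_cast e3.symm.trans e4
  omega

variable {G : Type u} [Group G] [Finite G] {χ : G → ℂ}

theorem gal (hχ : IsCharacter G χ) (hr : Rat χ) (g : G) {m : ℕ} (hm : m.Coprime (orderOf g)) :
    χ (g ^ m) = χ g :=
  (hχ.isGeneralizedCharacter.exists_int_iff g).1 (hr g) m hm

theorem cop {a : ℕ} (h : ¬ 13 ∣ a) (k : ℕ) : a.Coprime (13 ^ k) :=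
  (((by norm_num : Nat.Prime 13).coprime_iff_not_dvd.2 h).symm).pow_right k

theorem no169 (hχ : IsCharacter G χ) (h1 : χ 1 = 64) (hr : Rat χ) (hf : ∀ g, χ g = χ 1 → g = 1)
    {v : G} (hv : orderOf v = 13 ^ 2) : False := by
  obtain ⟨ι, _, ε, η, k1, -, k3⟩ := ChK.exists_two hχ (rfl : v * v = v * v)
  have k4 : ∀ a, χ (v ^ a) = ∑ i, ε i ^ a := fun a => by simpa using k3 a 0
  have hz : orderOf (v ^ 13) = 13 := by
    rw [orderOf_pow' _ (by norm_num), hv]; norm_num
  obtain ⟨c, hc⟩ := hr v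
  obtain ⟨d, hd⟩ := hr (v ^ 13)
  have h64 : d = 64 := by
    refine num ε (fun i => ε i ^ 13) (fun i => ?_) (fun i h => h) ?_ (c := c) (fun b hb hb' => ?_)
      (fun a b ha ha' hb => ?_) ?_
    · rw [← pow_mul, ← k1 i, hv]; norm_num
    · have := k4 0
      simp only [pow_zero, Finset.sum_const, Finset.card_univ, nsmul_eq_mul, mul_one] at this
      rw [← this, h1]
    · rw [← hd, ← gal hχ hr (v ^ 13) (m := b) (by
        rw [hz]; simpa using cop (a := b) (by omega) 1), ← pow_mul, k4]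
      exact Finset.sum_congr rfl fun i _ => (pow_mul _ _ _).symm
    · rw [← hc, ← gal hχ hr v (m := a + 13 * b) (by rw [hv]; exact cop (by omega) 2), k4]
      exact Finset.sum_congr rfl fun i _ => by rw [pow_add, pow_mul]
    · refine ChK.cong hχ (p := 13) (k := 2) (by norm_num) (g := v) (h := 1)
        (by rw [← hv, pow_orderOf_eq_one]) (by simp) (by rw [mul_one, hc]) (by rw [h1]; norm_num)
  have := hf (v ^ 13) (by rw [hd, h64, h1]; norm_num)
  rw [this, orderOf_one] at hz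
  omega

theorem noH (hχ : IsCharacter G χ) (h1 : χ 1 = 64) (hr : Rat χ) (hf : ∀ g, χ g = χ 1 → g = 1)
    {x y z : G} (hx : x ^ 13 = 1) (hz : orderOf z = 13) (e : y * x * y⁻¹ = x * z)
    (c1 : Commute x z) (c2 : Commute y z) : False := by
  obtain ⟨ι, _, ε, η, k1, k2, k3⟩ := ChK.exists_two hχ c1.eq
  have ox : orderOf x ∣ 13 := orderOf_dvd_of_pow_eq_one hx
  obtain ⟨c, hc⟩ := hr x
  obtain ⟨d, hd⟩ := hr z
  have e1 : ∀ k : ℕ, y ^ k * x * (y ^ k)⁻¹ = x * z ^ k := fun k => by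
    induction k with
    | zero => simp
    | succ k ih =>
      calc y ^ (k + 1) * x * (y ^ (k + 1))⁻¹ = y * (y ^ k * x * (y ^ k)⁻¹) * y⁻¹ := by group
        _ = (y * x * y⁻¹) * (y * z ^ k * y⁻¹) := by rw [ih]; group
        _ = x * z ^ (k + 1) := by rw [e, (c2.pow_right k).eq]; group
  have e2 : ∀ a k : ℕ, χ (x ^ a * z ^ (k * a)) = χ (x ^ a) := fun a k => by
    rw [pow_mul, ← (c1.pow_right k).mul_pow, ← e1, conj_pow]
    exact hχ.isClassFunction _ _
  have h64 : d = 64 := by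
    refine num ε η (fun i => hz ▸ k2 i) (fun i _ => ?_) ?_ (c := c) (fun b hb hb' => ?_)
      (fun a b ha ha' hb => ?_) ?_
    · obtain ⟨t, ht⟩ := ox
      rw [ht, pow_mul, k1, one_pow]
    · have := k3 0 0
      simp only [pow_zero, Finset.sum_const, Finset.card_univ, nsmul_eq_mul, mul_one] at this
      rw [← this, h1]
    · rw [← hd, ← gal hχ hr z (m := b) (by rw [hz]; simpa using cop (a := b) (by omega) 1)]
      simpa using (k3 0 b).symm
    · have ca : a.Coprime 13 := by simpa using cop (a := a) (by omega) 1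
      obtain ⟨k, hk⟩ : ∃ k, k * a ≡ b [MOD 13] := by
        refine ⟨b * a ^ 11, ?_⟩
        have := Nat.ModEq.pow_totient ca
        rw [Nat.totient_prime (by norm_num)] at this
        simpa [mul_assoc, ← pow_succ] using this.mul_left b
      rw [← k3, ← (pow_eq_pow_iff_modEq (x := z)).2 (hz ▸ hk), e2, ← hc]
      exact gal hχ hr x (ca.coprime_dvd_right ox)
    · refine ChK.cong hχ (p := 13) (k := 1) (by norm_num) (g := x) (h := 1)
        (by simpa using hx) (by simp) (by rw [mul_one, hc]) (by rw [h1]; norm_num)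
  have := hf z (by rw [hd, h64, h1]; norm_num)
  rw [this, orderOf_one] at hz
  omega

end P3a

theorem p3a : StP3a.{u} := by
  intro G _ _ χ hχ h1 hr hf Q hQ
  have : Fact (Nat.Prime 13) := ⟨by norm_num⟩
  have hexp : ∀ a ∈ Q, a ^ 13 = 1 := fun a ha => by
    obtain ⟨k, hk⟩ := (IsPGroup.iff_orderOf.1 hQ) ⟨a, ha⟩
    rw [Subgroup.orderOf_mk] at hk
    by_contra hne
    have k2 : 2 ≤ k := by
      by_contra hlt
      refine hne (orderOf_dvd_iff_pow_eq_one.1 ?_)
      rw [hk]
      exact (pow_dvd_pow 13 (by omega : k ≤ 1)).trans (by simp)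
    refine P3a.no169 hχ h1 hr hf (v := a ^ 13 ^ (k - 2)) ?_
    rw [orderOf_pow' _ (by positivity), hk, Nat.gcd_eq_right (pow_dvd_pow 13 (by omega)),
      Nat.pow_div (by omega) (by norm_num)]
    congr 1; omega
  refine ⟨?_, hexp⟩
  by_contra hna
  obtain ⟨a, b, ho, hc⟩ := LieP.Gen.exists_comm (by norm_num) hQ hna
  have hc' := mem_center_iff.1 hc
  refine P3a.noH hχ h1 hr hf (x := (b : G)) (y := (a : G)) (z := ((⁅a, b⁆ : Q) : G)) (hexp _ b.2)
    (by rw [Subgroup.orderOf_coe, ho]) ?_ (congrArg Subtype.val (hc' b)) (congrArg Subtype.val (hc' a))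
  rw [show (b : G) * ((⁅a, b⁆ : Q) : G) = ((⁅a, b⁆ : Q) : G) * b from congrArg Subtype.val (hc' b)]
  simp [commutatorElement_def]

end Cfsg.Lib.K35
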