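import Cfsg.Agent.K35.Loc
import Cfsg.Agent.S2980
import Cfsg.Agent.Trans.BlkRed
import Cfsg.Agent.Class.HermSimple
import Cfsg.Agent.Known.GL2Card
import Cfsg.Agent.P8.PjB
import Mathlib.GroupTheory.SpecificGroups.Alternating.Simple

/-!
# Simple groups of order `2 ^ b * 3 ^ a * 5`: pushing up
-/

set_option autoImplicit false

namespace Cfsg.Lib.K35

open Cfsg Subgroup Cfsg.Lib.Trans Cfsg.Lib.Gold
open Cfsg.Lib.P8 (A5 A6 S5 O2 Om Jt Phi EA SR4 Ch E9 Pj Ty Sec SecOK Mx)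
open scoped commutatorElement

universe u v

namespace PU

theorem le_of_norm {X : Type v} [Group X] {L N : Subgroup X} [L.Normal] [IsSimpleGroup L]
    (hC : Cs L = ⊥) (h0 : N ≠ ⊥) (hN : L ≤ Ns N) : L ≤ N := by
  rcases (normal_subgroupOf_of_le_normalizer hN).eq_bot_or_eq_top with e | e
  · refine absurd (le_bot_iff.1 (hC ▸ commutator_eq_bot_iff_le_centralizer.1 (le_bot_iff.1 ?_))) h0
    rw [← disjoint_iff.1 (subgroupOf_eq_bot.1 e)]
    exact Local.commutator_le_inf_of_le_normalizer le_normalizer_of_normal hN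
  · exact subgroupOf_eq_top.1 e

theorem not_comm {X : Type v} [Group X] {L : Subgroup X} (hC : Cs L = ⊥) (h5 : 5 ∣ Nat.card L)
    (h : L ≤ Cs L) : False := by
  rw [hC, le_bot_iff] at h
  rw [h, card_bot] at h5
  omega

theorem ar1 {m b a : ℕ} (h : m ∣ 2 ^ b * 3 ^ a * 5) (h2 : ¬ 2 ∣ m) (h3 : ¬ 3 ∣ m) :
    m = 1 ∨ m = 5 :=
  (Nat.dvd_prime Nat.prime_five).1 (Nat.Coprime.dvd_of_dvd_mul_left (Nat.Coprime.mul_right
    (((Nat.Prime.coprime_iff_not_dvd Nat.prime_two).2 h2).symm.pow_right b)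
    (((Nat.Prime.coprime_iff_not_dvd Nat.prime_three).2 h3).symm.pow_right a)) h)

theorem ar2 {r b a : ℕ} (h4 : 4 ∣ r) (h0 : 3 < r) (h : r * (r - 1) * (r + 1) ∣ 2 ^ b * 3 ^ a * 5) :
    r = 4 := by
  by_cases h3 : 3 ∣ r + 1
  · have := ar1 (((dvd_mul_left _ r).mul_right _).trans h) (by omega) (by omega)
    omega
  · have := ar1 ((dvd_mul_left _ _).trans h) (by omega) h3
    omega

theorem ar3 {b a : ℕ} : ¬ 7 ∣ 2 ^ b * 3 ^ a * 5 := fun h => by
  have := ar1 h (by omega) (by omega)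
  omega

theorem card_even : Nat.card {v : Fin (2 * 2 + 1) → ZMod 2 // ∑ i, v i = 0} = 16 := by
  rw [Nat.card_eq_fintype_card]
  decide +kernel

theorem block {K : Type u} [Group K] [Finite K] {T E : Subgroup K} (h : IsBaumannBlock 2 T E)
    {b a : ℕ} (ho : Nat.card K ∣ 2 ^ b * 3 ^ a * 5) (h5 : 5 ∣ Nat.card (E ⧸ pCore 2 E))
    (fp : ∀ q ∈ pCoreOf 2 E, q ∈ Cs E → q = 1) :
    Nat.card (pCoreOf 2 E) = 16 ∧ Nat.card (E ⧸ pCore 2 E) = 60 := by
  have hn : Nat.card (E ⧸ pCore 2 E) ∣ 2 ^ b * 3 ^ a * 5 :=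
    ((card_quotient_dvd_card _).trans (card_subgroup_dvd_card E)).trans ho
  obtain ⟨-, -, -, -, ⟨F, _, _, n, hF, ⟨e⟩, ⟨-, -, ρ, ψ, -, hs, hk, -⟩, hQ⟩ |
    ⟨-, m, ⟨e⟩, ⟨-, -, ρ, ψ, -, h1, h2, hk, -⟩, hQ⟩⟩ := h
  · replace hQ := hQ.resolve_right fun c => absurd c.1 (by decide)
    rw [Nat.card_congr e.toEquiv] at hn h5 ⊢
    have h3 : ¬ Fintype.card F ≤ 3 := fun h3 => by
      have := Fintype.one_lt_card (α := F)
      have h2 : Fintype.card F = 2 := by
        rcases n with _ | n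
        · omega
        · rw [pow_succ] at hF
          omega
      rw [BB.card_commutator_two h2] at h5
      omega
    rw [BB.commutator_eq_top h3, card_top, Known.GL2.card_SL_two] at hn ⊢
    have h4 : Fintype.card F = 4 := ar2 (by
      rw [hF] at h3 ⊢
      refine pow_dvd_pow 2 (show 2 ≤ n from ?_)
      by_contra c
      interval_cases n <;> simp at h3) (by omega) hn
    refine ⟨?_, by rw [h4]⟩
    have hi : Function.Injective ψ := (injective_iff_map_eq_one ψ).2 fun u hu =>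
      Subtype.ext (fp _ (hQ.ge u.2) ((hk u).1 hu).2)
    rw [hQ, Nat.card_congr (Equiv.ofBijective ψ ⟨hi, hs⟩), Nat.card_eq_fintype_card,
      Fintype.card_multiplicative, Fintype.card_fun, h4]
    rfl
  · rw [Nat.card_congr e.toEquiv] at hn h5 ⊢
    have h6 : 5 ≤ 2 * m + 1 := (Nat.prime_five.dvd_factorial).1 (by
      have := h5.trans (card_subgroup_dvd_card _)
      rwa [Nat.card_perm, Nat.card_eq_fintype_card, Fintype.card_fin] at this)
    have : Nontrivial (Fin (2 * m + 1)) := Fin.nontrivial_iff_two_le.2 (by omega)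
    have h7 := two_mul_nat_card_alternatingGroup (α := Fin (2 * m + 1))
    rw [Nat.card_perm, Nat.card_eq_fintype_card (α := Fin _), Fintype.card_fin] at h7
    obtain rfl : m = 2 := by
      by_contra c
      have h8 : 7 ∣ (2 * m + 1).factorial := Nat.dvd_factorial (by omega) (by omega)
      rw [← h7] at h8
      exact ar3 ((Nat.Coprime.dvd_of_dvd_mul_left (by norm_num) h8).trans hn)
    refine ⟨?_, by simp only [Nat.factorial] at h7; omega⟩
    rw [hQ, ← card_even]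
    refine Nat.card_congr (Equiv.ofBijective (fun u => ⟨_, h1 u⟩) ⟨fun u w e => ?_, fun v => ?_⟩)
    · exact (injective_iff_map_eq_one ψ).2 (fun u hu =>
        Subtype.ext (fp _ (hQ.ge u.2) ((hk u).1 hu).2))
        (Multiplicative.toAdd.injective (congrArg Subtype.val e))
    · obtain ⟨u, hu⟩ := h2 v.1 v.2
      exact ⟨u, Subtype.ext hu⟩

theorem core {K : Type u} {X : Type v} [Group K] [Finite K] [Group X] (f : K →* X)
    (hk : f.ker = pCore 2 K) {L : Subgroup X} [L.Normal] [IsSimpleGroup L] (hL : L ≤ f.range)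
    (hC : Cs L = ⊥) (h5 : 5 ∣ Nat.card L) {b a : ℕ} (ho : Nat.card K ∣ 2 ^ b * 3 ^ a * 5)
    (fp : ∀ y : K, orderOf y = 5 → ∀ q ∈ pCore 2 K, q * y = y * q → q = 1) {T : Subgroup K}
    {𝓑 : Set (Subgroup K)} (hB : HasBaumannBlockStructure 2 T 𝓑) {E : Subgroup K} (hE : E ∈ 𝓑) :
    Nat.card (pCore 2 K) = 16 ∧ Nat.card L ∣ 60 := by
  obtain ⟨h1, h2, h3, -⟩ := hB
  have ne : ∀ E ∈ 𝓑, E.map f ≠ ⊥ := fun E hE e => by
    have h4 : E ≤ ⊥ := (h1 E hE).1.ge.trans (Local.resOf_le_of_pow_mem fun x hx => by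
      obtain ⟨k, e'⟩ := Solv.pCore_isPGroup 2 K ⟨x, hk.le ((map_eq_bot_iff E).1 e hx)⟩
      exact ⟨k, congrArg Subtype.val e'⟩)
    exact (h1 E hE).2.2.2.1 (by rw [le_bot_iff.1 h4, commutator_bot_left])
  have hn : (sSup 𝓑).Normal := ⟨fun n hn g => (show cj g (sSup 𝓑) ≤ sSup 𝓑 from
    map_le_iff_le_comap.2 (sSup_le fun E hE => map_le_iff_le_comap.1 (le_sSup (h2 E hE g))))
    (conj_mem_cj.2 hn)⟩
  have hLB : L ≤ (sSup 𝓑).map f := le_of_norm hC
    (fun e => ne E hE (le_bot_iff.1 ((map_mono (le_sSup hE)).trans e.le)))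
    (hL.trans (by
      rw [MonoidHom.range_eq_map]
      exact (map_mono le_normalizer_of_normal).trans (le_normalizer_map f)))
  have hLE : ∀ E ∈ 𝓑, L ≤ E.map f := fun E hE => le_of_norm hC (ne E hE)
    (hLB.trans ((map_mono (sSup_le fun E' hE' => by
      by_cases e : E' = E
      · exact e ▸ le_normalizer
      · exact (commutator_eq_bot_iff_le_centralizer.1 (h3 _ hE' _ hE e)).trans Cs_le_Ns)).trans
      (le_normalizer_map f)))
  have hN : ⊤ ≤ Ns E := fun g _ => mem_Ns_iff.2 (by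
    by_contra e
    refine not_comm hC h5 (commutator_eq_bot_iff_le_centralizer.1 (le_bot_iff.1 ?_))
    refine (commutator_mono (hLE _ (h2 E hE g)) (hLE E hE)).trans ?_
    rw [← map_commutator, h3 _ (h2 E hE g) _ hE e, Subgroup.map_bot])
  have hd : Nat.card L ∣ Nat.card (E.map f) := card_dvd_of_le (hLE E hE)
  have : Fact (Nat.Prime 5) := ⟨Nat.prime_five⟩
  obtain ⟨y, hy⟩ := exists_prime_orderOf_dvd_card' 5 ((h5.trans hd).trans (card_map_dvd E f))
  rw [← orderOf_coe] at hy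
  have hQ : pCore 2 K ≤ E := fun q hq => by
    let c : pCore 2 K → pCore 2 K := fun q => ⟨q * (y * q⁻¹ * (y : K)⁻¹),
      mul_mem q.2 ((inferInstance : (pCore 2 K).Normal).conj_mem _ (inv_mem q.2) _)⟩
    have ci : Function.Injective c := fun p q e => by
      have e' : (p : K) * (y * p⁻¹ * (y : K)⁻¹) = q * (y * q⁻¹ * (y : K)⁻¹) := congrArg Subtype.val e
      have := fp _ hy _ (mul_mem (inv_mem q.2) p.2) (by
        calc _ = (q : K)⁻¹ * (p * (y * p⁻¹ * (y : K)⁻¹)) * y * p := by simp [mul_assoc]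
          _ = _ := by rw [e']; simp [mul_assoc])
      exact Subtype.ext (inv_mul_eq_one.1 this).symm
    obtain ⟨p, e⟩ := Finite.surjective_of_injective ci ⟨q, hq⟩
    have e' : q = p * y * (p : K)⁻¹ * (y : K)⁻¹ := by
      rw [← show (c p : K) = q from congrArg Subtype.val e]
      simp [c, mul_assoc]
    rw [e']
    exact mul_mem (mem_normalizer_conj (hN (mem_top _)) y.2) (inv_mem y.2)
  have hW : pCoreOf 2 E = pCore 2 K := by
    rw [Local.pCoreOf_eq_inf_of_normal le_top hN, Local.pCoreOf_top, inf_eq_left.2 hQ]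
  have hc : Nat.card (E ⧸ pCore 2 E) = Nat.card (E.map f) := by
    rw [← relIndex_ker, hk, ← hW, relIndex, Local.pCoreOf_subgroupOf, index_eq_card]
  have := block (h1 E hE) ho (hc ▸ h5.trans hd) fun q hq hc =>
    fp _ hy q (hW.le hq) (mem_Cs.1 hc _ y.2).symm
  rw [hW, hc] at this
  exact ⟨this.1, this.2 ▸ hd⟩

theorem mid {G : Type u} {X : Type v} [Group G] [Finite G] [Group X] (hG : Gl G)
    {H S₀ : Subgroup G} (f : H →* X) (hk : f.ker = (O2 H).subgroupOf H) (ch : H ⊓ Cs (O2 H) ≤ O2 H)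
    (ne : O2 H ≠ ⊥) {L : Subgroup X} [L.Normal] [IsSimpleGroup L] (hL : L ≤ f.range)
    (hC : Cs L = ⊥) (h5 : 5 ∣ Nat.card L) (hS : IsSylowIn 2 S₀ H) (hN : NC S₀) (hU : Um S₀ H) :
    Nat.card (O2 H) = 16 ∧ Nat.card L ∣ 60 := by
  obtain ⟨Y, hY, hY'⟩ := hU
  obtain ⟨T, hT⟩ := hS.subgroupOf_top.exists_sylow_eq
  have eT : (T : Subgroup H).map H.subtype = S₀ := by
    rw [hT, subgroupOf_map_subtype, inf_eq_left.2 hS.le]
  have ns : ¬ Group.IsSolvable H := fun s => by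
    have := Group.isSolvable_of_surjective f.rangeRestrict_surjective
    have := Group.isSolvable_of_isSolvable_injective (inclusion_injective hL)
    exact not_comm hC h5 fun x hx => mem_Cs.2 fun y hy => congrArg Subtype.val
      (IsSimpleGroup.comm_iff_isSolvable.2 this ⟨y, hy⟩ ⟨x, hx⟩)
  have hne : charNormalizersJoin (T : Subgroup H) ≠ ⊤ := fun e => by
    refine hY.not_ge (subgroupOf_eq_top.1 (top_le_iff.1 (e.ge.trans (iSup_le ?_))))
    rintro ⟨C, h1, h2, h3⟩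
    have h4 := BB.red_char_map H.subtype_injective h3
    rw [eT] at h4
    have h6 : C.map H.subtype ≤ S₀ := eT ▸ map_mono h1
    have := hN _ (hS.isPGroup.to_le h6)
      (fun e => h2 ((map_eq_bot_iff_of_injective _ H.subtype_injective).1 e))
      (BB.norm_le_of_char h6 h4)
    refine map_le_iff_le_comap.1 (hY' _ ?_ (lt_of_le_of_ne (map_subtype_le _) fun e => ns ?_))
    · rw [← eT]
      exact map_mono (le_normalizer.trans (BB.norm_le_of_char h1 h3))
    · exact Group.isSolvable_of_isSolvable_injective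
        (inclusion_injective (e.ge.trans (le_normalizer_map _)))
  rw [Local.pCoreOf_subgroupOf] at hk
  obtain ⟨𝓑, hB, -⟩ := Cfsg.Agent.S2980.result (p := 2) (fun x hx => by
    rw [← Local.pCoreOf_subgroupOf]
    refine ch ⟨x.2, mem_Cs.2 ?_⟩
    rintro _ ⟨q, hq, rfl⟩
    exact congrArg Subtype.val (hx q hq)) T hne
  obtain ⟨E, hE⟩ : 𝓑.Nonempty := Set.nonempty_iff_ne_empty.2 fun e => hne (top_le_iff.1 (by
    have h1 := hB.2.2.2.1
    rw [e, sSup_empty, sup_bot_eq] at h1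
    refine h1.ge.trans (BB.cs_le_cc T.isPGroup' fun e => ne (le_bot_iff.1 ?_))
    refine (Local.pCoreOf_le_sylowIn hS).trans ?_
    rw [← eT, e, Subgroup.map_bot]))
  obtain ⟨b, a, -, ho⟩ := hG.ord
  have := core f hk hL hC h5 (ho ▸ card_subgroup_dvd_card H) (fun y hy q hq e => by
    rw [← orderOf_coe] at hy
    have h1 : (q : G) ∈ zpowers (y : G) := hG.c5 _ hy ▸ mem_C1.2 (congrArg Subtype.val e)
    obtain ⟨k, hk⟩ := Solv.pCore_isPGroup 2 H ⟨q, hq⟩
    have h2 : orderOf q ∣ 2 ^ k := orderOf_dvd_of_pow_eq_one (congrArg Subtype.val hk)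
    have h3 : orderOf q ∣ 5 := by
      rw [← orderOf_coe, ← hy]
      exact orderOf_dvd_of_mem_zpowers h1
    exact orderOf_eq_one_iff.1 (Nat.eq_one_of_dvd_coprimes
      (Nat.Coprime.pow_left k (by norm_num : Nat.Coprime 2 5)) h2 h3)) hB hE
  rwa [← card_map_of_injective H.subtype_injective] at this

theorem cs5 : Cs (alternatingGroup (Fin 5)) = ⊥ := le_bot_iff.1 fun σ hσ => by
  have key : ∀ σ : S5, Equiv.swap 0 1 * Equiv.swap 1 2 * σ = σ * (Equiv.swap 0 1 * Equiv.swap 1 2) →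
      Equiv.swap 2 3 * Equiv.swap 3 4 * σ = σ * (Equiv.swap 2 3 * Equiv.swap 3 4) → σ = 1 := by
    decide +kernel
  exact key σ (mem_Cs.1 hσ _ (Equiv.Perm.mem_alternatingGroup.2 (by decide)))
    (mem_Cs.1 hσ _ (Equiv.Perm.mem_alternatingGroup.2 (by decide)))

theorem five {G : Type u} [Group G] [Finite G] (hG : Gl G) {H S₀ : Subgroup G} (f : H →* S5)
    (hk : f.ker = (O2 H).subgroupOf H) (ch : H ⊓ Cs (O2 H) ≤ O2 H) (ne : O2 H ≠ ⊥)
    (hL : alternatingGroup (Fin 5) ≤ f.range) (hS : IsSylowIn 2 S₀ H) (hN : NC S₀) (hU : Um S₀ H) :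
    Nat.card (O2 H) = 16 ∧ ¬ 9 ∣ Nat.card H := by
  have : IsSimpleGroup A5 := alternatingGroup.isSimpleGroup (by simp)
  have h1 := (mid hG f hk ch ne hL cs5 (by
    rw [nat_card_alternatingGroup, Nat.card_eq_fintype_card, Fintype.card_fin]
    decide) hS hN hU).1
  refine ⟨h1, fun h9 => ?_⟩
  have h2 := card_subgroup_dvd_card f.range
  rw [Nat.card_perm, Nat.card_eq_fintype_card (α := Fin 5), Fintype.card_fin] at h2
  rw [← f.ker.card_mul_index, index_ker, hk,
    Nat.card_congr (subgroupOfEquivOfLe (Local.pCoreOf_le H)).toEquiv, h1] at h9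
  exact absurd ((Nat.Coprime.dvd_of_dvd_mul_left (by norm_num) h9).trans h2) (by decide)

end PU

open PU

theorem pu : StPU.{u} := by
  intro G _ _ hG H S₀ ht hS hN hU
  rcases ht with ⟨π, h⟩ | ⟨π, h⟩ | ⟨X, _, _, π, L, h, _, hC, hL⟩
  · obtain ⟨f, -, hs, hk⟩ := P8.PjBH.hom h.toPj
    refine five hG ((alternatingGroup (Fin 5)).subtype.comp f) ?_ h.ch h.ne (fun x hx => ?_) hS hN hU
    · rw [MonoidHom.ker_comp_of_injective _ _ (subtype_injective _), hk]
    · obtain ⟨g, hg⟩ := hs ⟨x, hx⟩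
      exact ⟨g, congrArg Subtype.val hg⟩
  · obtain ⟨f, -, hs, hk⟩ := P8.PjBH.hom h.toPj
    exact five hG f hk h.ch h.ne (fun x _ => hs x) hS hN hU
  · obtain ⟨f, -, hs, hk⟩ := P8.PjBH.hom h.toPj
    have key : IsSimpleGroup L ∧ 360 ∣ Nat.card L := by
      rcases hL with ⟨⟨e⟩⟩ | ⟨F, _, _, hF, ⟨e⟩⟩
      · have : IsSimpleGroup A6 := alternatingGroup.isSimpleGroup (by simp)
        refine ⟨e.isSimpleGroup, ?_⟩
        rw [Nat.card_congr e.toEquiv, nat_card_alternatingGroup, Nat.card_eq_fintype_card,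
          Fintype.card_fin]
        decide
      · have := Class.Form.isSimpleGroup_PSU (q := 2) hF 4 (by norm_num) (by norm_num)
        refine ⟨e.isSimpleGroup, ?_⟩
        have := Class.Form.card_PSU (q := 2) hF 4 (by norm_num)
        rw [show Class.Form.guOrder 2 4 = 3 * 25920 by decide +kernel,
          show Nat.gcd 4 (2 + 1) = 1 from rfl] at this
        rw [Nat.card_congr e.toEquiv]
        omega
    have := key.1
    exact absurd (key.2.trans (mid hG f hk h.ch h.ne (fun x _ => hs x) hC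
      ((by norm_num : 5 ∣ 360).trans key.2) hS hN hU).2) (by norm_num)

end Cfsg.Lib.K35
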